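import Cfsg.Agent.H17.Part3
import Cfsg.Agent.H22.AutK
import Cfsg.Agent.H2.BSWCor
import Cfsg.Agent.H18.Bender
import Cfsg.Agent.H9.IsoP
import Cfsg.Agent.H10.PSL2Max

/-! Groups with a partition, part 3: trivial Fitting subgroup. `dih` (generalized dihedral centralizer of a central
involution with a TI abelian subgroup: `PSL₂(q)` or `PGL₂(q)`), `NP.caseB`. -/

set_option autoImplicit false
set_option linter.unusedSectionVars false
set_option linter.unusedVariables false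

namespace H117
open Subgroup Cfsg H18 H1
open scoped commutatorElement MatrixGroups

variable {G : Type*} [Group G] [Finite G] {c : G → Subgroup G} {A E H K M N P Q T V : Subgroup G}
  {a b g s t u v w x y z : G} {p q r : ℕ}

/-- `G ≅ PSL₂(q)`, `q ≥ 4` -/
def IsL2 (G : Type*) [Group G] : Prop :=
  ∃ (F : Type) (_ : Field F) (_ : Fintype F), 4 ≤ Fintype.card F ∧ Nonempty (G ≃* PSL(2, F))
/-- `G ≅ PGL₂(q)`, `q ≥ 5` odd -/
def IsPGL2 (G : Type*) [Group G] : Prop :=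
  ∃ (F : Type) (_ : Field F) (_ : Fintype F), 5 ≤ Fintype.card F ∧ Odd (Fintype.card F) ∧
    Nonempty (G ≃* (GL (Fin 2) F ⧸ Subgroup.center (GL (Fin 2) F)))

theorem pgl_of {F : Type} [Field F] [Fintype F] (ho : Odd (Fintype.card F)) (e : E ≃* PSL(2, F)) (nE : ⊤ ≤ N(E))
    (hC : C(E) = ⊥) (t2 : t * t = 1) (tE : t ∉ E) (hs : E ⊔ zpowers t = ⊤) (nf : H22.NF (E ⊓ C1(t))) :
    Nonempty (G ≃* (GL (Fin 2) F ⧸ Subgroup.center (GL (Fin 2) F))) := by
  have h2 := H24.two_ne_zero_of_odd ho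
  obtain ⟨f, hf, hE⟩ := H22.exists_conj_hom e
  obtain ⟨M, hM⟩ := H25.exists_PG h2
  have tN := nE (mem_top t)
  have h4 := H22.mim_inf_C1' (f := f) le_N (by rw [hf, hC, inf_bot_eq]) tN tN
  have h6 := h4 ▸ nf.mim (f := f) (inf_le_left.trans le_N)
  rw [← hM] at hE
  obtain ⟨τ, hτ⟩ := H22.pg_tau M (hE ▸ h6) (by rw [← mfun_mul tN tN, t2, mfun_one])
  have h7 : mim f ⊤ = M.E ⊔ zpowers (mfun f t) := by rw [← hs, mim_sup le_N (zpowers_le.2 tN), mim_zpowers tN, hE]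
  have h8 : mim f ⊤ = M.D.range := by
    refine (eq_or_eq_of_prime_relIndex (H22.pg_relIndex M h2 ▸ Nat.prime_two) (h7 ▸ le_sup_left)
      (h7 ▸ sup_le M.E_le (zpowers_le.2 ⟨τ, hτ⟩))).resolve_left fun k => tE ?_
    exact mem_of_mfun_mem tN le_N (by rw [hf, hC]; exact bot_le) (hE ▸ k ▸ mfun_mem_mim (mem_top t))
  exact ⟨topEquiv.symm.trans ((mimEquiv f ⊤ nE (by rw [hf, hC, inf_bot_eq])).trans ((MulEquiv.subgroupCongr h8).trans
    ((QuotientGroup.quotientKerEquivRange M.D).symm.trans (QuotientGroup.quotientMulEquivOfEq M.ker_D))))⟩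

theorem dih (z2 : z * z = 1) (z1 : z ≠ 1) (zH : z ∈ H) (aH : Abel H)
    (out : ∀ g ∈ C1(z), g ∉ H → g * g = 1 ∧ ∀ x ∈ H, g * x * g⁻¹ = x⁻¹)
    (two : ∀ a ∈ C1(z), ∀ b ∈ C1(z), a ∉ H → b ∉ H → a * b ∈ H)
    (ti : ∀ g x, x ∈ H → x ≠ 1 → g * x * g⁻¹ ∈ H → g ∈ C1(z)) (hT : Hall {2} T ⊤) (TC : T ≤ C1(z))
    (hF : F((⊤ : Subgroup G)) = ⊥) (ns : ¬ Solv (⊤ : Subgroup G)) : IsL2 G ∨ IsPGL2 G := by
  have := Fact.mk Nat.prime_two
  have nil : ∀ N : Subgroup G, ⊤ ≤ N(N) → Nil N → N = ⊥ := fun N h1 h2 => eq_bot_iff.2 (hF ▸ H18.le_fit ⟨le_top, h1⟩ h2)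
  have fix : ∀ g ∈ C1(z), g ∉ H → ∀ x ∈ H, x * x = 1 → x ∈ C1(g) := fun g hg hg' x hx x2 => mem_C1.2 (by
    have := (out g hg hg').2 x hx
    rw [H9.inv_eq_of_mul_self x2, mul_inv_eq_iff_eq_mul] at this; exact this.symm)
  have uniq : ∀ u ∈ H, u * u = 1 → u = 1 ∨ u = z := fun u hu u2 => by_contra fun k => by
    push Not at k
    have iso : IsIsolated z := fun g e => by
      have e' : g * z * g⁻¹ ∈ C1(z) := mem_C1.2 e.symm
      refine conj_eq_self_of_C1 ?_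
      by_cases k1 : g * z * g⁻¹ ∈ H
      · exact ti g z zH z1 k1
      have k2 : ∀ w ∈ H, w * w = 1 → g⁻¹ * w * g⁻¹⁻¹ ∈ C1(z) := fun w hw w2 => by
        have := fix _ e' k1 w hw w2
        rw [← cj_C1, mem_cj] at this; rwa [inv_inv]
      refine (inv_mem_iff (x := g)).1 (by_contra fun k3 => ?_)
      refine k3 (ti _ (u * z) (mul_mem hu zH) (fun e => k.2 ?_) ?_)
      · rw [eq_inv_of_mul_eq_one_left e, H9.inv_eq_of_mul_self z2]
      · rw [← conj_mul]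
        exact two _ (k2 u hu u2) _ (k2 z zH z2) (fun e => k3 (ti _ u hu k.1 e)) fun e => k3 (ti _ z zH z1 e)
    have := H9.zstar_two_center iso (k := 1) (by simpa [sq] using z2) (by
      rw [pPrimeCore_eq Nat.prime_two]
      by_contra e
      exact (solv_of_two' pcore_pi).fit_ne_bot e (nil _ (norm_fit pcore_nml.2) fit_nil))
    exact z1 (eq_one_of_eq_bot (nil _ (le_trans (fun g _ => mem_C1.2 (mem_center_iff.1 this g)) C1_le_N_zpowers)
      abel_zpowers.nil) (mem_zpowers z))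
  have cA : Cyc (T ⊓ H : Subgroup G) := (aH.mono inf_le_right).cyc_of_prank Nat.prime_two hT.pi.inf_left (by
    by_contra k
    obtain ⟨u, hu, v, hv, u2, v2, u1, v1, e⟩ := H13.exists_inv_top (not_le.1 k)
    exact e (((uniq u hu.2 u2).resolve_left u1).trans ((uniq v hv.2 v2).resolve_left v1).symm))
  obtain ⟨E, nE, iE, n2⟩ : ∃ E : Subgroup G, E ⊴ ⊤ ∧ PiNat {2} (E.relIndex ⊤) ∧ ∀ M : Subgroup E, M.index ≠ 2 := by
    obtain ⟨n, hn⟩ := H3.exists_index_pResidual (p := 2) (G := G)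
    exact ⟨pResidual 2 G, nml_top, by rw [relIndex_top_right, hn]; exact piNat_pow_self Nat.prime_two n, H22.no2_res⟩
  have TE := hT.sup_of_idx le_top iE
  have nsE : ¬ Solv E := fun k => ns (TE ▸ hT.pi.solv.sup_norm k (le_top.trans nE.2))
  have hS := hT.inf_nml nE
  have ncS : ¬ Cyc (T ⊓ E : Subgroup G) := fun k => nsE (by
    rw [← hS.sup_compl (H2.hall_of_cyc_two hS k)]
    exact hS.pi.solv.sup_norm (solv_of_two' pcore_pi) (hS.le.trans pcore_nml.2))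
  obtain ⟨s, hs, sH⟩ := SetLike.not_le_iff_exists.1 fun k : T ⊓ E ≤ H => ncS (cA.of_le (le_inf inf_le_left k))
  obtain ⟨s2, si⟩ := out s (TC hs.1) sH
  have zE : z ∈ E := by_contra fun k => ncS (Cyc.of_le (cyc_zpowers (x := s)) fun t ht => by
    have k1 : ∀ t ∈ T ⊓ E, t ∈ H → t = 1 := fun t ht ht' => by_contra fun t1 => by
      obtain ⟨a, ha, pa⟩ := exists_prime_pow_elt t1
      have a2 := (hT.pi.elt (zpowers_le.2 ht.1 ha)).eq_of_dvd pa dvd_rfl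
      exact k ((uniq a (zpowers_le.2 ht' ha) (H9.mul_self_of_orderOf a2)).resolve_left (ne_one_of_prime pa) ▸
        zpowers_le.2 ht.2 ha)
    by_cases e : t ∈ H
    · exact k1 t ht e ▸ one_mem _
    · rw [eq_inv_of_mul_eq_one_left (k1 _ (mul_mem ht hs) (two t (TC ht.1) s (TC hs.1) e sH))]
      exact inv_mem (mem_zpowers s))
  have ce : ∀ g : E, g * ⟨z, zE⟩ = ⟨z, zE⟩ * g ↔ (g : G) ∈ C1(z) := fun g => by rw [mem_C1, Subtype.ext_iff]; rfl
  have bsw : H2.BSW (⟨z, zE⟩ : E) (H.subgroupOf E) ⟨s, hs.2⟩ := by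
    refine ⟨H9.orderOf_eq_two.2 ⟨Subtype.ext z2, fun k => z1 (congrArg Subtype.val k)⟩,
      fun a ha b hb => Subtype.ext (comm_of_cent aH ha hb), zH, Subtype.ext s2, sH, fun g hg => ?_,
      fun x hx e => (uniq x hx (congrArg Subtype.val e)).imp Subtype.ext Subtype.ext, fun x hx => Subtype.ext (si x hx),
      fun g x hx x1 e => (ce g).2 (ti g x hx (fun k => x1 (Subtype.ext k)) e), fun x ox => ?_⟩
    · by_cases e : (g : G) ∈ H
      · exact Or.inl e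
      · exact Or.inr (two _ ((ce g).1 hg) s (TC hs.1) e sH)
    have h1 := hS.mim (f := MonoidHom.id E) le_rfl
    rw [mim_id, mim_id, subgroupOf_self] at h1
    obtain ⟨g, hg⟩ := H2.isConj_of_no_index_two h1 (Q := H.subgroupOf E) (index_eq_two_iff.2 ⟨⟨⟨s, hs.2⟩, hs⟩, fun a => by
      simp only [mem_subgroupOf, coe_mul]
      by_cases k : ((a : E) : G) ∈ H
      · exact Or.inr ⟨k, fun k' => sH ((mul_mem_cancel_left k).1 k')⟩
      · exact Or.inl ⟨two _ (TC a.2.1) s (TC hs.1) k sH, k⟩⟩) n2 ox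
    have h3 : orderOf (g * x * g⁻¹) = 2 := by rw [orderOf_conj, ox]
    have := (uniq _ hg (congrArg Subtype.val (H9.mul_self_of_orderOf h3))).resolve_left
      fun k => H9.ne_one_of_orderOf h3 (Subtype.ext k)
    exact (isConj_iff.2 ⟨g, Subtype.ext this⟩ : IsConj x ⟨z, zE⟩).symm
  obtain ⟨F, _, _, ho, hc, ⟨e⟩⟩ := bsw.psl2
  have h5 : 5 ≤ Fintype.card F := by
    have k1 := one_lt_card (H := H.subgroupOf E) (ne_bot_of_mem bsw.tK fun k => z1 (congrArg Subtype.val k))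
    have k2 : Fintype.card F ≠ 3 := fun k => nsE (H5.burnside_paqb (p := 2) (q := 3) (a := 2) (b := 1) Nat.prime_two
      Nat.prime_three ((Nat.card_congr e.toEquiv).trans (H10.card_PSL2_of 12 k (by norm_num))))
    obtain ⟨j, hj⟩ := ho
    omega
  by_cases ET : E = ⊤
  · subst ET
    exact Or.inl ⟨F, _, _, by omega, ⟨topEquiv.symm.trans e⟩⟩
  obtain ⟨a, ha⟩ := cA.gen
  have aA : a ∈ T ⊓ H := ha ▸ mem_zpowers a
  have TA : ∀ K : Subgroup G, a ∈ K → s ∈ K → T ≤ K := fun K h1 h2 t ht => by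
    have k : T ⊓ H ≤ K := ha ▸ zpowers_le.2 h1
    by_cases e : t ∈ H
    · exact k ⟨ht, e⟩
    · exact (mul_mem_cancel_right h2).1 (k ⟨mul_mem ht hs.1, two t (TC ht) s (TC hs.1) e sH⟩)
  have rE : a * s ∉ E := fun k => ET (by
    rw [← TE, eq_comm, sup_eq_right]; exact TA E ((E.mul_mem_cancel_right hs.2).1 k) hs.2)
  have r2 := (out _ (TC (mul_mem aA.1 hs.1)) fun k => sH ((H.mul_mem_cancel_left aA.2).1 k)).1
  refine Or.inr ⟨F, _, _, h5, ho, pgl_of ho e nE.2 ?_ r2 rE ?_ fun Q hQ pQ => ?_⟩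
  · refine nil _ (norm_C nE.2) (PiGrp.nil (p := 2) (piGrp_of_mim (f := coset E) C_le_N
      (((piGrp_quo_iff nE.2).2 iE).of_le (mim_mono le_top)) ?_))
    rw [mker_coset, inf_comm, nil _ (norm_Z nE.2) abel_Z.nil]; exact PiGrp.bot
  · rw [eq_top_iff, ← TE]
    refine sup_le (TA _ ?_ (mem_sup_left hs.2)) le_sup_left
    exact (mul_mem_cancel_right (mem_sup_left hs.2)).1 (mem_sup_right (mem_zpowers _))
  generalize a * s = r at rE r2 hQ
  obtain ⟨g, -, hg⟩ := sylow_le_cj Nat.prime_two hT (Q := Q ⊔ zpowers r) (pQ.sup_norm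
    (piElt_of_pow_eq_one Nat.prime_two (by rw [sq, r2])).zpowers ((hQ.trans inf_le_right).trans C1_le_N_zpowers)) le_top
  have rT : g * r * g⁻¹ ∈ T := hg (conj_mem_cj (mem_sup_right (mem_zpowers r)))
  have rE' : g * r * g⁻¹ ∉ E := fun k => rE (by simpa [mul_assoc] using conj_mem_N' (nE.2 (mem_top g)) k)
  have rH : g * r * g⁻¹ ∉ H := fun k => rE' (by
    rcases uniq _ k (H9.conj_sq r2 g) with e | e <;> rw [e]
    exacts [one_mem _, zE])
  refine (cyc_cj (g := g)).1 (Cyc.of_le (cyc_zpowers (x := z)) fun t ht => ?_)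
  have t1 : t ∈ T := hg (cj_mono le_sup_left ht)
  have t2 : t ∈ E := cj_le_of_mem_N (hQ.trans inf_le_left) (nE.2 (mem_top g)) ht
  have t3 : t ∈ C1(g * r * g⁻¹) := cj_C1 (g := g) (x := r) ▸ cj_mono (hQ.trans inf_le_right) ht
  have k : ∀ t ∈ H, t ∈ C1(g * r * g⁻¹) → t ∈ zpowers z := fun t h1 h2 => by
    have := (out _ (TC rT) rH).2 t h1
    rw [conj_eq_self_of_C1 (mem_C1_comm.1 h2)] at this
    rcases uniq t h1 (by nth_rw 1 [this]; exact inv_mul_cancel t) with e | e <;> rw [e]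
    exacts [one_mem _, mem_zpowers z]
  by_cases e : t ∈ H
  · exact k t e t3
  · exact (rE' ((mul_mem_cancel_left t2).1 (zpowers_le.2 zE (k _ (two t (TC t1) _ (TC rT) e rH) (mul_mem t3 C1_self))))).elim

theorem NP.caseB (h : NP c) (hn : ∀ x, x ≠ 1 → Nil (c x)) (hF : F((⊤ : Subgroup G)) = ⊥) :
    H13.IsZT G ∨ IsL2 G ∨ IsPGL2 G := by
  have ns : ¬ Solv (⊤ : Subgroup G) := fun k => k.fit_ne_bot (fun e => h.ne 1 (eq_top_iff.2 (e ▸ bot_le))) hF
  have nil : ∀ N : Subgroup G, ⊤ ≤ N(N) → Nil N → N = ⊥ := fun N h1 h2 => eq_bot_iff.2 (hF ▸ H18.le_fit ⟨le_top, h1⟩ h2)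
  obtain ⟨T, hT⟩ := exists_sylow Nat.prime_two (⊤ : Subgroup G)
  have T1 : T ≠ ⊥ := fun e => ns (solv_of_two' (e ▸ hT).compl_of_eq_bot)
  have Te : Even (Nat.card T) := even_iff_two_dvd.2 (hT.pi.dvd_card T1)
  by_cases B1 : ∃ z, z ≠ 1 ∧ T ≤ c z
  · obtain ⟨z, z1, hz⟩ := B1
    have H1 := ne_bot_of_mem (h.mem z) z1
    have NT : N(c z) ≠ ⊤ := fun e => H1 (nil _ e.ge (hn z z1))
    have two : ∀ u ∈ N(c z), PiElt {2} u → u ∈ c z := fun u hu pu =>
      pu.mem_of_nml hu nml_N ((hT.of_le (hz.trans le_N) le_top).idx_of_le hz)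
    have se : IsStronglyEmbedded N(c z) := ⟨NT, even_iff_two_dvd.2 (Te.two_dvd.trans (card_dvd (hz.trans le_N))),
      fun g hg => Nat.not_even_iff_odd.1 fun e => by
        obtain ⟨u, hu, u2, u1⟩ := H5.exists_inv_of_even e
        have pu : PiElt {2} u := piElt_of_pow_eq_one Nat.prime_two (by rw [sq, u2])
        refine u1 (eq_one_of_eq_bot (h.ti hg) ⟨two u hu.1 pu, mem_cj.2 (two _ (mem_cj.1 hu.2) ?_)⟩)
        simpa using pu.conj g⁻¹⟩
    have O1 : O[{2}ᶜ]((⊤ : Subgroup G)) = ⊥ := by_contra fun e =>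
      (solv_of_two' pcore_pi).fit_ne_bot e (nil _ (norm_fit pcore_nml.2) fit_nil)
    have O2 : O[{2}ᶜ](c z) = ⊥ := eq_bot_iff.2 (O1 ▸ nml_N.pcore_le_pcore.trans (se_O_le se))
    have pH : PiGrp {2} (c z) := by
      rw [← (hn z z1).pcore_sup (π := {2}), O2, sup_bot_eq]; exact pcore_pi
    refine Or.inl ((cc_cases ⟨fun x hx x1 y hy => by_contra fun k => k (two y (h.C1_le_N hx x1 hy) ?_),
      (hn z z1).Z_ne_bot H1⟩ NT (even_iff_two_dvd.2 (Te.two_dvd.trans (card_dvd hz))) (hn z z1).solv).resolve_left ns)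
    rw [PiElt, h.L0 x1 (mem_C1.1 hy).symm (h.eq hx x1 ▸ k)]; exact pH.elt hx
  push Not at B1
  have out : ∀ z ∈ Z(T), z ≠ 1 → orderOf z = 2 ∧ ∀ g ∈ C1(z), g ∉ c z → g * g = 1 ∧ ∀ x ∈ c z, g * x * g⁻¹ = x⁻¹ :=
    fun z hz z1 => by
    obtain ⟨s, hs, sH⟩ := SetLike.not_le_iff_exists.1 (B1 z z1)
    have oz := (hT.pi.elt hz.1).eq_of_dvd (h.L1 z1 (mem_C.1 hz.2 s hs).symm sH).1 dvd_rfl
    refine ⟨oz, fun g hg gH => ?_⟩
    have g2 := H9.mul_self_of_orderOf ((h.L0 z1 (mem_C1.1 hg).symm gH).trans oz)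
    exact ⟨g2, h.inv (h.C1_le_N (h.mem z) z1 hg) gH (g2 ▸ one_mem _)⟩
  by_cases B2 : ∃ z ∈ Z(T), z ≠ 1 ∧ ∃ k ∈ c z, k * k ≠ 1
  · obtain ⟨z, hz, z1, k, hk, k2⟩ := B2
    obtain ⟨oz, out⟩ := out z hz z1
    have z2 := H9.mul_self_of_orderOf oz
    have TC : T ≤ C1(z) := le_C1_iff.2 hz.2
    obtain ⟨s, hs, sH⟩ := SetLike.not_le_iff_exists.1 (B1 z z1)
    obtain ⟨s2, si⟩ := out s (TC hs) sH
    have k1 : k ≠ 1 := fun e => k2 (by rw [e, one_mul])
    have two : ∀ a ∈ C1(z), ∀ b ∈ C1(z), a ∉ c z → b ∉ c z → a * b ∈ c z := fun a ha b hb aH bH => by_contra fun e => by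
      have e1 := h.L0 k1 (mem_C.1 (mul_mem_C_of_inv (out a ha aH).2 (out b hb bH).2) k hk) (h.eq hk k1 ▸ e)
      exact k2 (by rw [← sq, ← orderOf_dvd_iff_pow_eq_one, ← e1, orderOf_dvd_iff_pow_eq_one, sq, (out _ (mul_mem ha hb) e).1])
    have aH : Abel (c z) := H5.abel_of_inverted s2 fun x hx => by rw [← si x hx, H9.inv_eq_of_mul_self s2]
    have ev : ∀ g ∈ N(c z), g ∉ c z → 2 ∣ orderOf g → g ∈ C1(z) := fun g hg gH e => by
      have g2 := H9.mul_self_of_orderOf (h.L2 (hn z z1) hg gH Nat.prime_two e (oz ▸ orderOf_dvd_card (h.mem z)))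
      have := h.inv hg gH (g2 ▸ one_mem _) z (h.mem z)
      rw [H9.inv_eq_of_mul_self z2, mul_inv_eq_iff_eq_mul] at this
      exact mem_C1.2 this
    have sN := h.C1_le_N (h.mem z) z1 (TC hs)
    refine Or.inr (dih z2 z1 (h.mem z) aH out two (fun g x hx x1 e => ?_) hT TC hF ns)
    have hg := h.mem_N hx x1 e
    by_cases gH : g ∈ c z
    · exact C_le_C1 (h.mem z) (aH gH)
    by_cases e2 : 2 ∣ orderOf g
    · exact ev g hg gH e2
    by_cases gs : g * s ∈ c z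
    · exact (mul_mem_cancel_right (TC hs)).1 (C_le_C1 (h.mem z) (aH gs))
    refine (mul_mem_cancel_right (TC hs)).1 (ev _ (mul_mem hg sN) gs ?_)
    have s' : g * s * g⁻¹ ∉ c z := fun k => sH (by simpa [mul_assoc] using conj_mem_N' hg k)
    have os : orderOf s = 2 := H9.orderOf_eq_two.2 ⟨s2, fun k => sH (k ▸ one_mem _)⟩
    have k3 := cs_eq_one (two _ (ev _ (mul_mem (mul_mem hg sN) (inv_mem hg)) s' (by rw [orderOf_conj, os])) s (TC hs) s' sH)
    have k4 : cs (c z) s * cs (c z) s = 1 := by rw [← mfun_mul sN sN, s2, mfun_one]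
    rw [mfun_mul (mul_mem (mul_mem hg sN) (inv_mem hg)) sN, mfun_conj hg sN, ← k4, mul_left_inj, mul_inv_eq_iff_eq_mul] at k3
    rw [← h.orderOf_cs (mul_mem hg sN) gs, mfun_mul hg sN, (show Commute _ _ from k3).orderOf_mul_eq_mul_orderOf_of_coprime
      (by rw [h.orderOf_cs hg gH, h.orderOf_cs sN sH, os]; exact ((Nat.Prime.coprime_iff_not_dvd Nat.prime_two).2 e2).symm),
      h.orderOf_cs sN sH, os]
    exact dvd_mul_left _ _
  push Not at B2
  have e2 : ∀ z ∈ Z(T), z ≠ 1 → ∀ g ∈ C1(z), g * g = 1 := fun z hz z1 g hg => by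
    by_cases e : g ∈ c z
    exacts [B2 z hz z1 g e, ((out z hz z1).2 g hg e).1]
  obtain ⟨z, hz, z1⟩ := exists_mem_ne_one' (hT.pi.nil.Z_ne_bot T1)
  have aT : Abel T := H5.abel_of_inverted (t := 1) (one_mul 1) fun u hu => by
    rw [one_mul, mul_one, H9.inv_eq_of_mul_self (e2 z hz z1 u (le_C1_iff.2 hz.2 hu))]
  refine Or.inl ((cc_cases ⟨fun x hx x1 => (hT.eq_of_le (aT.trans (C_le_C1 hx)) le_top (piGrp_of_elt fun g hg =>
    piElt_of_pow_eq_one Nat.prime_two (by rw [sq, e2 x ⟨hx, aT hx⟩ x1 g hg]))).le, hT.pi.nil.Z_ne_bot T1⟩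
    (fun e => T1 (nil _ e.ge hT.pi.nil)) Te hT.pi.solv).resolve_left ns)

end H117
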