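import Cfsg.Agent.H17.SF

/-! Products of subgroups: `Mul2 H X Y` (every element of `H` is `x y`), order formula, passage to Hall subgroups,
and factorization from the factorizations of centralizers (`mul2_of_cent`). -/

set_option autoImplicit false
set_option linter.unusedSectionVars false
set_option linter.unusedVariables false

namespace H17
open Subgroup Cfsg H18
open H1 (Cop)
open scoped commutatorElement Pointwise

variable {G : Type*} [Group G] [Finite G] {A B D E H K L M P Q R S U V W X Y Z : Subgroup G} {a b c x y : G}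
  {p q : ℕ} {π : Set ℕ}

def Mul2 (H X Y : Subgroup G) : Prop := ∀ g ∈ H, ∃ x ∈ X, ∃ y ∈ Y, g = x * y

theorem Mul2.relIndex_le (h : Mul2 H X Y) (hX : X ≤ H) : Y.relIndex H ≤ Y.relIndex X := by
  refine Nat.card_le_card_of_surjective (quotientSubgroupOfEmbeddingOfLE Y hX) fun z => ?_
  obtain ⟨g, rfl⟩ := QuotientGroup.mk_surjective z
  obtain ⟨x, hx, y, hy, e⟩ := h g g.2
  refine ⟨QuotientGroup.mk ⟨x, hx⟩, ?_⟩
  rw [quotientSubgroupOfEmbeddingOfLE_apply_mk, QuotientGroup.eq, mem_subgroupOf]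
  simpa [e] using hy

theorem mul2_of_card (hX : X ≤ H) (hY : Y ≤ H)
    (h : Nat.card H * Nat.card ↥(X ⊓ Y) ≤ Nat.card X * Nat.card Y) : Mul2 H X Y := fun g hg => by
  refine exists_mul_of_relIndex hX ?_ hg hY
  rw [← card_mul_relIndex hY, ← card_mul_relIndex' (A := Y) (B := X), inf_comm X Y] at h
  refine Nat.le_of_mul_le_mul_left (?_ : (Nat.card Y * Nat.card ↥(Y ⊓ X)) * _ ≤ _) (Nat.mul_pos card_pos' card_pos')
  calc _ = Nat.card Y * Y.relIndex H * Nat.card ↥(Y ⊓ X) := by ring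
    _ ≤ _ := h
    _ = _ := by ring

theorem Mul2.card (h : Mul2 H X Y) (hX : X ≤ H) (hY : Y ≤ H) :
    Nat.card H * Nat.card ↥(X ⊓ Y) = Nat.card X * Nat.card Y := by
  refine le_antisymm ?_ (mul_comm (Nat.card H) _ ▸ card_mul_le hX hY)
  have := h.relIndex_le hX
  rw [← card_mul_relIndex hY, ← card_mul_relIndex' (A := Y) (B := X), inf_comm X Y]
  calc _ = (Nat.card Y * Nat.card ↥(Y ⊓ X)) * Y.relIndex H := by ring
    _ ≤ (Nat.card Y * Nat.card ↥(Y ⊓ X)) * Y.relIndex X := Nat.mul_le_mul_left _ this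
    _ = _ := by ring

theorem Mul2.hall (h : Mul2 H X Y) (hX : X ≤ H) (hY : Y ≤ H) (hS : Hall π S H) (h1 : Hall π (S ⊓ X) X)
    (h2 : Hall π (S ⊓ Y) Y) : Mul2 S (S ⊓ X) (S ⊓ Y) := by
  refine mul2_of_card inf_le_left inf_le_left (Nat.le_of_dvd (Nat.mul_pos card_pos' card_pos') ?_)
  refine PiNat.dvd_of_dvd_mul (hS.pi.mul hS.pi.inf_left.inf_left) (h1.idx.mul h2.idx) ?_
  have e := h.card hX hY
  rw [← card_mul_relIndex h1.le, ← card_mul_relIndex h2.le] at e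
  rw [show ∀ a b c d : ℕ, a * b * (c * d) = a * c * (b * d) from fun _ _ _ _ => by ring, ← e]
  exact mul_dvd_mul (card_dvd hS.le) (card_dvd (inf_le_inf inf_le_right inf_le_right))

theorem Mul2.set_eq (h : Mul2 H X Y) (hX : X ≤ H) (hY : Y ≤ H) : (H : Set G) = (X : Set G) * (Y : Set G) :=
  Set.ext fun g => ⟨fun hg => let ⟨x, hx, y, hy, e⟩ := h g hg; ⟨x, hx, y, hy, e.symm⟩,
    fun ⟨_, hx, _, hy, e⟩ => e ▸ H.mul_mem (hX hx) (hY hy)⟩
theorem mul2_of_set_eq (h : (H : Set G) = (X : Set G) * (Y : Set G)) : Mul2 H X Y := fun g hg =>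
  let ⟨x, hx, y, hy, e⟩ := (h ▸ hg : g ∈ (X : Set G) * (Y : Set G)); ⟨x, hx, y, hy, e.symm⟩

theorem mul2_of_cent_nil (hA : Abel A) (hc : ¬ Cyc A) (h : Cop A S) (hS : Nil S) (hX : X ≤ S)
    (hf : ∀ a ∈ A, a ≠ 1 → Mul2 (S ⊓ C1(a)) X Y) : Mul2 S X Y := by
  obtain ⟨W, -, ⟨h1, h2, h3⟩, hm⟩ := exists_maximal_sub (fun W => W ⊴ S ∧ A ≤ N(W) ∧ Mul2 W X Y) (A := ⊥)
    ⟨Nml.bot, by simp, fun g hg => ⟨1, one_mem _, 1, one_mem _, by simpa using hg⟩⟩
  by_contra h4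
  have h5 : S ⫽ W ≠ ⊥ := fun e => h4 (le_antisymm h1.le ((quo_eq_bot_iff h1.norm).1 e) ▸ h3)
  have hT : qpre W Z(S ⫽ W) ⊴ S := nml_qpre h1 nml_Z
  have hn : A ≤ N(qpre W Z(S ⫽ W)) := norm_mpre h2 (norm_Z (mim_norm h.norm))
  have h6 : ¬ qpre W Z(S ⫽ W) ≤ W := fun e => hS.mim.Z_ne_bot h5 (by rw [← quo_qpre (K := W) (U := Z(S ⫽ W))]; exact quo_eq_bot e)
  by_contra h7
  refine h6 (le_of_elt hA hc (h.sub hT.le hn) fun a ha h8 => ?_)
  set V := qpre W Z(S ⫽ W) ⊓ C1(a)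
  have hV : V ≤ S := inf_le_left.trans hT.le
  have h9 : ⁅V, S⁆ ≤ W := (comm_le_iff_quo (hV.trans h1.norm) h1.norm).2
    ((mim_mono inf_le_left).trans (quo_qpre.le.trans inf_le_right))
  refine le_sup_right.trans (hm (W ⊔ V) ⟨⟨sup_le h1.le hV, norm_iff_comm_le'.2 (comm_sup_le
    ((comm_le_left h1.norm).trans le_sup_left) (h9.trans le_sup_left) (le_norm le_sup_left) (le_norm le_sup_right))⟩,
    norm_sup h2 (norm_inf hn (norm_C1 (hA.trans (C_le_C1 ha)))), fun g hg => ?_⟩ le_sup_left).le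
  obtain ⟨w, hw, v, hv, rfl⟩ := (mem_sup_of_norm' (hV.trans h1.norm)).1 hg
  obtain ⟨x, hx, y, hy, rfl⟩ := hf a ha h8 v ⟨hV hv, hv.2⟩
  obtain ⟨x', hx', y', hy', e⟩ := h3 _ (conj_mem' h1.norm (hX hx) hw)
  exact ⟨x * x', mul_mem hx hx', y' * y, mul_mem hy' hy, by
    rw [show x * x' * (y' * y) = x * (x' * y') * y by group, ← e]; group⟩

theorem card_eq_of_sylows {m n : ℕ} (hm : m ≠ 0) (hn : n ≠ 0) (h : ∀ q, q.Prime → ∃ a b c, m = a * b ∧ n = a * c ∧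
    PiNat {q}ᶜ b ∧ PiNat {q}ᶜ c) : m = n := by
  refine Nat.eq_of_factorization_eq hm hn fun q => ?_
  by_cases hq : q.Prime
  · obtain ⟨a, b, c, rfl, rfl, h1, h2⟩ := h q hq
    rw [Nat.factorization_mul (left_ne_zero_of_mul hm) (right_ne_zero_of_mul hm),
      Nat.factorization_mul (left_ne_zero_of_mul hn) (right_ne_zero_of_mul hn)]
    simp [Nat.factorization_eq_zero_of_not_dvd ((piNat_compl_iff hq).1 h1),
      Nat.factorization_eq_zero_of_not_dvd ((piNat_compl_iff hq).1 h2)]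
  · simp [Nat.factorization_eq_zero_of_not_prime _ hq]

theorem mul2_of_cent (hA : Abel A) (hc : ¬ Cyc A) (h : Cop A K) (hX : X ≤ K) (hY : Y ≤ K) (nX : A ≤ N(X))
    (nY : A ≤ N(Y)) (hC : K ⊓ C(A) ≤ N(X)) (hf : ∀ a ∈ A, a ≠ 1 → Mul2 (K ⊓ C1(a)) (X ⊓ C1(a)) (Y ⊓ C1(a))) :
    Mul2 K X Y := by
  refine mul2_of_card hX hY (card_eq_of_sylows (Nat.mul_pos card_pos' card_pos').ne'
    (Nat.mul_pos card_pos' card_pos').ne' fun q hq => ?_).le
  obtain ⟨T, t1, t2⟩ := (h.sub (inf_le_left.trans hX) (norm_inf nX nY)).exists_sylow hq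
  obtain ⟨Q, q1, q2, q3⟩ := (h.sub hY nY).exists_sylow_ge hq (t1.le.trans inf_le_right) t1.pi t2
  obtain ⟨S, s1, s2, s3⟩ := h.exists_sylow_ge hq (q1.le.trans hY) q1.pi q3
  obtain ⟨P, p1, p2⟩ := (h.sub hX nX).exists_sylow hq
  obtain ⟨S', r1, r2, r3⟩ := h.exists_sylow_ge hq (p1.le.trans hX) p1.pi p2
  obtain ⟨c, hc1, e⟩ := coprime_Sylow_trans h hq r1 s1 r3 s3
  have hSX : Hall {q} (S ⊓ X) X := (p1.cj_N (hC hc1)).of_ge (le_inf (e ▸ cj_mono r2)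
    (cj_le_of_mem_N p1.le (hC hc1))) inf_le_right s1.pi.inf_left
  have hSY : Hall {q} (S ⊓ Y) Y := q1.of_ge (le_inf s2 q1.le) inf_le_right s1.pi.inf_left
  have hT : Hall {q} (S ⊓ X ⊓ (S ⊓ Y)) (X ⊓ Y) := t1.of_ge (le_inf (le_inf (q2.trans s2) (t1.le.trans inf_le_left))
    (le_inf (q2.trans s2) (t1.le.trans inf_le_right))) (inf_le_inf inf_le_right inf_le_right) s1.pi.inf_left.inf_left
  have key : Mul2 S (S ⊓ X) (S ⊓ Y) := mul2_of_cent_nil hA hc (h.sub s1.le s3) s1.pi.nil inf_le_left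
    fun a ha h1 g hg => by
      have c1 := h.left (zpowers_le.2 ha)
      have aux : ∀ X, X ≤ K → A ≤ N(X) → Hall {q} (S ⊓ X) X → Hall {q} (S ⊓ C1(a) ⊓ (X ⊓ C1(a))) (X ⊓ C1(a)) :=
        fun X a1 a2 a3 => by
          have := (c1.sub a1 ((zpowers_le.2 ha).trans a2)).sylow_inf_cent hq a3
            ((zpowers_le.2 ha).trans (norm_inf s3 a2))
          rwa [C_zpowers, inf_inf_distrib_right] at this
      have h2 := c1.sylow_inf_cent hq s1 ((zpowers_le.2 ha).trans s3)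
      rw [C_zpowers] at h2
      obtain ⟨x, hx, y, hy, e⟩ := (hf a ha h1).hall (inf_le_inf_right _ hX) (inf_le_inf_right _ hY) h2
        (aux X hX nX hSX) (aux Y hY nY hSY) g hg
      exact ⟨x, ⟨hx.1.1, hx.2.1⟩, y, ⟨hy.1.1, hy.2.1⟩, e⟩
  refine ⟨Nat.card ↥(S ⊓ X) * Nat.card ↥(S ⊓ Y), _, _, ?_, ?_, s1.idx.mul hT.idx, hSX.idx.mul hSY.idx⟩
  · rw [← key.card inf_le_left inf_le_left, ← card_mul_relIndex s1.le, ← card_mul_relIndex hT.le]; ring
  · rw [← card_mul_relIndex hSX.le, ← card_mul_relIndex hSY.le]; ring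

end H17
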