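import Mathlib

/-! Gauss's identity `4 p Φ_p(η) = p A² + B²` for primes `p ≡ 3 (mod 4)`. -/

set_option autoImplicit false

namespace H17.AmG
open Finset

theorem pG {K : Type*} [Field K] [CharZero K] (p : ℕ) (hp : p.Prime) (h3 : p % 4 = 3) (η : K) :
    ∃ A B : K, 4 * (p : K) * ∑ i ∈ Finset.range p, η ^ i = p * A ^ 2 + B ^ 2 := by
  classical
  by_cases h1 : η = 1
  · refine ⟨0, 2 * p, ?_⟩
    simp [h1]; ring
  have : Fact p.Prime := ⟨hp⟩
  have : NeZero p := ⟨hp.ne_zero⟩
  have : NeZero (p : K) := ⟨by exact_mod_cast hp.ne_zero⟩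
  let L := CyclotomicField p K
  have : IsGalois K L := IsCyclotomicExtension.isGalois {p} K L
  have : FiniteDimensional K L := IsCyclotomicExtension.finiteDimensional {p} K L
  have : CharZero L := algebraRat.charZero L
  obtain ⟨ζ, hζ⟩ : ∃ ζ : L, IsPrimitiveRoot ζ p := ⟨_, IsCyclotomicExtension.zeta_spec p K L⟩
  set ψ := AddChar.zmodChar p ((IsPrimitiveRoot.iff_def ζ p).mp hζ).left with hψ
  have hψp : ψ.IsPrimitive := AddChar.zmodChar_primitive_of_primitive_root p hζ
  have hchar : ringChar (ZMod p) ≠ 2 := by rw [ZMod.ringChar_zmod_n]; omega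
  set χ0 := quadraticChar (ZMod p) with hχ0
  set χ := χ0.ringHomComp (Int.castRingHom L) with hχ
  have hχ1 : χ ≠ 1 := (MulChar.ringHomComp_ne_one_iff (RingHom.injective_int _)).2 (quadraticChar_ne_one hchar)
  have hχ2 : χ.IsQuadratic := (quadraticChar_isQuadratic (ZMod p)).comp _
  have hm1 : χ0 (-1) = -1 := by
    rw [hχ0, quadraticChar_neg_one hchar, ZMod.card p, ZMod.χ₄_nat_three_mod_four h3]
  set g := gaussSum χ ψ with hg
  have hg2 : g ^ 2 = -(p : L) := by
    rw [hg, gaussSum_sq hχ1 hχ2 hψp, ZMod.card p]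
    simp [hχ, hm1]
    ring
  set e := algebraMap K L η with he
  let P : ℤ → L := fun ε => ∏ a ∈ univ.filter (fun a : ZMod p => χ0 a = ε), (e - ψ a)
  have hprod : P 1 * P (-1) = ∑ i ∈ range p, e ^ i := by
    have e1 : e - 1 ≠ 0 := sub_ne_zero.2 fun h => h1 ((algebraMap K L).injective (by rw [← he, h, map_one]))
    apply mul_right_cancel₀ e1
    rw [geom_sum_mul]
    have h2 := congrArg (Polynomial.eval e) (X_pow_sub_C_eq_prod hζ hp.pos (one_pow p))
    simp only [Polynomial.eval_sub, Polynomial.eval_pow, Polynomial.eval_X, Polynomial.eval_C,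
      Polynomial.eval_prod, mul_one] at h2
    rw [h2]
    have h4 : ∏ i ∈ range p, (e - ζ ^ i) = ∏ a : ZMod p, (e - ψ a) := by
      refine prod_nbij (fun i => (i : ZMod p)) (fun _ _ => mem_univ _) ?_ ?_ ?_
      · intro i hi j hj hij
        have := (ZMod.natCast_eq_natCast_iff' i j p).1 hij
        rwa [Nat.mod_eq_of_lt (mem_range.1 hi), Nat.mod_eq_of_lt (mem_range.1 hj)] at this
      · intro a _
        exact ⟨a.val, by simpa using ZMod.val_lt a, ZMod.natCast_zmod_val a⟩
      · intro i _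
        rw [hψ, AddChar.zmodChar_apply']
    rw [h4, ← prod_filter_mul_prod_filter_not univ (fun a : ZMod p => χ0 a = 1), mul_assoc]
    congr 1
    have h5 : univ.filter (fun a : ZMod p => ¬ χ0 a = 1) =
        insert 0 (univ.filter (fun a : ZMod p => χ0 a = -1)) := by
      ext a
      simp only [mem_filter, mem_univ, true_and, mem_insert]
      by_cases ha : a = 0
      · simp [ha, hχ0]
      · rcases quadraticChar_dichotomy ha with h | h <;> simp [hχ0, ha, h]
    rw [h5, prod_insert (by simp [hχ0]), mul_comm]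
    simp [P]
  have key : ∀ σ : L ≃ₐ[K] L, ∃ c : ℤ, (c = 1 ∨ c = -1) ∧ (∀ ε, σ (P ε) = P (c * ε)) ∧ σ g = c * g := by
    intro σ
    obtain ⟨k, -, hk⟩ := hζ.eq_pow_of_pow_eq_one (ξ := σ ζ) (by rw [← map_pow, hζ.pow_eq_one, map_one])
    have hσ : ∀ a, σ (ψ a) = ψ ((k : ZMod p) * a) := by
      intro a
      conv_rhs => rw [← ZMod.natCast_zmod_val a, ← Nat.cast_mul, hψ, AddChar.zmodChar_apply']
      rw [hψ, AddChar.zmodChar_apply, map_pow, ← hk, pow_mul]
    have hk0 : (k : ZMod p) ≠ 0 := by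
      intro h
      have h2 := hσ 1
      rw [h, zero_mul, AddChar.map_zero_eq_one, ← map_one σ] at h2
      have h4 := σ.injective h2
      rw [hψ, AddChar.zmodChar_apply, ZMod.val_one, pow_one] at h4
      exact hζ.ne_one hp.one_lt h4
    have hc := quadraticChar_dichotomy hk0
    have hcc : χ0 k * χ0 k = 1 := by rcases hc with h | h <;> simp [hχ0, h]
    refine ⟨χ0 k, hc, fun ε => ?_, ?_⟩
    · simp only [P, map_prod, map_sub, hσ, he, AlgEquiv.commutes]
      refine prod_nbij (fun a => (k : ZMod p) * a) ?_ ?_ ?_ (fun _ _ => rfl)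
      · intro a ha
        simp only [mem_filter, mem_univ, true_and] at ha ⊢
        rw [map_mul, ha]
      · intro a _ b _ hab
        exact mul_left_cancel₀ hk0 hab
      · intro b hb
        simp only [coe_filter, mem_univ, true_and, Set.mem_setOf_eq] at hb
        refine ⟨(k : ZMod p)⁻¹ * b, ?_, mul_inv_cancel_left₀ hk0 b⟩
        simp only [coe_filter, mem_univ, true_and, Set.mem_setOf_eq]
        have h6 : χ0 k * χ0 ((k : ZMod p)⁻¹ * b) = χ0 k * ε := by
          rw [← map_mul, mul_inv_cancel_left₀ hk0, hb]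
        have h7 : χ0 k ≠ 0 := fun h => by simp [h] at hcc
        exact mul_left_cancel₀ h7 h6
    · have h2 := gaussSum_mulShift χ ψ (Units.mk0 _ hk0)
      have h4 : σ g = gaussSum χ (ψ.mulShift (Units.mk0 _ hk0 : (ZMod p)ˣ)) := by
        simp only [hg, gaussSum, map_sum, map_mul, hσ, AddChar.mulShift_apply, Units.val_mk0]
        refine sum_congr rfl fun a _ => ?_
        simp [hχ]
      rw [← h4, ← hg] at h2
      have h5 : χ (Units.mk0 _ hk0 : (ZMod p)ˣ) = (χ0 k : L) := by simp [hχ]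
      rw [h5] at h2
      have hm : ((-1 : ℤ) : L) = -1 := by exact_mod_cast rfl
      have h1' : ((1 : ℤ) : L) = 1 := by exact_mod_cast rfl
      rcases hc with h | h
      · rw [show χ0 k = 1 from h, h1'] at h2 ⊢
        linear_combination h2
      · rw [show χ0 k = -1 from h, hm] at h2 ⊢
        linear_combination -h2
  obtain ⟨A, hA⟩ := IntermediateField.mem_bot.1 ((IsGalois.mem_bot_iff_fixed (F := K) (P 1 + P (-1))).2 fun σ => by
    obtain ⟨c, hc, h2, -⟩ := key σ
    rw [map_add, h2, h2]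
    rcases hc with rfl | rfl <;> simp [add_comm])
  obtain ⟨B, hB⟩ := IntermediateField.mem_bot.1 ((IsGalois.mem_bot_iff_fixed (F := K) ((P 1 - P (-1)) * g)).2 fun σ => by
    obtain ⟨c, hc, h2, h4⟩ := key σ
    rw [map_mul, map_sub, h2, h2, h4]
    rcases hc with rfl | rfl
    · simp
    · simp; ring)
  refine ⟨A, B, (algebraMap K L).injective ?_⟩
  simp only [map_mul, map_add, map_pow, map_sum, map_natCast, map_ofNat, hA, hB, ← he]
  rw [← hprod, mul_pow, hg2]
  ring

end H17.AmG
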