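import Cfsg.Agent.H17.Part3
import Cfsg.Agent.H21.Kazarin

/-! Camina's theorem on groups with two `p`-regular class sizes, part 1: `wlem`, equal-order partitions `PP` of the
`p'`-elements into abelian subgroups are trivial on a Hall subgroup (`PP.hall`). -/

set_option autoImplicit false
set_option linter.unusedSectionVars false
set_option linter.unusedVariables false

namespace H117
open Subgroup Cfsg H18 H1
open scoped commutatorElement MatrixGroups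

variable {G : Type*} [Group G] [Finite G] {c : G → Subgroup G} {A H K L M N P Q T V : Subgroup G}
  {a b g s t u v w x y z : G} {p q r : ℕ}

theorem wlem (nH : H ⊴ L) (zp : ∀ g ∈ L, g ∉ H → ∀ w ∈ zpowers g, w ∈ H → w = 1)
    (L2 : ∀ g ∈ L, g ∉ H → p ∣ orderOf g → orderOf g = p) (CH : L ⊓ C(H) ≤ H)
    (nil : ∀ N, H ≤ N → N ≤ L → Nil N → N ≤ H) (pp : p.Prime) (hy : y ∈ L) (hy' : y ∉ H) (oy : orderOf y = p) :
    ∀ z ∈ L, z ∉ H → z ^ p = 1 := by
  have m : ∀ {g}, g ∈ L → g ∈ N(H) := fun hg => nH.2 hg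
  have split : ∀ {N : Subgroup G} {g : G} {q : ℕ}, L ≤ N(N) → N ≤ L → g ∈ L → g ^ q ∈ N → ∀ k ∈ N, (k * g) ^ q ∈ N :=
    fun {N g q} hn hN hg e k hk => by
    have m := mul_mem (le_N hk) (hn hg)
    rw [← cs_eq_one_iff (pow_mem m q), mfun_pow m, mfun_mul (le_N hk) (hn hg), cs_eq_one hk, one_mul, ← mfun_pow (hn hg)]
    exact cs_eq_one e
  have iv : ∀ g ∈ L, g ∉ H → g * g ∈ H → ∀ y ∈ H, g * y * g⁻¹ = y⁻¹ := fun g hg hg' e y hy =>
    inv_of_split (K := H) (fun k hk => zp _ (mul_mem (nH.1 hk) hg) (fun k' => hg' ((mul_mem_cancel_left hk).1 k')) _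
      (pow_mem (mem_zpowers _) 2) (split nH.2 nH.1 hg (by rwa [sq]) k hk)) hy
  obtain ⟨s, M, ps, ML, M1, eM, nM⟩ : ∃ (s : ℕ) (M : Subgroup (Coset H)), s.Prime ∧ M ≤ L ⫽ H ∧ M ≠ ⊥ ∧ Elem s M ∧
      L ⫽ H ≤ N(M) := by
    rcases Nat.even_or_odd (Nat.card (L ⫽ H : Subgroup _)) with e | e
    · obtain ⟨v, hv, v2, v1⟩ := H5.exists_inv_of_even e
      obtain ⟨u, hu, rfl⟩ := (mem_quo nH.2).1 hv
      have u1 : u ∉ H := fun k => v1 (cs_eq_one k)
      rw [← mfun_mul (m hu) (m hu), cs_eq_one_iff (m (mul_mem hu hu))] at v2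
      refine ⟨2, zpowers (cs H u), Nat.prime_two, zpowers_le.2 hv, by simpa using v1, ⟨abel_zpowers, fun a ha => ?_⟩,
        le_trans (fun g hg0 => ?_) C1_le_N_zpowers⟩
      · obtain ⟨n, rfl⟩ := ha
        rw [← zpow_natCast, ← zpow_mul, mul_comm, zpow_mul, zpow_natCast, sq, ← mfun_mul (m hu) (m hu), cs_eq_one v2,
          one_zpow]
      · obtain ⟨g, hg, rfl⟩ := (mem_quo nH.2).1 hg0
        have hu' := mul_mem (mul_mem hg hu) (inv_mem hg)
        have := CH ⟨mul_mem hu' hu, mul_mem_C_of_inv (iv _ hu' (fun k => u1 (by simpa [mul_assoc] using conj_mem_N' (m hg) k))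
          (by simpa [mul_assoc] using conj_mem_N (m hg) v2)) (iv u hu u1 v2)⟩
        have k1 := cs_eq_one this
        have k2 := cs_eq_one v2
        rw [mfun_mul (m hu') (m hu)] at k1
        rw [mfun_mul (m hu) (m hu)] at k2
        rw [mfun_conj (m hg) (m hu), ← k2, mul_left_inj, mul_inv_eq_iff_eq_mul] at k1
        exact mem_C1.2 k1
    · obtain ⟨s, M, ps, ML, M1, eM, nM, -⟩ := (H1.solv_of_odd e).exists_elem_norm
        (fun k => hy' ((quo_eq_bot_iff nH.2).1 k hy)) le_N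
      exact ⟨s, M, ps, ML, M1, eM, nM⟩
  have nN : qpre H M ⊴ L := nml_qpre nH ⟨ML, nM⟩
  have N1 : ¬ qpre H M ≤ H := fun k => M1 (by rw [← quo_qpre (U := M)]; exact quo_eq_bot k)
  have HN : H ≤ qpre H M := le_qpre
  have hN : ∀ n ∈ qpre H M, n ^ s ∈ H := fun n hn => by
    rw [← cs_eq_one_iff (pow_mem (qpre_le hn) _), mfun_pow (qpre_le hn)]; exact eM.pow _ (mem_mpre.1 hn).2
  generalize qpre H M = N at nN N1 HN hN
  have key : ∀ y ∈ L, y ∉ H → (orderOf y).Prime → orderOf y ≠ s → p = orderOf y ∨ p = s → False :=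
    fun y yL hy py ys e => by
    have cop := (Nat.coprime_primes py ps).2 ys
    have yN : y ∉ N := fun k => ys ((Nat.prime_dvd_prime_iff_eq py ps).1 (orderOf_dvd_of_pow_eq_one
      (zp y yL hy _ (pow_mem (mem_zpowers y) s) (hN y k))))
    obtain ⟨n, hn', e1⟩ : ∃ n ∈ N, (n * y) ^ orderOf y ≠ 1 := by
      by_contra! k
      exact N1 (nil N HN nN.1 (H21.kegel py (nN.2 yL) k))
    have gL := mul_mem (nN.1 hn') yL
    have q1 : cs N (n * y) = cs N y := by rw [mfun_mul (le_N hn') (nN.2 yL), cs_eq_one hn', one_mul]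
    have g1 : n * y ∉ H := fun k => yN ((mul_mem_cancel_left hn').1 (HN k))
    have e2 : (n * y) ^ s ≠ 1 := fun k => yN ((cs_eq_one_iff (nN.2 yL)).1 (by
      have k1 : cs N y ^ s = 1 := by rw [← q1, ← mfun_pow (nN.2 gL), k, mfun_one]
      exact orderOf_eq_one_iff.1 (Nat.eq_one_of_dvd_coprimes cop (orderOf_mfun_dvd (nN.2 yL))
        (orderOf_dvd_of_pow_eq_one k1))))
    have e3 : orderOf (n * y) ∣ orderOf y * s := orderOf_dvd_of_pow_eq_one (zp _ gL g1 _ (pow_mem (mem_zpowers _) _) (by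
      rw [pow_mul]
      exact hN _ (split nN.2 nN.1 yL (pow_orderOf_eq_one y ▸ one_mem _) n hn')))
    have e4 : p ∣ orderOf (n * y) := by_contra fun k => by
      have cp := ((Nat.Prime.coprime_iff_not_dvd pp).2 k).symm
      rcases e with e | e
      · exact e2 (orderOf_dvd_iff_pow_eq_one.1 ((e ▸ cp).dvd_of_dvd_mul_left e3))
      · exact e1 (orderOf_dvd_iff_pow_eq_one.1 ((e ▸ cp).dvd_of_dvd_mul_right e3))
    have e5 := L2 _ gL g1 e4
    rcases e with e | e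
    · exact e1 (by rw [← e, ← e5, pow_orderOf_eq_one])
    · exact e2 (by rw [← e, ← e5, pow_orderOf_eq_one])
  intro z zL hz
  by_cases e : p ∣ orderOf z
  · rw [← L2 z zL hz e, pow_orderOf_eq_one]
  obtain ⟨a, ha, pa⟩ := exists_prime_pow_elt (x := z) fun k => hz (k ▸ one_mem _)
  by_cases e' : p = s
  · refine (key a (zpowers_le.2 zL ha) (fun k => ne_one_of_prime pa (zp z zL hz a ha k)) pa (fun k => e ?_)
      (Or.inr e')).elim
    rw [e', ← k]; exact orderOf_dvd_of_mem_zpowers ha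
  · exact (key y hy hy' (oy ▸ pp) (oy ▸ e') (Or.inl oy.symm)).elim

/-- a normal partition of the `p'`-elements into abelian subgroups of the same order -/
structure PP (p : ℕ) (c : G → Subgroup G) : Prop where
  pp : p.Prime
  mem : ∀ {x}, PiElt {p}ᶜ x → x ∈ c x
  eq : ∀ {x y}, x ≠ 1 → PiElt {p}ᶜ x → y ∈ c x → y ≠ 1 → c y = c x
  conj : ∀ g x, c (g * x * g⁻¹) = cj g (c x)
  abel : ∀ {x}, x ≠ 1 → PiElt {p}ᶜ x → Abel (c x)
  pi : ∀ x, PiGrp {p}ᶜ (c x)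
  card : ∀ {x y}, x ≠ 1 → PiElt {p}ᶜ x → y ≠ 1 → PiElt {p}ᶜ y → Nat.card (c x) = Nat.card (c y)
  cent : ∀ {x y}, x ≠ 1 → PiElt {p}ᶜ x → PiElt {p} y → x * y = y * x → y ∈ C(c x)
  two : ∃ a b : G, (orderOf a).Prime ∧ (orderOf b).Prime ∧ orderOf a ≠ p ∧ orderOf b ≠ p ∧ orderOf a ≠ orderOf b

namespace PP
variable (h : PP p c)
include h

theorem zp (x1 : x ≠ 1) (px : PiElt {p}ᶜ x) (py : PiElt {p}ᶜ y) (hy : y ∉ c x) (hw : w ∈ zpowers y) (hw' : w ∈ c x) :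
    w = 1 := by_contra fun w1 => hy (by
  rw [← h.eq x1 px hw' w1, h.eq (fun k : y = 1 => hy (k ▸ one_mem _)) py (zpowers_le.2 (h.mem py) hw) w1]; exact h.mem py)

theorem L0 (x1 : x ≠ 1) (px : PiElt {p}ᶜ x) (py : PiElt {p}ᶜ y) (e : x * y = y * x) (hy : y ∉ c x) :
    orderOf y = orderOf x := by
  have y1 : y ≠ 1 := fun k => hy (k ▸ one_mem _)
  have h1 : x * y ∉ c x := fun k => hy ((mul_mem_cancel_left (h.mem px)).1 k)
  have h2 : x * y ∉ c y := fun k => hy (h.eq y1 py ((mul_mem_cancel_right (h.mem py)).1 k) x1 ▸ h.mem py)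
  have h3 : ∀ n, (x * y) ^ n = x ^ n * y ^ n := (show Commute x y from e).mul_pow
  have p3 := px.mul' py e
  refine Nat.dvd_antisymm (orderOf_dvd_of_pow_eq_one (h.zp y1 py p3 h2 ?_ (pow_mem (h.mem py) _)))
    (orderOf_dvd_of_pow_eq_one (h.zp x1 px p3 h1 ?_ (pow_mem (h.mem px) _)))
  · have := pow_mem (mem_zpowers (x * y)) (orderOf x)
    rwa [h3, pow_orderOf_eq_one, one_mul] at this
  · have := pow_mem (mem_zpowers (x * y)) (orderOf y)
    rwa [h3, pow_orderOf_eq_one, mul_one] at this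

theorem exists_elt (x1 : x ≠ 1) (px : PiElt {p}ᶜ x) (r : ℕ) : ∃ a ∈ c x, (orderOf a).Prime ∧ orderOf a ≠ r := by
  obtain ⟨a, b, pa, pb, ap, bp, ab⟩ := h.two
  have k : ∀ a : G, (orderOf a).Prime → orderOf a ≠ p → ∃ u ∈ c x, orderOf u = orderOf a := fun a pa ap =>
    cauchy pa (h.card (ne_one_of_prime pa) (piElt_of_ne pa ap) x1 px ▸ orderOf_dvd_card (h.mem (piElt_of_ne pa ap)))
  by_cases e : orderOf a = r
  · obtain ⟨u, hu, ou⟩ := k b pb bp
    exact ⟨u, hu, ou ▸ pb, ou ▸ e ▸ ab.symm⟩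
  · obtain ⟨u, hu, ou⟩ := k a pa ap
    exact ⟨u, hu, ou ▸ pa, ou ▸ e⟩

theorem mem_of_C (x1 : x ≠ 1) (px : PiElt {p}ᶜ x) (py : PiElt {p}ᶜ y) (hy : y ∈ C(c x)) : y ∈ c x := by
  obtain ⟨a, ha, pa, ne⟩ := h.exists_elt x1 px (orderOf y)
  exact by_contra fun k => ne (h.L0 (ne_one_of_prime pa) ((h.pi x).elt ha) py (mem_C.1 hy a ha)
    (h.eq x1 px ha (ne_one_of_prime pa) ▸ k)).symm

theorem N_le_N (x1 : x ≠ 1) (px : PiElt {p}ᶜ x) (hA : A ≤ c x) (A1 : A ≠ ⊥) : N(A) ≤ N(c x) := fun g hg => by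
  obtain ⟨w, hw, w1⟩ := exists_mem_ne_one' A1
  rw [mem_N_iff_cj, ← h.eq x1 px (hA hw) w1, ← h.conj, h.eq x1 px (hA hw) w1]
  exact h.eq x1 px (hA (conj_mem_N hg hw)) (mt conj_eq_one_iff'.1 w1)

theorem C1_le_N (x1 : x ≠ 1) (px : PiElt {p}ᶜ x) : C1(x) ≤ N(c x) :=
  C1_le_N_zpowers.trans (h.N_le_N x1 px (zpowers_le.2 (h.mem px)) (by simpa using x1))

theorem L2 (x1 : x ≠ 1) (px : PiElt {p}ᶜ x) (pg : PiElt {p}ᶜ g) (hg : g ∈ N(c x)) (hg' : g ∉ c x) (hr : r.Prime)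
    (h1 : r ∣ orderOf g) : orderOf g = r := by
  obtain ⟨a, ha, oa⟩ := cauchy hr (card_zpowers' (x := g) ▸ h1)
  have a1 : a ≠ 1 := ne_one_of_prime (oa ▸ hr)
  have pa := pg.of_mem_zpowers ha
  have g1 : g ≠ 1 := fun k => hg' (k ▸ one_mem _)
  obtain ⟨w, hw, w1⟩ := exists_mem_ne_one' (PiGrp.meet_cent (piGrp_of_prime hr (card_zpowers'.trans oa))
    (pcore_pi (H := c x)) (norm_pcore (zpowers_le.2 (zpowers_le.2 hg ha))) ((h.abel x1 px).nil.pcore_hall.ne_bot_p hr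
      (h.card a1 pa x1 px ▸ oa ▸ orderOf_dvd_card (h.mem pa))))
  have wH := pcore_le hw.1
  have e1 : a * w = w * a := mem_C.1 hw.2 a (mem_zpowers a)
  have e2 : a * g = g * a := comm_of_zp rfl ha
  have ga : g ∈ c a := h.eq g1 pg (zpowers_le.2 (h.mem pg) ha) a1 ▸ h.mem pg
  by_cases k : w * g * w⁻¹ ∈ c a
  · have : w * g * w⁻¹ * g⁻¹ = 1 := by_contra fun k' => hg' (by
      rw [← h.eq x1 px (y := w * g * w⁻¹ * g⁻¹) (by
        rw [show w * g * w⁻¹ * g⁻¹ = w * (g * w⁻¹ * g⁻¹) by group]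
        exact mul_mem wH (conj_mem_N hg (inv_mem wH))) k', h.eq a1 pa (mul_mem k (inv_mem ga)) k']
      exact ga)
    rw [mul_inv_eq_one, mul_inv_eq_iff_eq_mul] at this
    obtain ⟨u, hu, pu⟩ := exists_prime_pow_elt w1
    have uH := zpowers_le.2 wH hu
    have := h.L0 (ne_one_of_prime pu) ((h.pi x).elt uH) pg (comm_of_zp this hu) (h.eq x1 px uH (ne_one_of_prime pu) ▸ hg')
    exact ((Nat.prime_dvd_prime_iff_eq hr (this ▸ pu)).1 h1).symm
  · rw [← orderOf_conj (g := w), h.L0 a1 pa (pg.conj w) _ k, oa]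
    calc a * (w * g * w⁻¹) = w * (a * g) * w⁻¹ := by rw [← mul_assoc, ← mul_assoc, e1]; group
      _ = w * g * (w⁻¹ * (w * a) * w⁻¹) := by rw [e2]; group
      _ = _ := by rw [← e1]; group

theorem nilC (x1 : x ≠ 1) (px : PiElt {p}ᶜ x) : Nil C(c x) :=
  nil_of_quo_center (K := c x) (cent_symm le_rfl) (PiGrp.nil (p := p) (piGrp_of_prime_elt
    fun u hu pu => by_contra fun k => by
      obtain ⟨d, hd, -, pd, rfl⟩ := exists_piElt_lift hu (piElt_of_ne pu k)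
      exact ne_one_of_prime pu (cs_eq_one (h.mem_of_C x1 px pd hd))))

theorem uniq (x1 : x ≠ 1) (px : PiElt {p}ᶜ x) (hy : y ∈ N(c x)) (hy' : y ∉ c x) (py : PiElt {p}ᶜ y)
    (hz : z ∈ N(c x)) (hz' : z ∉ c x) (pz : PiElt {p}ᶜ z) : orderOf z = orderOf y := by
  have AD : c x ≤ C(c x) := h.abel x1 px
  have nD : C(c x) ⊴ N(c x) := nml_C_N
  have hD := h.nilC x1 px
  have hP : Hall {p} O[{p}](C(c x)) C(c x) := hD.pcore_hall
  have nP : O[{p}](C(c x)) ⊴ N(c x) := nD.pcore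
  generalize O[{p}](C(c x)) = P at hP nP
  have m : ∀ {g}, g ∈ N(c x) → g ∈ N(P) := fun hg => nP.2 hg
  have nPD : P ⊴ C(c x) := nP.of_le hP.le C_le_N
  have mP : ∀ g ∈ C(c x), PiElt {p} g → g ∈ P := fun g hg pg => hP.mem_of_nml nPD.2 hg pg
  have cm : ∀ g ∈ N(c x), ∀ a ∈ c x, cs P g * cs P a = cs P a * cs P g → a * g = g * a := fun g hg a ha e => by
    have k : a⁻¹ * (g * a * g⁻¹) ∈ P := by
      rw [← cs_eq_iff (m (le_N ha)) (m (le_N (conj_mem_N hg ha))), mfun_conj (m hg) (m (le_N ha)), e, mul_inv_cancel_right]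
    have := eq_one_of_eq_bot (hP.pi.inf_eq_bot (h.pi x)) ⟨k, (c x).mul_mem (inv_mem ha) (conj_mem_N hg ha)⟩
    rw [inv_mul_eq_one, eq_mul_inv_iff_mul_eq] at this
    exact this
  have Z : ∀ g ∈ N(c x), g ∉ C(c x) → ∀ w ∈ zpowers g, w ∈ C(c x) → w ∈ P := fun g hg hg' w hw hw' => by
    refine mP w hw' (by_contra fun k => hg' ?_)
    have v1 : piPart {p}ᶜ w ≠ 1 := fun e => k (piPart_eq_one_iff.1 e).of_compl_compl
    have vA := h.mem_of_C x1 px piElt_piPart (piPart_mem hw')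
    have vg := zpowers_le.2 hw (piPart_mem_zpowers (π := {p}ᶜ) (x := w))
    refine mem_of_parts (π := {p}) ?_ (AD (by_contra fun k' => v1 (h.zp x1 px piElt_piPart k' ?_ vA)))
    · rw [← h.eq x1 px vA v1]
      exact h.cent v1 piElt_piPart piElt_piPart (comm_of_zp (comm_of_zp rfl piPart_mem_zpowers).symm vg)
    · obtain ⟨n, rfl⟩ := hw
      have e : g ^ n = piPart {p} g ^ n * piPart {p}ᶜ g ^ n := by
        rw [← (show Commute _ _ from piPart_comm_piPart).mul_zpow, piPart_mul_compl]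
      simp only [e]
      rw [piPart_eq' ((show Commute _ _ from piPart_comm_piPart).zpow_zpow n n)
        (piElt_piPart.of_mem_zpowers (zpow_mem_zpowers _ n)).compl_compl (piElt_piPart.of_mem_zpowers (zpow_mem_zpowers _ n))]
      exact zpow_mem_zpowers _ n
  have oc : ∀ g ∈ N(c x), PiElt {p}ᶜ g → orderOf (cs P g) = orderOf g := fun g hg pg =>
    orderOf_mfun (m hg) (by rw [mker_coset]; exact pg.zpowers.inf_eq_bot' hP.pi)
  have nq : ∀ g ∈ N(c x), g ∉ C(c x) → cs P g ∉ C(c x) ⫽ P := fun g hg hg' k => hg' (mem_of_cs_mem (m hg) nPD k)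
  have y1 : y ≠ 1 := fun k => hy' (k ▸ one_mem _)
  obtain ⟨s, ps, hs⟩ := Nat.exists_prime_and_dvd (mt orderOf_eq_one_iff.1 y1)
  have oy := h.L2 x1 px py hy hy' ps hs
  have sp : s ≠ p := fun k => py s ps hs k
  have := wlem (H := C(c x) ⫽ P) (L := N(c x) ⫽ P) (p := s) (y := cs P y) nD.mim (fun g hg hg' w hw hw' => ?_)
    (fun g hg hg' e => ?_) (fun g hg => ?_) (fun M h1 h2 h3 g hg => ?_) ps (mfun_mem_mim hy)
    (nq y hy fun k => hy' (h.mem_of_C x1 px py k)) ((oc y hy py).trans oy) (cs P z) (mfun_mem_mim hz)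
    (nq z hz fun k => hz' (h.mem_of_C x1 px pz k))
  · rw [← orderOf_dvd_iff_pow_eq_one, oc z hz pz] at this
    exact oy ▸ ((Nat.dvd_prime ps).1 this).resolve_left (mt orderOf_eq_one_iff.1 fun k => hz' (k ▸ one_mem _))
  · obtain ⟨g, gN, rfl⟩ := (mem_quo nP.2).1 hg
    obtain ⟨n, rfl⟩ := hw
    simp only [← mfun_zpow (m gN)] at hw' ⊢
    exact cs_eq_one (Z g gN (fun k => hg' (mfun_mem_mim k)) _ (zpow_mem_zpowers g n)
      (mem_of_cs_mem (zpow_mem (m gN) n) nPD hw'))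
  · obtain ⟨g, gN, rfl⟩ := (mem_quo nP.2).1 hg
    have gD : g ∉ C(c x) := fun k => hg' (mfun_mem_mim k)
    have e1 : s ∣ orderOf (piPart {p}ᶜ g) := by
      have := e.trans (orderOf_mfun_dvd (m gN))
      rw [← piPart_mul_compl (π := {p}) (x := g), (show Commute _ _ from piPart_comm_piPart).orderOf_mul_eq_mul_orderOf_of_coprime
        (piElt_piPart.coprime piElt_piPart)] at this
      exact ((Nat.Prime.dvd_mul ps).1 this).resolve_left fun k => sp (piElt_piPart.eq_of_dvd ps k)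
    have g1 : piPart {p}ᶜ g ≠ 1 := fun k => ps.one_lt.ne' (by simpa [k] using e1)
    have gA : piPart {p}ᶜ g ∉ c x := fun k => g1 ((hP.pi.elt (Z g gN gD _ piPart_mem_zpowers (AD k))).eq_one' piElt_piPart)
    have e2 := h.L2 x1 px piElt_piPart (piPart_mem gN) gA ps e1
    obtain ⟨w, hw, w1⟩ := exists_mem_ne_one' (PiGrp.meet_cent (piGrp_of_prime ps (card_zpowers'.trans e2))
      (pcore_pi (H := c x)) (norm_pcore (zpowers_le.2 (piPart_mem gN))) ((h.abel x1 px).nil.pcore_hall.ne_bot_p ps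
        (h.card g1 piElt_piPart x1 px ▸ e2 ▸ orderOf_dvd_card (h.mem piElt_piPart))))
    have wA := pcore_le hw.1
    have k1 := h.cent g1 piElt_piPart (piElt_piPart (π := {p}) (x := g)) piPart_comm_piPart
    have wN : w ∈ N(c (piPart {p}ᶜ g)) := h.C1_le_N g1 piElt_piPart (C_zpowers.le hw.2)
    have k2 : piPart {p} g ∈ C(c x) := by
      have k3 := (h.nilC g1 piElt_piPart).le_pcore (zpowers_le.2 k1) piElt_piPart.zpowers (mem_zpowers _)
      have k4 := eq_one_of_eq_bot (pcore_pi.inf_eq_bot (h.pi x)) (x := w * piPart {p} g * w⁻¹ * (piPart {p} g)⁻¹)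
        ⟨Subgroup.mul_mem _ (conj_mem_N (norm_pcore N_le_N_C wN) k3) (inv_mem k3), by
          rw [show w * piPart {p} g * w⁻¹ * (piPart {p} g)⁻¹ = w * (piPart {p} g * w⁻¹ * (piPart {p} g)⁻¹) by group]
          exact mul_mem wA (conj_mem_N (piPart_mem gN) (inv_mem wA))⟩
      rw [mul_inv_eq_one, mul_inv_eq_iff_eq_mul] at k4
      rw [← h.eq x1 px wA w1]
      exact h.cent w1 ((h.pi x).elt wA) piElt_piPart k4
    rw [← piPart_mul_compl (π := {p}) (x := g), mfun_mul (m (piPart_mem gN)) (m (piPart_mem gN)),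
      cs_eq_one (mP _ k2 piElt_piPart), one_mul, oc _ (piPart_mem gN) piElt_piPart, e2]
  · obtain ⟨g, gN, rfl⟩ := (mem_quo nP.2).1 hg.1
    exact mfun_mem_mim (mem_C.2 fun a ha => cm g gN a ha (mem_C.1 hg.2 _ (mfun_mem_mim (AD ha))).symm)
  · refine le_of_pElts (fun q hq u hu pu => ?_) hg
    obtain ⟨d, dN, -, pd, rfl⟩ := exists_piElt_lift (h2 hu) pu
    obtain ⟨a, ha, pa, aq⟩ := h.exists_elt x1 px q
    have e := cm d dN a ha (comm_of_cent (h3.cent_pi (zpowers_le.2 hu) (zpowers_le.2 (h1 (mfun_mem_mim (AD ha))))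
      pu.zpowers ((piElt_of_ne pa aq).mfun (m (le_N ha))).zpowers) (mem_zpowers _) (mem_zpowers _))
    refine mfun_mem_mim ?_
    rw [← h.eq x1 px ha (ne_one_of_prime pa)]
    by_cases k : q = p
    · exact h.cent (ne_one_of_prime pa) ((h.pi x).elt ha) (k ▸ pd) e
    · refine h.abel (ne_one_of_prime pa) ((h.pi x).elt ha) (by_contra fun k' => aq ?_)
      exact pd.eq_of_dvd pa (h.L0 (ne_one_of_prime pa) ((h.pi x).elt ha) (pd.p'_of_ne k) e k' ▸ dvd_rfl)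

theorem hall (x1 : x ≠ 1) (px : PiElt {p}ᶜ x) : Hall {p}ᶜ (c x) ⊤ := by
  refine ⟨le_top, h.pi x, fun s ps hs sp => ?_⟩
  have idx : ∀ z, z ≠ 1 → PiElt {p}ᶜ z → (c z).relIndex ⊤ = (c x).relIndex ⊤ := fun z z1 pz =>
    Nat.eq_of_mul_eq_mul_left (card_pos' (H := c x)) (by
      rw [H18.card_mul_relIndex le_top, h.card x1 px z1 pz, H18.card_mul_relIndex le_top])
  have ex : ∀ z, z ≠ 1 → PiElt {p}ᶜ z → ∀ r, r.Prime → r ≠ p → r ∣ (c z).relIndex ⊤ →
      ∃ y ∈ N(c z), y ∉ c z ∧ PiElt {r} y := fun z z1 pz r pr rp hr => by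
    obtain ⟨a, -, oa⟩ := cauchy pr (hr.trans relIndex_dvd)
    have pa : PiElt {p}ᶜ a := piElt_of_ne (oa ▸ pr) (oa ▸ rp)
    obtain ⟨T, hT⟩ := exists_sylow pr (c z)
    have T1 := hT.ne_bot_p pr (h.card (ne_one_of_prime (oa ▸ pr)) pa z1 pz ▸ oa ▸ orderOf_dvd_card (h.mem pa))
    obtain ⟨R, hR, TR⟩ := exists_sylow_le pr hT.pi (le_top : T ≤ ⊤)
    obtain ⟨y, hy, hy'⟩ := SetLike.exists_of_lt (hR.pi.nil.lt_norm (lt_of_le_of_ne TR fun e =>
      (piNat_compl_iff pr).1 (hR.idx_of_le (e ▸ hT.le)) hr))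
    exact ⟨y, h.N_le_N z1 pz hT.le T1 hy.2, fun k => hy' (hT.mem_of_nml ((h.abel z1 pz).norm hT.le) k (hR.pi.elt hy.1)),
      hR.pi.elt hy.1⟩
  obtain ⟨S, hS⟩ := exists_sylow ps (⊤ : Subgroup G)
  obtain ⟨z, hz, z1⟩ := exists_mem_ne_one' (hS.pi.nil.Z_ne_bot (hS.ne_bot_p ps (hs.trans relIndex_dvd)))
  have pz : PiElt {p}ᶜ z := (hS.pi.elt hz.1).p'_of_ne sp
  have SC : S ≤ C1(z) := le_C1_iff.2 hz.2
  have zO : z ∈ O[{p, s}]((⊤ : Subgroup G)) := H21.kazarin_pcore h.pp (by simp) (fun r pr hr => by_contra fun rp => by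
    rw [← relIndex_top_right] at hr
    have rs : r ≠ s := fun k => (piNat_compl_iff ps).1 (hS.idx_of_le SC) (k ▸ hr)
    obtain ⟨y, hy, hy', py⟩ := ex z z1 pz r pr rp (hr.trans (relIndex_dvd_left ((h.abel z1 pz).trans (C_le_C1 (h.mem pz)))))
    obtain ⟨y', hy2, hy2', py'⟩ := ex z z1 pz s ps sp (idx z z1 pz ▸ hs)
    have e := h.uniq z1 pz hy hy' (py.p'_of_ne rp) hy2 hy2' (py'.p'_of_ne sp)
    exact hy' ((py.eq_one' (by rw [PiElt, ← e]; exact py'.p'_of_ne rs.symm)) ▸ one_mem _))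
    ((hS.pi.elt hz.1).of_p (by simp))
  obtain ⟨y, hy, hy'⟩ := SetLike.not_le_iff_exists.1 fun k : S ≤ c z =>
    (piNat_compl_iff ps).1 (hS.idx_of_le k) (idx z z1 pz ▸ hs)
  have y1 : y ≠ 1 := fun k => hy' (k ▸ one_mem _)
  have py : PiElt {p}ᶜ y := (hS.pi.elt hy).p'_of_ne sp
  have zN : z ∈ N(c y) := h.C1_le_N y1 py (mem_C1_comm.1 (SC hy))
  obtain ⟨a, ha, pa, as⟩ := h.exists_elt y1 py s
  have ap : orderOf a ≠ p := fun k => (h.pi y).elt ha p h.pp (k ▸ dvd_rfl) rfl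
  have pa' : PiElt {p, s}ᶜ a := (piNat_prime pa).2 (by simp [ap, as])
  have e : z * a * z⁻¹ * a⁻¹ = 1 := PiElt.eq_one' (pcore_pi.elt (by
    rw [show z * a * z⁻¹ * a⁻¹ = z * (a * z⁻¹ * a⁻¹) by group]
    exact mul_mem zO (conj_mem_N (pcore_nml.2 (mem_top a)) (inv_mem zO))))
    ((pa'.conj z).mul' pa'.inv (comm_of_cent (h.abel y1 py) (conj_mem_N zN ha) (inv_mem ha)))
  rw [mul_inv_eq_one, mul_inv_eq_iff_eq_mul] at e
  have zc : z ∈ c a := by_contra fun k => as ((hS.pi.elt hz.1).eq_of_dvd pa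
    (h.L0 (ne_one_of_prime pa) ((h.pi y).elt ha) pz e.symm k ▸ dvd_rfl))
  rw [h.eq y1 py ha (ne_one_of_prime pa)] at zc
  exact hy' (h.eq y1 py zc z1 ▸ h.mem py)

end PP
end H117
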