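import Cfsg.Agent.H17.Cam1

/-! Camina's theorem on groups with two `p`-regular class sizes, part 2: `pp_main` (abelian `p`-complement from
central `p'`-elements in centralizers), `cam` (two `p`-regular class sizes). -/

set_option autoImplicit false
set_option linter.unusedSectionVars false
set_option linter.unusedVariables false

namespace H117
open Subgroup Cfsg H18 H1
open scoped commutatorElement MatrixGroups

variable {G : Type*} [Group G] [Finite G] {A H K L M N P Q T V : Subgroup G}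
  {a b g s t u v w x y z : G} {p q r k : ℕ} {π : Set ℕ}

theorem comm_of_coprime (px : PiElt π x) (py : PiElt πᶜ y) (h : y⁻¹ * (x * y * x⁻¹) ∈ C((⊤ : Subgroup G))) :
    x * y = y * x := by
  have k := fun g => mem_C.1 h g (mem_top g)
  have e1 : PiElt πᶜ (y⁻¹ * (x * y * x⁻¹)) := py.inv.mul' (py.conj x) (by
    have := k y
    calc y⁻¹ * (x * y * x⁻¹) = y⁻¹ * (y⁻¹ * (x * y * x⁻¹) * y) * y⁻¹ * y * y⁻¹ * y := by rw [← this]; group
      _ = y⁻¹ * (y * (y⁻¹ * (x * y * x⁻¹))) * y⁻¹ * y * y⁻¹ * y := by rw [this]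
      _ = (y⁻¹ * (x * y * x⁻¹) * y) * y⁻¹ := by group
      _ = _ := by rw [← this]; group)
  have e2 : PiElt π (y⁻¹ * (x * y * x⁻¹)) := by
    rw [show y⁻¹ * (x * y * x⁻¹) = y⁻¹ * x * y⁻¹⁻¹ * x⁻¹ by group]
    refine (px.conj y⁻¹).mul' px.inv ?_
    calc y⁻¹ * x * y⁻¹⁻¹ * x⁻¹ = x⁻¹ * (x * (y⁻¹ * (x * y * x⁻¹))) := by group
      _ = _ := by rw [k x]; group
  have := e2.eq_one' e1
  rw [inv_mul_eq_one, eq_mul_inv_iff_mul_eq] at this
  exact this.symm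

theorem mem_O_of_cent (hv : v ∈ L) (h : L ≤ C1(v)) (pv : PiElt π v) : v ∈ O[π](L) :=
  le_pcore ⟨zpowers_le.2 hv, h.trans C1_le_N_zpowers⟩ pv.zpowers (mem_zpowers v)

theorem hall_of_cent (h : ∀ v ∈ L, PiElt π v → L ≤ C1(v)) : Hall π O[π](L) L ∧ L ≤ C(O[π](L)) :=
  ⟨hall_of_sylows pcore_le pcore_pi fun r pr hr _ => by
    obtain ⟨R, hR⟩ := exists_sylow pr L
    exact ⟨R, hR, fun v hv => mem_O_of_cent (hR.le hv) (h v (hR.le hv) ((hR.pi.elt hv).of_p hr)) ((hR.pi.elt hv).of_p hr)⟩,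
  cent_symm fun v hv => le_C1_iff.1 (h v (pcore_le hv) (pcore_pi.elt hv))⟩

theorem pp_main (pp : p.Prime)
    (h1 : ∀ w, w ∉ C((⊤ : Subgroup G)) → PiElt {p}ᶜ w → ∀ v ∈ C1(w), PiElt {p}ᶜ v → C1(w) ≤ C1(v))
    (h2 : ∀ w w', w ∉ C((⊤ : Subgroup G)) → PiElt {p}ᶜ w → w' ∉ C((⊤ : Subgroup G)) → PiElt {p}ᶜ w' →
      ∃ n, PiNat {p} n ∧ Nat.card C1(w) ∣ Nat.card C1(w') * n)
    (h3 : ∃ (a b : G) (s t : ℕ), s ≠ t ∧ s ≠ p ∧ t ≠ p ∧ PiElt {s} a ∧ PiElt {t} b ∧ a ∉ C((⊤ : Subgroup G)) ∧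
      b ∉ C((⊤ : Subgroup G))) : ∃ A : Subgroup G, Abel A ∧ Hall {p}ᶜ A ⊤ := by
  obtain ⟨Z, pZ, ZC, mZ⟩ : ∃ Z : Subgroup G, PiGrp {p}ᶜ Z ∧ Z ≤ C((⊤ : Subgroup G)) ∧
      ∀ w ∈ C((⊤ : Subgroup G)), PiElt {p}ᶜ w → w ∈ Z :=
    ⟨O[{p}ᶜ](C((⊤ : Subgroup G))), pcore_pi, pcore_le, fun w hw pw =>
      mem_O_of_cent hw (le_top.trans (le_C1_iff.2 hw)) pw⟩
  have nZ : ⊤ ≤ N(Z) := cent_norm (cent_symm ZC)
  have m : ∀ g, g ∈ N(Z) := fun g => nZ (mem_top g)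
  have et : (⊤ : Subgroup G) ⫽ Z = ⊤ := eq_top_iff.2 (quo_N.ge.trans (mim_mono le_top))
  obtain ⟨c, hc⟩ : ∃ c : Coset Z → Subgroup (Coset Z), ∀ x, c (cs Z x) = O[{p}ᶜ](C1(x)) ⫽ Z :=
    ⟨fun u => O[{p}ᶜ](C(qpre Z (zpowers u))) ⫽ Z, fun x => by
      beta_reduce
      rw [← mim_zpowers (m x), qpre_quo (le_top.trans nZ), C_sup, C_zpowers, inf_eq_left.2 (le_top.trans (cent_symm ZC))]⟩
  have lift : ∀ {ρ : Set ℕ} {u : Coset Z}, PiElt ρ u → ∃ x, PiElt ρ x ∧ cs Z x = u := fun hu => by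
    obtain ⟨x, -, -, h⟩ := exists_piElt_lift (f := coset Z) (A := ⊤) (et ▸ mem_top _) hu
    exact ⟨x, h⟩
  have nc : ∀ {x}, cs Z x ≠ 1 → PiElt {p}ᶜ x → x ∉ C((⊤ : Subgroup G)) := fun e px k => e (cs_eq_one (mZ _ k px))
  have ZA : ∀ x, Z ≤ O[{p}ᶜ](C1(x)) := fun x w hw => mem_O_of_cent (C_le_C1 (mem_top x) (ZC hw))
    (le_top.trans (le_C1_iff.2 (ZC hw))) (pZ.elt hw)
  have pr : ∀ {a : G} {s : ℕ}, s ≠ p → PiElt {s} a → a ∉ C((⊤ : Subgroup G)) → ∃ u : Coset Z, (orderOf u).Prime ∧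
      orderOf u = s := fun {a s} sp pa ha => by
    obtain ⟨u, hu, pu⟩ := exists_prime_pow_elt (x := cs Z a) fun k => ha (ZC ((cs_eq_one_iff (m a)).1 k))
    exact ⟨u, pu, ((pa.mfun (m a)).of_mem_zpowers hu).eq_of_dvd pu dvd_rfl⟩
  have H : PP p c := by
    refine ⟨pp, fun hu => ?_, fun {u v} u1 hu hv v1 => ?_, fun g u => ?_, fun u1 hu => ?_, fun u => ?_,
      fun u1 hu v1 hv => ?_, fun u1 hu hv e => ?_, ?_⟩
    · obtain ⟨x, px, rfl⟩ := lift hu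
      exact hc x ▸ mfun_mem_mim (mem_O_of_cent C1_self le_rfl px)
    · obtain ⟨x, px, rfl⟩ := lift hu
      rw [hc] at hv
      obtain ⟨y, hy, rfl⟩ := (mem_quo (le_top.trans nZ)).1 hv
      have py := pcore_pi.elt hy
      rw [hc, hc, le_antisymm (h1 y (nc v1 py) py x (mem_C1_comm.1 (pcore_le hy)) px)
        (h1 x (nc u1 px) px y (pcore_le hy) py)]
    · obtain ⟨g, -, rfl⟩ := (mem_quo nZ).1 (et ▸ mem_top g)
      obtain ⟨x, -, rfl⟩ := (mem_quo nZ).1 (et ▸ mem_top u)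
      rw [← mfun_conj (m g) (m x), hc, hc, ← mim_cj (m g), cj_pcore, cj_C1]
    · obtain ⟨x, px, rfl⟩ := lift hu
      exact hc x ▸ Abel.mim (pcore_le.trans (hall_of_cent (h1 x (nc u1 px) px)).2)
    · obtain ⟨x, -, rfl⟩ := (mem_quo nZ).1 (et ▸ mem_top u)
      exact hc x ▸ pcore_pi.mim
    · obtain ⟨x, px, rfl⟩ := lift hu
      obtain ⟨y, py, rfl⟩ := lift hv
      have k : ∀ x y : G, x ∉ C((⊤ : Subgroup G)) → PiElt {p}ᶜ x → y ∉ C((⊤ : Subgroup G)) → PiElt {p}ᶜ y →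
          Nat.card O[{p}ᶜ](C1(x)) ∣ Nat.card O[{p}ᶜ](C1(y)) := fun x y x1 px y1 py => by
        obtain ⟨n, hn, e⟩ := h2 x y x1 px y1 py
        exact (hall_of_cent (h1 y y1 py)).1.dvd_of_piNat pcore_pi
          (PiNat.dvd_of_dvd_mul pcore_pi hn.compl_compl ((card_dvd pcore_le).trans e))
      refine Nat.eq_of_mul_eq_mul_left (card_pos' (H := Z)) ?_
      rw [hc, hc, card_quo_mul ⟨ZA x, le_top.trans nZ⟩, card_quo_mul ⟨ZA y, le_top.trans nZ⟩]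
      exact Nat.dvd_antisymm (k x y (nc u1 px) px (nc v1 py) py) (k y x (nc v1 py) py (nc u1 px) px)
    · obtain ⟨x, px, rfl⟩ := lift hu
      obtain ⟨y, py, rfl⟩ := lift hv
      have := comm_of_coprime px py.compl_compl (ZC (by
        rw [← cs_eq_iff (m _) (m _), mfun_conj (m _) (m _), e, mul_inv_cancel_right]))
      rw [hc]
      exact mim_cent (hall_of_cent (h1 x (nc u1 px) px)).2 (mfun_mem_mim (mem_C1.2 this.symm))
    · obtain ⟨a, b, s, t, st, sp, tp, pa, pb, ha, hb⟩ := h3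
      obtain ⟨u, pu, ou⟩ := pr sp pa ha
      obtain ⟨v, pv, ov⟩ := pr tp pb hb
      exact ⟨u, v, pu, pv, ou ▸ sp, ov ▸ tp, ou ▸ ov ▸ st⟩
  obtain ⟨a, b, s, t, st, sp, tp, pa, pb, ha, hb⟩ := h3
  have pa' : PiElt {p}ᶜ a := pa.p'_of_ne sp
  have := H.hall (x := cs Z a) (fun k => ha (ZC ((cs_eq_one_iff (m a)).1 k))) (pa'.mfun (m a))
  rw [hc, ← et] at this
  have := this.qpre ⟨le_top, nZ⟩ pZ
  rw [qpre_quo_nml ⟨ZA a, le_top.trans nZ⟩] at this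
  exact ⟨_, pcore_le.trans (hall_of_cent (h1 a ha pa')).2, this⟩

theorem C1_index_eq_one : C1(x).index = 1 ↔ x ∈ C((⊤ : Subgroup G)) := by rw [index_eq_one, eq_top_iff, le_C1_iff]

theorem exists_nc (hq : q.Prime) (hZ : K ⊴ L) : q ∣ K.relIndex L ↔ ∃ u ∈ L, PiElt {q} u ∧ u ∉ K := by
  refine ⟨fun h => ?_, fun ⟨u, hu, pu, k⟩ => by_contra fun e => k (pu.mem_of_nml hu hZ ((piNat_compl_iff hq).2 e))⟩
  obtain ⟨S, hS⟩ := exists_sylow hq L
  obtain ⟨u, hu, k⟩ := SetLike.not_le_iff_exists.1 fun k : S ≤ K => (piNat_compl_iff hq).1 (hS.idx_of_le k) h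
  exact ⟨u, hS.le hu, hS.pi.elt hu, k⟩

theorem nml_Z_C1 : C((⊤ : Subgroup G)) ⊴ C1(x) := ⟨C_le_C1 (mem_top x), le_top.trans (norm_C (by simp))⟩

theorem rel_mul : C((⊤ : Subgroup G)).relIndex C1(x) * C1(x).index = C((⊤ : Subgroup G)).index :=
  relIndex_mul_index nml_Z_C1.1

theorem exists_nc_of_index (hq : q.Prime) (e : C1(x).index ∣ C1(y).index) (hu : u ∈ C1(y)) (pu : PiElt {q} u)
    (u1 : u ∉ C((⊤ : Subgroup G))) : ∃ u ∈ C1(x), PiElt {q} u ∧ u ∉ C((⊤ : Subgroup G)) := by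
  refine (exists_nc hq nml_Z_C1).1 (((exists_nc hq nml_Z_C1).2 ⟨u, hu, pu, u1⟩).trans ?_)
  obtain ⟨d, hd⟩ := e
  refine ⟨d, Nat.eq_of_mul_eq_mul_right (Nat.pos_of_ne_zero (index_ne_zero_of_finite (H := C1(x)))) ?_⟩
  rw [rel_mul, mul_assoc, mul_comm d, ← hd, rel_mul]

theorem exists_part (hw : w ∉ K) : ∃ r : ℕ, r.Prime ∧ ∃ a ∈ zpowers w, PiElt {r} a ∧ a ∉ K := by
  by_contra! k
  exact hw (le_of_pElts k (mem_zpowers w))

theorem not_mem_mul (e : a * b = b * a) (ha : PiElt π a) (hb : PiElt πᶜ b) (h : a ∉ K) : a * b ∉ K :=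
  fun k => h (zpowers_le.2 k (mem_zpowers_mul_left e ha hb))

theorem eq_of_index (h : H ≤ K) (e : H.index ≤ K.index) : H = K := by
  have := relIndex_mul_index h
  have k := Nat.pos_of_ne_zero (index_ne_zero_of_finite (H := K))
  refine le_antisymm h (relIndex_eq_one_iff.1 (le_antisymm (Nat.le_of_mul_le_mul_right (c := K.index) ?_ k) relIndex_pos))
  omega

/-- Camina: two `p`-regular class sizes -/
theorem cam (pp : p.Prime) (h : ∀ x : G, PiElt {p}ᶜ x → x ∉ C((⊤ : Subgroup G)) → C1(x).index = k) :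
    (∃ A : Subgroup G, Abel A ∧ Hall {p}ᶜ A ⊤) ∨
      ∃ q : ℕ, q.Prime ∧ q ≠ p ∧ ∀ x : G, PiElt {p, q}ᶜ x → x ∈ C((⊤ : Subgroup G)) := by
  by_cases h3 : ∃ (a b : G) (s t : ℕ), s ≠ t ∧ s ≠ p ∧ t ≠ p ∧ PiElt {s} a ∧ PiElt {t} b ∧ a ∉ C((⊤ : Subgroup G)) ∧
      b ∉ C((⊤ : Subgroup G))
  · refine Or.inl (pp_main pp (fun w hw pw v hv pv => ?_) (fun w w' h1 h2 h3 h4 => ⟨1, PiNat.one, ?_⟩) h3)
    · have step : ∀ {s : ℕ} {x v : G}, s ≠ p → PiElt {s} x → x ∉ C((⊤ : Subgroup G)) → v ∈ C1(x) → PiElt {p}ᶜ v →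
          PiElt {s}ᶜ v → C1(x) ≤ C1(v) := fun {s x v} sp px hx hv pv pv' => by
        have e := (mem_C1.1 hv).symm
        have := eq_of_index (H := C1(x * v)) (K := C1(x)) (C1_mul e px pv' ▸ inf_le_left) (by
          rw [h x (px.p'_of_ne sp) hx, h _ (PiElt.mul' (px.p'_of_ne sp) pv e) (not_mem_mul e px pv' hx)])
        rw [← this, C1_mul e px pv']; exact inf_le_right
      obtain ⟨r, pr, x, hx, px, x1⟩ := exists_part hw
      have px' := pw.of_mem_zpowers hx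
      have rp : r ≠ p := fun k => x1 (px.eq_one' (k ▸ px') ▸ one_mem _)
      have e : C1(w) = C1(x) := eq_of_index (C1_le_of_mem_zpowers hx) (by rw [h w pw hw, h x px' x1])
      rw [e] at hv ⊢
      obtain ⟨t, b, tr, tp, pb, hb⟩ : ∃ (t : ℕ) (b : G), t ≠ r ∧ t ≠ p ∧ PiElt {t} b ∧ b ∉ C((⊤ : Subgroup G)) := by
        obtain ⟨a, b, s, t, st, sp, tp, pa, pb, ha, hb⟩ := h3
        by_cases k : t = r
        exacts [⟨s, a, k ▸ st, sp, pa, ha⟩, ⟨t, b, k, tp, pb, hb⟩]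
      obtain ⟨u, hu, pu, u1⟩ := exists_nc_of_index (x := x) (pb.zpowers.prime (by
        simpa using fun k : b = 1 => hb (k ▸ one_mem _))) (by rw [h x px' x1, h b (pb.p'_of_ne tp) hb]) C1_self pb hb
      have e2 : C1(x) = C1(u) := (eq_of_index (step rp px x1 hu (pu.p'_of_ne tp) (pu.p'_of_ne tr))
        (by rw [h x px' x1, h u (pu.p'_of_ne tp) u1]))
      refine fun g hg => mem_C1_comm.1 (mem_of_parts (π := {r}) (mem_C1_comm.1 ?_) (mem_C1_comm.1 ?_))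
      · exact step tp pu u1 (e2 ▸ piPart_mem hv) (piElt_piPart_of pv) (piElt_piPart.p'_of_ne tr.symm) (e2 ▸ hg)
      · exact step rp px x1 (piPart_mem hv) (piElt_piPart_of pv) piElt_piPart hg
    · rw [mul_one]
      refine dvd_of_eq (Nat.eq_of_mul_eq_mul_right (Nat.pos_of_ne_zero (index_ne_zero_of_finite (H := C1(w)))) ?_)
      rw [card_mul_index, h w h2 h1, ← h w' h4 h3, card_mul_index]
  refine Or.inr ?_
  by_cases e : ∃ (a : G) (s : ℕ), s.Prime ∧ s ≠ p ∧ PiElt {s} a ∧ a ∉ C((⊤ : Subgroup G))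
  · obtain ⟨a, s, ps, sp, pa, ha⟩ := e
    refine ⟨s, ps, sp, fun x px => by_contra fun k => ?_⟩
    obtain ⟨r, pr, b, hb, pb, b1⟩ := exists_part k
    have : r ∈ ({p, s}ᶜ : Set ℕ) := pb.zpowers.mem_of_ne_bot (by simpa using fun k : b = 1 => b1 (k ▸ one_mem _))
      (px.of_mem_zpowers hb).zpowers
    simp only [Set.mem_compl_iff, Set.mem_insert_iff, Set.mem_singleton_iff, not_or] at this
    exact h3 ⟨a, b, s, r, Ne.symm this.2, sp, this.1, pa, pb, ha, b1⟩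
  · obtain ⟨s, hs, ps⟩ := Nat.exists_infinite_primes (p + 1)
    refine ⟨s, ps, by omega, fun x px => by_contra fun k => ?_⟩
    obtain ⟨r, pr, b, hb, pb, b1⟩ := exists_part k
    have : r ∈ ({p, s}ᶜ : Set ℕ) := pb.zpowers.mem_of_ne_bot (by simpa using fun k : b = 1 => b1 (k ▸ one_mem _))
      (px.of_mem_zpowers hb).zpowers
    simp only [Set.mem_compl_iff, Set.mem_insert_iff, Set.mem_singleton_iff, not_or] at this
    exact e ⟨b, r, pr, this.1, pb, b1⟩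

end H117
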