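import Cfsg.Agent.H17.Cam2
import Cfsg.Agent.H17.Part4
import Cfsg.Agent.H13.CitJ
import Cfsg.Agent.S4034
import Cfsg.Agent.S4249

/-! Class sizes, part 3: ambient form of Camina's theorem (`cam2`), isolated primes in `PSL₂`, `PGL₂`, `Sz`
(`iso_prime`), partitions with abelian components (`NP.solv_or`), CA-groups (`exists_NP_ca`). -/

set_option autoImplicit false
set_option linter.unusedSectionVars false
set_option linter.unusedVariables false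

namespace H117
open Subgroup Cfsg H18 H1
open scoped commutatorElement MatrixGroups

variable {G : Type*} [Group G] [Finite G] {c : G → Subgroup G} {A H K L M N P Q T V : Subgroup G}
  {a b g s t u v w x y z : G} {p q r k m n : ℕ} {π : Set ℕ}

theorem cam1 (pp : p.Prime) (h : ∀ v ∈ L, PiElt {p}ᶜ v → ¬ L ≤ C1(v) → C1(v).relIndex L = k) :
    (∃ A : Subgroup G, Abel A ∧ Hall {p}ᶜ A L) ∨
      ∃ q : ℕ, q.Prime ∧ q ≠ p ∧ ∀ v ∈ L, PiElt {p, q}ᶜ v → L ≤ C1(v) := by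
  have e : ∀ v : L, v ∈ C((⊤ : Subgroup L)) ↔ L ≤ C1((v : G)) := fun v =>
    ⟨fun k g hg => mem_C1.2 (congrArg Subtype.val (mem_C.1 k ⟨g, hg⟩ (mem_top _))),
      fun k => mem_C.2 fun g _ => Subtype.ext (mem_C1.1 (k g.2))⟩
  rcases cam (G := L) (k := k) pp (fun v pv hv => by
    rw [← h v v.2 (by rwa [PiElt, orderOf_coe]) (mt (e v).2 hv), relIndex]
    congr 1; ext y; simp [mem_C1, mem_subgroupOf, Subtype.ext_iff]) with ⟨A, h1, h2⟩ | ⟨q, h1, h2, h3⟩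
  · have := h2.mim (f := L.subtype.comp (⊤ : Subgroup L).subtype) le_rfl
    rw [mim_subtype, mim_subtype, ← MonoidHom.range_eq_map, range_subtype] at this
    exact Or.inl ⟨_, by rw [← mim_subtype]; exact h1.mim, this⟩
  · exact Or.inr ⟨q, h1, h2, fun v hv pv => (e ⟨v, hv⟩).1 (h3 _ (by rwa [PiElt, ← orderOf_coe]))⟩

theorem piNat_of_cent (h : ∀ v ∈ L, PiElt πᶜ v → L ≤ C1(v)) (hy : y ∈ L) : PiNat π (C1(y).relIndex L) :=
  fun t pt ht => by_contra fun k => by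
    obtain ⟨T, hT⟩ := exists_sylow pt L
    exact (piNat_compl_iff pt).1 (hT.idx_of_le fun v hv => mem_C1_comm.1 (h v (hT.le hv) ((hT.pi.elt hv).of_p k) hy)) ht

theorem cam2 (pp : p.Prime) (h : ∀ v ∈ L, PiElt {p}ᶜ v → ¬ L ≤ C1(v) → C1(v).relIndex L = k) :
    PiNat {p} k ∨ ∃ q : ℕ, q.Prime ∧ q ≠ p ∧ ∀ v ∈ L, PiElt {p, q}ᶜ v → L ≤ C1(v) := by
  rcases cam1 pp h with ⟨A, h1, h2⟩ | h1
  · by_cases e : A ≤ C(L)
    · obtain ⟨s, hs, ps⟩ := Nat.exists_infinite_primes (p + 1)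
      exact Or.inr ⟨s, ps, by omega, fun v hv pv => le_C1_iff.2 (e (h2.mem_of_nml (cent_norm (cent_symm e)) hv
        (pv.sub (by simp))))⟩
    · obtain ⟨a, ha, ha'⟩ := SetLike.not_le_iff_exists.1 e
      rw [← h a (h2.le ha) (h2.pi.elt ha) (mt le_C1_iff.1 ha')]
      exact Or.inl (h2.idx_of_le (h1.trans (C_le_C1 ha))).of_compl_compl
  · exact Or.inr h1

theorem iso_prime (h : H13.IsZT G ∨ IsL2 G ∨ IsPGL2 G) :
    ∃ p : ℕ, p.Prime ∧ p ∣ Nat.card G ∧ ∀ r : ℕ, r.Prime → r ≠ p → ¬ H13.Sp G (p * r) := by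
  have ar : ∀ {p q r d : ℕ}, p.Prime → p ∣ q → 0 < q → p * r ∣ d → d ∣ q + 1 ∨ d ∣ q - 1 → False :=
    fun {p q r d} pp h1 h0 h2 h3 => by
    have k := (dvd_mul_right p r).trans h2
    rcases h3 with h3 | h3
    · exact pp.not_dvd_one ((Nat.dvd_add_right h1).1 (k.trans h3))
    · exact pp.not_dvd_one ((Nat.dvd_add_right (k.trans h3)).1 (by rwa [Nat.sub_add_cancel h0]))
  have l2 : IsL2 G → ∃ p : ℕ, p.Prime ∧ p ∣ Nat.card G ∧ ∀ r : ℕ, r.Prime → r ≠ p → ¬ H13.Sp G (p * r) := by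
    rintro ⟨F, _, _, h4, ⟨e⟩⟩
    obtain ⟨p, _, n, pp, hn⟩ := FiniteField.card' F
    have := Fact.mk pp
    have d : p ∣ Fintype.card F := hn ▸ dvd_pow_self p n.ne_zero
    have g2 : Nat.gcd 2 (Fintype.card F - 1) ∣ Fintype.card F + 1 := by
      rw [show Fintype.card F + 1 = 2 + (Fintype.card F - 1) by omega]
      exact dvd_add (Nat.gcd_dvd_left _ _) (Nat.gcd_dvd_right _ _)
    refine ⟨p, pp, ?_, fun r pr rp k => ?_⟩
    · rw [Nat.card_congr e.toEquiv]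
      refine Nat.Coprime.dvd_of_dvd_mul_left ?_ (H10.card_PSL2 (F := F) ▸ (d.mul_right _).mul_right _)
      exact (Nat.Prime.coprime_iff_not_dvd pp).2 fun k => ar (r := 1) pp d (by omega) (by simpa using k) (Or.inl g2)
    · rcases (k.of_equiv e).psl_dvd p with k | k | k
      · exact pr.not_dvd_one (Nat.dvd_of_mul_dvd_mul_left pp.pos (by simpa using k))
      · exact ar pp d (by omega) k (Or.inl (Nat.div_dvd_of_dvd g2))
      · exact ar pp d (by omega) k (Or.inr (Nat.div_dvd_of_dvd (Nat.gcd_dvd_right _ _)))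
  rcases h with (⟨F, _, _, ⟨n, h1, e⟩, f⟩ | ⟨F, _, _, m, h1, h2, ⟨e⟩⟩) | h | ⟨F, _, _, h5, -, ⟨e⟩⟩
  · exact l2 ⟨F, _, _, e ▸ Nat.pow_le_pow_right two_pos h1, f⟩
  · refine ⟨2, Nat.prime_two, ((H13.sp_congr e).2 ((H13.sp_sz h1 h2).2 (Or.inl (by norm_num)))).dvd_card, fun r pr r2 k => ?_⟩
    have o : ∀ j, 2 ∣ 2 ^ (j + 1) := fun j => dvd_pow_self 2 j.succ_ne_zero
    rcases (H13.sp_sz h1 h2).1 (k.of_equiv e) with k | k | k | k
    · exact r2 ((Nat.prime_dvd_prime_iff_eq pr Nat.prime_two).1 (Nat.dvd_of_mul_dvd_mul_left two_pos k))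
    · exact ar Nat.prime_two (o _) (by positivity) k (Or.inr dvd_rfl)
    · exact ar Nat.prime_two (dvd_add (o _) (o _)) (by positivity) k (Or.inl dvd_rfl)
    · exact Nat.prime_two.not_dvd_one ((Nat.dvd_add_right (Nat.dvd_sub (o _) (o _))).1 ((dvd_mul_right 2 r).trans k))
  · exact l2 h
  · obtain ⟨p, _, n, pp, hn⟩ := FiniteField.card' F
    have d : p ∣ Fintype.card F := hn ▸ dvd_pow_self p n.ne_zero
    refine ⟨p, pp, ?_, fun r pr rp k => ?_⟩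
    · rw [Nat.card_congr e.toEquiv]
      exact (H10.card_PGL2 (F := F)).symm ▸ (d.mul_right _).mul_right _
    · obtain ⟨g, hg⟩ := k.of_equiv e
      rcases H10.orderOf_PGL2_dvd (F := F) g with k | k | k <;> erw [hg] at k
      · exact ar pp d (by omega) k (Or.inr dvd_rfl)
      · exact rp ((Nat.prime_dvd_prime_iff_eq pr pp).1 (pr.dvd_of_dvd_pow (hn ▸ (dvd_mul_left r p).trans k)))
      · exact ar pp d (by omega) k (Or.inl dvd_rfl)

theorem Hug.solv (h : Hug G) : Solv (⊤ : Subgroup G) := by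
  obtain ⟨p, pp, h⟩ := h
  by_cases e : IsPGroup p G
  · exact (piGrp_of_isPGroup pp (e.to_subgroup ⊤)).solv
  obtain ⟨h1, h2⟩ := Cfsg.Agent.S4249.result p pp e h
  have nH : ⊤ ≤ N(closure {g : G | g ^ p ≠ 1}) :=
    norm_closure fun a _ b hb c => hb (by rwa [conj_pow, conj_eq_one_iff'] at c)
  exact solv_of_quo nH (cyc_of_prime (by rwa [card_quo nH, relIndex_top_right, h2])).solv (Nil.solv h1)

theorem NP.solv_or (h : NP c) (ha : ∀ x, x ≠ 1 → Abel (c x)) :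
    Solv (⊤ : Subgroup G) ∨ H13.IsZT G ∨ IsL2 G ∨ IsPGL2 G := by
  have hn : ∀ x, x ≠ 1 → Nil (c x) := fun x x1 => (ha x x1).nil
  have fro : Fro G → Solv (⊤ : Subgroup G) := fun ⟨H, hH⟩ => by
    obtain ⟨K, -, hK⟩ := H23.exists_frob_of_compl hH
    refine hK.sd.solv (H23.Frob_nil hK).solv ?_
    rcases Nat.even_or_odd (Nat.card H) with e | e
    · obtain ⟨t, ht, t2, t1⟩ := H5.exists_inv_of_even e
      have iv : ∀ t ∈ H, t * t = 1 → t ≠ 1 → ∀ x ∈ K, t * x * t⁻¹ = x⁻¹ := fun t ht t2 t1 =>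
        H22.inverts_of_fpf t2 (hK.sd.norm ht) fun x hx e => eq_one_of_eq_bot (hK.reg t ht t1)
          ⟨hx, mem_C1.2 (mul_inv_eq_iff_eq_mul.1 e).symm⟩
      refine ((ha t t1).solv.of_le) fun g hg => by_contra fun k => ?_
      have un : ∀ s ∈ H, s * s = 1 → s ≠ 1 → s = t := fun s hs s2 s1 => by
        have : s * t = 1 := by_contra fun k => hK.ker_ne ((inf_eq_left.2 (le_C1_iff.2 (mul_mem_C_of_inv (iv s hs s2 s1)
          (iv t ht t2 t1)))).symm.trans (hK.reg _ (mul_mem hs ht) k))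
        rw [eq_inv_of_mul_eq_one_left this, H9.inv_eq_of_mul_self t2]
      have e1 := un _ (mul_mem (mul_mem hg ht) (inv_mem hg)) (H9.conj_sq t2 g) (H9.conj_ne t1 g)
      have e2 := h.L0 t1 (mul_inv_eq_iff_eq_mul.1 e1).symm k
      rw [H9.orderOf_eq_two.2 ⟨t2, t1⟩, H9.orderOf_eq_two] at e2
      exact k (un g hg e2.1 e2.2 ▸ h.mem t)
    · exact H1.solv_of_odd e
  by_cases hF : F((⊤ : Subgroup G)) = ⊥
  · exact Or.inr (h.caseB hn hF)
  refine Or.inl ?_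
  by_cases e : ∃ x, F((⊤ : Subgroup G)) ≤ c x
  · obtain ⟨x, hx⟩ := e
    obtain ⟨f, hf, f1⟩ := exists_mem_ne_one' hF
    rw [← h.eq (hx hf) f1] at hx
    exact (h.caseA1 (hn f f1) hF hx).elim Hug.solv fro
  · rcases h.caseA2 hn hF fun x k => e ⟨x, k⟩ with ⟨⟨e⟩⟩ | k | k
    · exact solv_top_iff.2 (H5.burnside_paqb (p := 2) (q := 3) (a := 3) (b := 1) Nat.prime_two Nat.prime_three
        (by rw [Nat.card_congr e.toEquiv, Nat.card_perm]; simp [Nat.factorial]))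
    exacts [k.solv, fro k]

theorem nZ_top : ⊤ ≤ N(C((⊤ : Subgroup G))) := norm_C (by simp)

theorem solv_of_quo_Z (h : Solv (⊤ : Subgroup (Coset C((⊤ : Subgroup G))))) : Solv (⊤ : Subgroup G) :=
  solv_of_quo nZ_top (h.of_le le_top) (Abel.solv (C_anti le_top))

theorem exists_NP_ca (ns : C((⊤ : Subgroup G)) ≠ ⊤) (h : ∀ x : G, x ∉ C((⊤ : Subgroup G)) → Abel C1(x)) :
    ∃ c : Coset C((⊤ : Subgroup G)) → Subgroup (Coset C((⊤ : Subgroup G))), NP c ∧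
      ∀ x, x ∉ C((⊤ : Subgroup G)) → c (cs C((⊤ : Subgroup G)) x) = C1(x) ⫽ C((⊤ : Subgroup G)) := by
  classical
  have nZ := nZ_top (G := G)
  have nC : ∀ x : G, C((⊤ : Subgroup G)) ⊴ C1(x) := fun x => nml_Z_C1
  have ZC : ∀ x : G, x ∈ C((⊤ : Subgroup G)) ↔ ⊤ ≤ C1(x) := fun x => le_C1_iff.symm
  have ZC' : ⊤ ≤ C(C((⊤ : Subgroup G))) := cent_symm le_rfl
  generalize C((⊤ : Subgroup G)) = Z at *
  have m : ∀ g, g ∈ N(Z) := fun g => nZ (mem_top g)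
  have et : (⊤ : Subgroup G) ⫽ Z = ⊤ := eq_top_iff.2 (quo_N.ge.trans (mim_mono le_top))
  obtain ⟨c, h0, hc⟩ : ∃ c : Coset Z → Subgroup (Coset Z), c 1 = ⊥ ∧ ∀ x, x ∉ Z → c (cs Z x) = C1(x) ⫽ Z :=
    ⟨fun u => if u = 1 then ⊥ else C(qpre Z (zpowers u)) ⫽ Z, if_pos rfl, fun x hx => by
      beta_reduce
      rw [if_neg (mt (cs_eq_one_iff (m x)).1 hx), ← mim_zpowers (m x), qpre_quo (le_top.trans nZ), C_sup, C_zpowers,
        inf_eq_left.2 (le_top.trans ZC')]⟩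
  have ind : ∀ u : Coset Z, u = 1 ∨ ∃ x, x ∉ Z ∧ cs Z x = u := fun u => by
    obtain ⟨x, -, rfl⟩ := (mem_quo nZ).1 (et ▸ mem_top u)
    by_cases e : x ∈ Z
    exacts [Or.inl (cs_eq_one e), Or.inr ⟨x, e, rfl⟩]
  refine ⟨c, ⟨fun u => ?_, fun {u v} hv v1 => ?_, fun g u => ?_, fun u e => ?_⟩, hc⟩
  · rcases ind u with rfl | ⟨x, hx, rfl⟩
    exacts [one_mem _, hc x hx ▸ mfun_mem_mim C1_self]
  · rcases ind u with rfl | ⟨x, hx, rfl⟩
    · exact (v1 (by rwa [h0] at hv)).elim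
    rw [hc x hx] at hv
    obtain ⟨y, hy, rfl⟩ := (mem_quo (le_top.trans nZ)).1 hv
    have y1 : y ∉ Z := fun k => v1 (cs_eq_one k)
    rw [hc x hx, hc y y1, le_antisymm ((h y y1).trans (C_le_C1 (mem_C1_comm.1 hy))) ((h x hx).trans (C_le_C1 hy))]
  · rcases ind u with rfl | ⟨x, hx, rfl⟩
    · simp [h0]
    obtain ⟨g, -, rfl⟩ := (mem_quo nZ).1 (et ▸ mem_top g)
    rw [← mfun_conj (m g) (m x), hc x hx, hc _ (fun k => hx (by simpa [mul_assoc] using conj_mem_N' (m g) k)),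
      ← mim_cj (m g), cj_C1]
  · rcases ind u with rfl | ⟨x, hx, rfl⟩
    · exact ns (eq_top_iff.2 ((quo_eq_bot_iff nZ).1 (et.trans (e.symm.trans h0))))
    · exact hx ((ZC x).2 (le_of_quo_le nZ (nC x) (by rw [← hc x hx, e]; exact le_top)))

end H117
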