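import Cfsg.Agent.H17.Cam3

/-! Class sizes, part 4: groups with at most two non-trivial class sizes `R2 G m n` are solvable (Itô, `R2.solv`);
the non-F-group case (`R2.tau`, `R2.nonF`), F-groups (`FG.cent`, `FG.abel`). -/

set_option autoImplicit false
set_option linter.unusedSectionVars false
set_option linter.unusedVariables false

namespace H117
open Subgroup Cfsg H18 H1
open scoped commutatorElement MatrixGroups

variable {G : Type*} [Group G] [Finite G] {A H K L M N P Q T V : Subgroup G}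
  {a b g s t u v w x y z : G} {p q r k m n : ℕ} {π : Set ℕ}

local notation "𝐙" => Subgroup.centralizer ((⊤ : Subgroup G) : Set G)

theorem nc_of_le (h : C1(v) ≤ C1(w)) (hw : w ∉ 𝐙) : v ∉ 𝐙 := fun k => hw (le_C1_iff.1 ((le_C1_iff.2 k).trans h))

theorem prime_of_nc (pu : PiElt {q} u) (h : u ∉ K) : q.Prime :=
  pu.zpowers.prime (by simpa using fun k : u = 1 => h (k ▸ one_mem _))

theorem cent_of_parts (h1 : L ≤ C1(piPart π v)) (h2 : L ≤ C1(piPart πᶜ v)) : L ≤ C1(v) :=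
  fun g hg => mem_C1_comm.1 (mem_of_parts (π := π) (mem_C1_comm.1 (h1 hg)) (mem_C1_comm.1 (h2 hg)))

theorem three_of_not_solv (ns : ¬ Solv (⊤ : Subgroup G)) (hp : p.Prime) (hq : q.Prime) :
    ∃ (t : ℕ) (u : G), t ≠ p ∧ t ≠ q ∧ PiElt {t} u ∧ u ∉ 𝐙 := by
  by_contra! k
  refine ns (solv_of_quo nZ_top (H21.solv_paqb hp hq ((piGrp_quo_iff nZ_top).2 fun t pt ht => by_contra fun e => ?_))
    (Abel.solv (C_anti le_top)))
  obtain ⟨u, -, pu, u1⟩ := (exists_nc pt ⟨le_top, nZ_top⟩).1 ht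
  simp only [Set.mem_insert_iff, Set.mem_singleton_iff, not_or] at e
  exact u1 (k t u e.1 e.2 pu)

theorem solv_of_abel_hall (hp : p.Prime) (h1 : Abel A) (h2 : Hall {p}ᶜ A ⊤) : Solv (⊤ : Subgroup G) :=
  solv_top_iff.2 (Cfsg.Agent.S4034.solv2 hp G ⟨A, h1, by simpa using h2.idx.of_compl_compl⟩)

theorem card_dvd_of_index (h : K.index ∣ H.index * k) : Nat.card H ∣ Nat.card K * k := by
  obtain ⟨d, hd⟩ := h
  refine ⟨d, Nat.eq_of_mul_eq_mul_right (Nat.pos_of_ne_zero (index_ne_zero_of_finite (H := K))) ?_⟩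
  rw [mul_right_comm, card_mul_index, mul_assoc, mul_comm d, ← hd, ← mul_assoc, card_mul_index]

/-- F-groups -/
def FG (G : Type*) [Group G] : Prop :=
  ∀ x y : G, x ∉ C((⊤ : Subgroup G)) → C1(y) ≤ C1(x) → C1(y) = C1(x)

theorem FG.cent (h : FG G) (hw : w ∉ 𝐙) (pw : PiElt π w) (hv : v ∈ C1(w)) (pv : PiElt πᶜ v) : C1(w) ≤ C1(v) := by
  have e := C1_mul (mem_C1.1 hv).symm pw pv
  rw [← h w _ hw (e ▸ inf_le_left), e]; exact inf_le_right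

theorem FG.abel (h : FG G) (hw : w ∉ 𝐙) (ha : a ∈ C1(w)) (hb : b ∈ C1(w)) (pa : PiElt {p} a) (pb : PiElt {q} b)
    (a1 : a ∉ 𝐙) (b1 : b ∉ 𝐙) (pq : p ≠ q) : Abel C1(w) := by
  obtain ⟨r, pr, x, hx, px, x1⟩ := exists_part hw
  rw [h x w x1 (C1_le_of_mem_zpowers hx)] at ha hb ⊢
  obtain ⟨t, u, tr, pu, hu, u1⟩ : ∃ (t : ℕ) (u : G), t ≠ r ∧ PiElt {t} u ∧ u ∈ C1(x) ∧ u ∉ 𝐙 := by
    by_cases k : p = r
    exacts [⟨q, b, k ▸ pq.symm, pb, hb, b1⟩, ⟨p, a, k, pa, ha, a1⟩]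
  have e := h u x u1 (h.cent x1 px hu (pu.p'_of_ne tr))
  refine fun v hv => le_C1_iff.1 (cent_of_parts (π := {r}) ?_ (h.cent x1 px (piPart_mem hv) piElt_piPart))
  exact e ▸ h.cent u1 pu (e ▸ piPart_mem hv) (piElt_piPart.p'_of_ne tr.symm)

/-- at most two non-trivial class sizes -/
structure R2 (G : Type*) [Group G] (m n : ℕ) : Prop where
  lt : m < n
  idx : ∀ x : G, x ∉ C((⊤ : Subgroup G)) → C1(x).index = m ∨ C1(x).index = n

namespace R2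
variable (h : R2 G m n)
include h

theorem max (hw : C1(w).index = m) (hv : v ∉ 𝐙) (le : C1(w) ≤ C1(v)) : C1(w) = C1(v) :=
  eq_of_index le (by rcases h.idx v hv with e | e <;> have := h.lt <;> omega)

theorem min (hw : C1(w).index = n) (w1 : w ∉ 𝐙) (le : C1(v) ≤ C1(w)) : C1(v) = C1(w) :=
  eq_of_index le (by rcases h.idx v (nc_of_le le w1) with e | e <;> have := h.lt <;> omega)

theorem of_lt (x1 : x ∉ 𝐙) (lt : C1(y) < C1(x)) :
    C1(x).index = m ∧ C1(y).index = n ∧ C1(y).relIndex C1(x) * m = n := by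
  have e1 := (h.idx x x1).resolve_right fun k => lt.ne (h.min k x1 lt.le)
  have e2 := (h.idx y (nc_of_le lt.le x1)).resolve_left fun k => lt.ne (h.max k x1 lt.le)
  exact ⟨e1, e2, by rw [← e1, relIndex_mul_index lt.le, e2]⟩

theorem tau (x1 : x ∉ 𝐙) (lt : C1(y) < C1(x)) (pu : PiElt {r} u) (u1 : u ∉ 𝐙) (g1 : g ∉ 𝐙) :
    ∃ u ∈ C1(g), PiElt {r} u ∧ u ∉ 𝐙 := by
  obtain ⟨ex, ey, ek⟩ := h.of_lt x1 lt
  have pr := prime_of_nc pu u1
  have dv : ∀ g, g ∉ 𝐙 → C1(g).index ∣ C1(y).index := fun g g1 => by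
    rcases h.idx g g1 with e | e <;> rw [e, ey]
    exact ek ▸ dvd_mul_left _ _
  suffices k : ∃ u ∈ C1(y), PiElt {r} u ∧ u ∉ 𝐙 by
    obtain ⟨u, h1, h2, h3⟩ := k
    exact exists_nc_of_index pr (dv g g1) h1 h2 h3
  by_contra k
  have big : ∀ g, g ∉ 𝐙 → ∀ z ∈ C1(g), PiElt {r} z → z ∉ 𝐙 → C1(g).index = m := fun g g1 z h1 h2 h3 =>
    (h.idx g g1).resolve_right fun e => k (exists_nc_of_index pr (by rw [e, ey]) h1 h2 h3)
  obtain ⟨z, hz, pz, z1⟩ := exists_nc_of_index (x := x) pr (by rw [ex, big u u1 u C1_self pu u1]) C1_self pu u1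
  have st : ∀ {ρ : Set ℕ} {a v z : G}, PiElt ρ a → a ∉ 𝐙 → v ∈ C1(a) → PiElt ρᶜ v → z ∈ C1(a) → z ∈ C1(v) → PiElt {r} z →
      z ∉ 𝐙 → C1(a) ≤ C1(v) := fun {ρ a v z} pa a1 hv pv h1 h2 pz z1 => by
    have e := C1_mul (mem_C1.1 hv).symm pa pv
    rw [← h.max (big _ (nc_of_le (e ▸ inf_le_left) a1) z (e ▸ ⟨h1, h2⟩) pz z1) a1 (e ▸ inf_le_left), e]
    exact inf_le_right
  have s1 : ∀ v ∈ C1(z), PiElt {r}ᶜ v → C1(z) ≤ C1(v) := fun v hv pv => st pz z1 hv pv C1_self (mem_C1_comm.1 hv) pz z1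
  obtain ⟨s, ps, b, hb, pb, b1⟩ := exists_part (nc_of_le lt.le x1)
  have by' : b ∈ C1(y) := zpowers_le.2 C1_self hb
  have sr : s ≠ r := fun e => k ⟨b, by', e ▸ pb, b1⟩
  obtain ⟨a, ha, pa, a1⟩ := exists_nc_of_index ps (dv z z1) by' pb b1
  have iz := big z z1 z C1_self pz z1
  have e := h.max iz a1 (s1 a ha (pa.p'_of_ne sr))
  have ab : Abel C1(z) := fun v hv => le_C1_iff.1 (cent_of_parts (π := {r}) (by
    by_cases c : piPart {r} v ∈ 𝐙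
    · exact le_top.trans (le_C1_iff.2 c)
    · exact e ▸ st pa a1 (e ▸ piPart_mem hv) (piElt_piPart.p'_of_ne sr.symm) (e ▸ piPart_mem hv) C1_self piElt_piPart c)
    (s1 _ (piPart_mem hv) piElt_piPart))
  rw [h.max iz x1 (ab.trans (C_le_C1 (mem_C1_comm.1 hz)))] at ab
  exact lt.not_ge (ab.trans (C_le_C1 (lt.le C1_self)))

theorem rel (ek : k * m = n) (w1 : w ∉ 𝐙) (pw : PiElt π w) (hv : v ∈ C1(w)) (pv : PiElt πᶜ v) (e : ¬ C1(w) ≤ C1(v)) :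
    C1(v).relIndex C1(w) = k := by
  have e1 := C1_mul (mem_C1.1 hv).symm pw pv
  obtain ⟨h1, -, h2⟩ := h.of_lt (y := w * v) w1 (lt_of_le_of_ne (e1 ▸ inf_le_left) fun c => e (by
    rw [← c, e1]; exact inf_le_right))
  rw [e1, relIndex_inf_left, ← ek] at h2
  exact Nat.eq_of_mul_eq_mul_right (h1 ▸ Nat.pos_of_ne_zero index_ne_zero_of_finite) h2

theorem cam (ek : k * m = n) (w1 : w ∉ 𝐙) (pw : PiElt {r} w) :
    PiNat {r} k ∨ ∃ q : ℕ, q.Prime ∧ q ≠ r ∧ ∀ v ∈ C1(w), PiElt {r, q}ᶜ v → C1(w) ≤ C1(v) :=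
  cam2 (prime_of_nc pw w1) fun v hv pv e => h.rel ek w1 pw hv pv e

theorem nonF (x1 : x ∉ 𝐙) (lt : C1(y) < C1(x))
    (three : ∀ p q : ℕ, p.Prime → q.Prime → ∃ (t : ℕ) (u : G), t ≠ p ∧ t ≠ q ∧ PiElt {t} u ∧ u ∉ 𝐙) :
    ∃ p k : ℕ, p.Prime ∧ k * m = n ∧ PiNat {p} k ∧ ∃ A : Subgroup G, Abel A ∧ Hall {p}ᶜ A ⊤ := by
  obtain ⟨ex, ey, ek⟩ := h.of_lt x1 lt
  have k1 : C1(y).relIndex C1(x) ≠ 1 := fun e => lt.not_ge (relIndex_eq_one_iff.1 e)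
  have th : ∀ p q : ℕ, p.Prime → q.Prime → ∀ g, g ∉ 𝐙 → ∃ t : ℕ, ∃ u ∈ C1(g), PiElt {p, q}ᶜ u ∧ t ≠ p ∧ t ≠ q ∧
      PiElt {t} u ∧ u ∉ 𝐙 := fun p q hp hq g g1 => by
    obtain ⟨t, u, h1, h2, pu, u1⟩ := three p q hp hq
    obtain ⟨u, hu, pu, u1⟩ := h.tau x1 lt pu u1 g1
    exact ⟨t, u, hu, pu.of_p (by simp [h1, h2]), h1, h2, pu, u1⟩
  obtain ⟨p, pp, hp⟩ : ∃ p : ℕ, p.Prime ∧ PiNat {p} (C1(y).relIndex C1(x)) := by
    obtain ⟨r, pr, x', hx, px, x1'⟩ := exists_part x1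
    have e := h.max ex x1' (C1_le_of_mem_zpowers hx)
    rcases h.cam ek x1' px with c | ⟨q, pq, qr, c⟩
    · exact ⟨r, pr, c⟩
    obtain ⟨t, u, hu, pu', tr, tq, pu, u1⟩ := th r q pr pq x' x1'
    have e' := h.max (e ▸ ex) u1 (c u hu pu')
    rcases h.cam ek u1 pu with c' | ⟨q', pq', qr', c'⟩
    · exact ⟨t, prime_of_nc pu u1, c'⟩
    rw [← e', ← e] at c'
    rw [← e] at c
    refine ⟨q', pq', fun s ps hs => ?_⟩
    have d1 := piNat_of_cent c (lt.le C1_self) s ps hs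
    have d2 := piNat_of_cent c' (lt.le C1_self) s ps hs
    simp only [Set.mem_insert_iff, Set.mem_singleton_iff] at d1 d2 ⊢
    omega
  generalize C1(y).relIndex C1(x) = k at ek k1 hp
  obtain ⟨p', pp', pk⟩ := Nat.exists_prime_and_dvd k1
  obtain rfl := hp.eq_of_dvd pp' pk
  refine ⟨p', k, pp, ek, hp, pp_main pp ?_ (fun w w' w1 _ w1' _ => ⟨k, hp, card_dvd_of_index ?_⟩) ?_⟩
  · have sA : ∀ {s : ℕ} {w : G}, s ≠ p' → PiElt {s} w → w ∉ 𝐙 → ∀ v ∈ C1(w), PiElt {s, p'}ᶜ v → C1(w) ≤ C1(v) :=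
      fun {s w} sp pw w1 v hv pv => by_contra fun e => by
      rcases h.cam ek w1 pw with c | ⟨q, pq, qr, c⟩
      · exact sp (c.eq_of_dvd pp pk).symm
      have d := piNat_of_cent c hv p' pp (h.rel ek w1 pw hv (pv.sub (by simp)) e ▸ pk)
      simp only [Set.mem_insert_iff, Set.mem_singleton_iff] at d
      exact e (c v hv (d.resolve_left sp.symm ▸ pv))
    have sB : ∀ {s : ℕ} {w : G}, s ≠ p' → PiElt {s} w → w ∉ 𝐙 → ∀ v ∈ C1(w), PiElt {p'}ᶜ v → C1(w) ≤ C1(v) :=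
      fun {s w} sp pw w1 v hv pv => by
      obtain ⟨t, u, hu, pu', ts, tp, pu, u1⟩ := th s p' (prime_of_nc pw w1) pp w w1
      have e : C1(w) = C1(u) := le_antisymm (sA sp pw w1 u hu pu')
        (sA tp pu u1 w (mem_C1_comm.1 hu) (pw.of_p (by simp [sp, ts.symm])))
      refine cent_of_parts (π := {s}) (e ▸ sA tp pu u1 _ (e ▸ piPart_mem hv) (piElt_piPart.of_p (by simp [sp, ts.symm])))
        (sA sp pw w1 _ (piPart_mem hv) ?_)
      rw [Set.insert_eq, Set.compl_union]; exact PiNat.inter piElt_piPart (piElt_piPart_of pv)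
    intro w w1 pw v hv pv
    obtain ⟨s, ps, a, ha, pa, a1⟩ := exists_part w1
    have sp : s ≠ p' := fun k => a1 (pa.eq_one' (k ▸ pw.of_mem_zpowers ha) ▸ one_mem _)
    exact (C1_le_of_mem_zpowers ha).trans (sB sp pa a1 v (C1_le_of_mem_zpowers ha hv) pv)
  · have d : m ∣ C1(w).index := by
      rcases h.idx w w1 with e | e <;> rw [e]
      exact ek ▸ dvd_mul_left _ _
    refine Dvd.dvd.trans ?_ (mul_dvd_mul_right d k)
    rcases h.idx w' w1' with e | e <;> rw [e]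
    exacts [dvd_mul_right _ _, by rw [← ek, mul_comm]]
  · obtain ⟨s, a, sp, -, pa, a1⟩ := three p' p' pp pp
    obtain ⟨t, b, tp, ts, pb, b1⟩ := three p' s pp (prime_of_nc pa a1)
    exact ⟨a, b, s, t, ts.symm, sp, tp, pa, pb, a1, b1⟩

theorem solv : Solv (⊤ : Subgroup G) := by
  by_contra ns
  have three : ∀ p q : ℕ, p.Prime → q.Prime → _ := fun p q hp hq => three_of_not_solv ns hp hq
  by_cases hF : FG G
  swap
  · simp only [FG, not_forall] at hF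
    obtain ⟨x, y, x1, le, ne⟩ := hF
    obtain ⟨p, k, pp, -, -, A, h1, h2⟩ := h.nonF x1 (lt_of_le_of_ne le ne) three
    exact ns (solv_of_abel_hall pp h1 h2)
  by_cases c : ∃ (w : G) (p : ℕ), p.Prime ∧ w ∉ 𝐙 ∧ ∀ (r : ℕ), ∀ u ∈ C1(w), PiElt {r} u → u ∉ 𝐙 → r = p
  · obtain ⟨w0, p, pp, w1, c⟩ := c
    have i1 : ∀ w, w ∉ 𝐙 → PiElt {p}ᶜ w → C1(w).index ≠ C1(w0).index := fun w hw pw e => by
      obtain ⟨r, pr, a, ha, pa, a1⟩ := exists_part hw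
      obtain ⟨u, hu, pu, u1⟩ := exists_nc_of_index pr e.symm.dvd (zpowers_le.2 C1_self ha) pa a1
      exact a1 (pa.eq_one' (c r u hu pu u1 ▸ pw.of_mem_zpowers ha) ▸ one_mem _)
    have i2 : ∀ w w', w ∉ 𝐙 → PiElt {p}ᶜ w → w' ∉ 𝐙 → PiElt {p}ᶜ w' → C1(w).index = C1(w').index :=
      fun w w' h1 h2 h3 h4 => by
      have := i1 w h1 h2; have := i1 w' h3 h4; have := h.idx w h1; have := h.idx w' h3; have := h.idx w0 w1; omega
    obtain ⟨s, a, sp, -, pa, a1⟩ := three p p pp pp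
    obtain ⟨t, b, tp, ts, pb, b1⟩ := three p s pp (prime_of_nc pa a1)
    obtain ⟨A, h1, h2⟩ := pp_main pp (fun w hw pw v hv pv => by
      obtain ⟨a', ha, pa', a1'⟩ := exists_nc_of_index (prime_of_nc pa a1) (i2 w a hw pw a1 (pa.p'_of_ne sp)).dvd C1_self pa a1
      obtain ⟨b', hb, pb', b1'⟩ := exists_nc_of_index (prime_of_nc pb b1) (i2 w b hw pw b1 (pb.p'_of_ne tp)).dvd C1_self pb b1
      exact (hF.abel hw ha hb pa' pb' a1' b1' ts.symm).trans (C_le_C1 hv))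
      (fun w w' h1 h2 h3 h4 => ⟨1, PiNat.one, card_dvd_of_index (by rw [mul_one, i2 w w' h1 h2 h3 h4])⟩)
      ⟨a, b, s, t, ts.symm, sp, tp, pa, pb, a1, b1⟩
    exact ns (solv_of_abel_hall pp h1 h2)
  push Not at c
  have ab : ∀ w : G, w ∉ 𝐙 → Abel C1(w) := fun w w1 => by
    obtain ⟨r, a, ha, pa, a1, -⟩ := c w 2 Nat.prime_two w1
    obtain ⟨s, b, hb, pb, b1, sr⟩ := c w r (prime_of_nc pa a1) w1
    exact hF.abel w1 ha hb pa pb a1 b1 (Ne.symm sr)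
  obtain ⟨d, hd, e⟩ := exists_NP_ca (fun e => ns (Abel.solv e.ge)) ab
  have nZ := nZ_top (G := G)
  have lift : ∀ u : Coset 𝐙, u ≠ 1 → ∃ x, x ∉ 𝐙 ∧ cs 𝐙 x = u := fun u u1 => by
    obtain ⟨x, -, rfl⟩ := (mem_quo nZ).1 (quo_N.ge.trans (mim_mono le_top) (mem_top u))
    exact ⟨x, fun k => u1 (cs_eq_one k), rfl⟩
  rcases hd.solv_or (fun u u1 => by
    obtain ⟨x, x1, rfl⟩ := lift u u1
    exact e x x1 ▸ (ab x x1).mim) with k | k
  · exact ns (solv_of_quo_Z k)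
  obtain ⟨p, pp, hp, k⟩ := iso_prime k
  obtain ⟨u, -, ou⟩ := cauchy pp (card_top (G := Coset 𝐙) ▸ hp)
  obtain ⟨x, x1, rfl⟩ := lift u (ne_one_of_prime (ou ▸ pp))
  obtain ⟨r, a, ha, pa, a1, rp⟩ := c x p pp x1
  obtain ⟨v, hv, pv⟩ := exists_prime_pow_elt (x := cs 𝐙 a) (mt (cs_eq_one_iff (nZ (mem_top a))).1 a1)
  have ov := ((pa.mfun (nZ (mem_top a))).of_mem_zpowers hv).eq_of_dvd pv dvd_rfl
  refine k r (ov ▸ pv) rp ?_
  rw [← ou, ← ov]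
  refine H13.sp_mul (comm_of_zp ?_ hv).symm (by rw [ou, ov]; exact (Nat.coprime_primes pp (ov ▸ pv)).2 (Ne.symm rp))
  rw [← mfun_mul (nZ (mem_top _)) (nZ (mem_top _)), mem_C1.1 ha, mfun_mul (nZ (mem_top _)) (nZ (mem_top _))]

end R2
end H117
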