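import Cfsg.Agent.H17.Cam4
import Cfsg.Agent.H1.Harv4
import Cfsg.Agent.H21.AbIdx
import Cfsg.Agent.S4134
import Cfsg.Agent.S4365

/-! Class sizes `{1, m, m n}` with `m, n` coprime, part 1 (`DJ G m n`): the centralizers of the `π(m)`-elements split
(`DJ.comm`), `G` has a normal Hall `π(m)'`-subgroup (`DJ.hallK`), index computations in `G = K L` (`DK`). -/

set_option autoImplicit false
set_option linter.unusedSectionVars false
set_option linter.unusedVariables false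

namespace H117
open Subgroup Cfsg H18 H1
open scoped commutatorElement

variable {G : Type*} [Group G] [Finite G] {A H K L M N P Q T U V Y : Subgroup G}
  {a b g g' s t u v w x y z : G} {p q r k m n : ℕ} {π : Set ℕ}

local notation "𝐙" => Subgroup.centralizer ((⊤ : Subgroup G) : Set G)

theorem pi_split (hs : Solv Y) (h : ∀ v ∈ Y, PiElt πᶜ v → PiNat πᶜ (C1(v).relIndex Y)) :
    ∃ S X, Hall π S Y ∧ Hall πᶜ X Y ∧ X ≤ C(S) := by
  obtain ⟨S, hS, -⟩ := H23.hall_superset (π := π) hs bot_le PiGrp.bot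
  obtain ⟨X, hX, -⟩ := H23.hall_superset (π := πᶜ) hs bot_le PiGrp.bot
  refine ⟨S, X, hS, hX, ?_⟩
  suffices e : X ⊓ C(S) = X from e ▸ inf_le_right
  refine eq_of_forall_cj inf_le_left fun x hx => ?_
  obtain ⟨T, hT, -⟩ := H23.hall_superset (π := π) (hs.of_le (inf_le_left : Y ⊓ C1(x) ≤ Y)) bot_le PiGrp.bot
  have hT' : Hall π T Y := hT.of_idx inf_le_left (by rw [relIndex_inf_left]; exact h x (hX.le hx) (hX.pi.elt hx))
  obtain ⟨g, hg, e⟩ := H23.hall_conj hs hS hT'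
  obtain ⟨a, ha, b, hb, e'⟩ := hS.exists_mul hX (inv_mem hg)
  have eg : g = b⁻¹ * a⁻¹ := by rw [← mul_inv_rev, ← e', inv_inv]
  rw [eg, cj_mul, cj_eq_self_of_mem (inv_mem ha)] at e
  refine ⟨b⁻¹, inv_mem hb, ?_⟩
  rw [cj_inf, cj_C, ← e, cj_eq_self_of_mem (inv_mem hb)]
  exact ⟨hx, le_C1_iff.1 (hT.le.trans inf_le_right)⟩

structure DJ (G : Type*) [Group G] (m n : ℕ) : Prop where
  hm : 1 < m
  hn : 1 < n
  cop : m.Coprime n
  idx : ∀ x : G, x ∉ C((⊤ : Subgroup G)) → C1(x).index = m ∨ C1(x).index = m * n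
  em : ∃ x : G, C1(x).index = m
  en : ∃ x : G, C1(x).index = m * n

namespace DJ
variable (h : DJ G m n)
include h

theorem r2 : R2 G m (m * n) := ⟨by have := h.hm; have := h.hn; nlinarith, h.idx⟩
theorem solv : Solv H := h.r2.solv.of_le le_top
theorem pn : PiNat (primes m)ᶜ n := piNat_of_coprime' h.cop
theorem dvd (g1 : g ∉ 𝐙) : m ∣ C1(g).index := by rcases h.idx g g1 with e | e <;> simp [e]
theorem dvd' (g1 : g ∉ 𝐙) : C1(g).index ∣ m * n := by rcases h.idx g g1 with e | e <;> simp [e]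

theorem split (w1 : w ∉ 𝐙) (pw : PiElt (primes m) w) :
    ∃ S X, Hall (primes m) S C1(w) ∧ Hall (primes m)ᶜ X C1(w) ∧ X ≤ C(S) :=
  pi_split h.solv fun v hv pv => by
    by_cases e : C1(w) ≤ C1(v)
    · rw [relIndex_eq_one_iff.2 e]; exact PiNat.one
    · rw [h.r2.rel (mul_comm n m) w1 pw hv pv e]; exact h.pn

theorem comm (w1 : w ∉ 𝐙) (pw : PiElt (primes m) w) (hu : u ∈ C1(w)) (pu : PiElt (primes m) u) (hv : v ∈ C1(w))
    (pv : PiElt (primes m)ᶜ v) : u * v = v * u := by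
  obtain ⟨S, X, hS, hX, c⟩ := h.split w1 pw
  exact comm_of_cent (cent_symm c)
    (hS.mem_of_nml (by rw [← hS.sup_compl hX]; exact sup_le le_N (cent_norm c)) hu pu)
    (hX.mem_of_nml (by rw [← hS.sup_compl hX]; exact sup_le (cent_norm (cent_symm c)) le_N) hv pv)

theorem mem_O (w1 : w ∉ 𝐙) (pw : PiElt (primes m) w) (hv : v ∈ C1(w)) (pv : PiElt (primes m)ᶜ v) :
    v ∈ O[(primes m)ᶜ](C1(w)) := by
  obtain ⟨S, X, hS, hX, c⟩ := h.split w1 pw
  have n : C1(w) ≤ N(X) := by rw [← hS.sup_compl hX]; exact sup_le (cent_norm (cent_symm c)) le_N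
  exact le_pcore ⟨hX.le, n⟩ hX.pi (hX.mem_of_nml n hv pv)

theorem nc (pr : r.Prime) (hr : r ∣ m) (g1 : g ∉ 𝐙) : ∃ w ∈ C1(g), PiElt {r} w ∧ w ∉ 𝐙 := by
  obtain ⟨u, -, pu, u1⟩ := (exists_nc pr (K := 𝐙) (L := ⊤) ⟨le_top, nZ_top⟩).1 (by
    rw [relIndex_top_right, ← rel_mul (x := g)]; exact (hr.trans (h.dvd g1)).mul_left _)
  have k := (exists_nc pr nml_Z_C1).2 ⟨u, C1_self, pu, u1⟩
  refine (exists_nc pr nml_Z_C1).1 ?_
  have e : (𝐙).relIndex C1(u) * m ∣ (𝐙).relIndex C1(g) * n * m := by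
    refine (Nat.mul_dvd_mul_left _ (h.dvd u1)).trans ?_
    rw [rel_mul, ← rel_mul (x := g), mul_assoc, mul_comm n]
    exact Nat.mul_dvd_mul_left _ (h.dvd' g1)
  have e' := k.trans (Nat.dvd_of_mul_dvd_mul_right (by have := h.hm; omega) e)
  exact ((Nat.Prime.dvd_mul pr).1 e').resolve_right (h.pn.not_dvd' pr ⟨pr, hr⟩)

theorem memK (pv : PiElt (primes m)ᶜ v) : v ∈ O[(primes m)ᶜ]((⊤ : Subgroup G)) := by
  by_cases v1 : v ∈ 𝐙
  · exact mem_O_of_cent (mem_top _) (le_C1_iff.2 v1) pv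
  have e : ∀ r ∈ primes m, v ∈ O[{r}ᶜ]((⊤ : Subgroup G)) := fun r hr => by
    obtain ⟨w, hw, pw, w1⟩ := h.nc hr.1 hr.2 v1
    have := p'core_cent_pgroup (H := ⊤) h.solv le_top pw.zpowers
    rw [top_inf_eq, C_zpowers] at this
    exact this (pcore_sub (by simpa using hr) (h.mem_O w1 (pw.of_p hr) (mem_C1_comm.1 hw) pv))
  refine le_pcore (K := ⨅ r : primes m, O[{(r : ℕ)}ᶜ]((⊤ : Subgroup G))) ⟨le_top, norm_iInf fun r => pcore_nml.norm⟩
    (fun t pt ht => (Set.mem_compl_iff _ _).2 fun hm => ?_) (mem_iInf.2 fun r => e r r.2)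
  exact (piNat_compl_iff pt).1 (pcore_pi.of_le (iInf_le _ (⟨t, hm⟩ : primes m))) ht

theorem hallK : Hall (primes m)ᶜ O[(primes m)ᶜ]((⊤ : Subgroup G)) ⊤ := by
  obtain ⟨X, hX, -⟩ := H23.hall_superset (π := (primes m)ᶜ) (H := (⊤ : Subgroup G)) h.solv bot_le PiGrp.bot
  exact hX.of_ge (fun x hx => h.memK (hX.pi.elt hx)) le_top pcore_pi

end DJ

structure DK (m n : ℕ) (K L : Subgroup G) : Prop where
  dj : DJ G m n
  hK : Hall (primes m)ᶜ K ⊤
  nK : ⊤ ≤ N(K)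
  hL : Hall (primes m) L ⊤

namespace DK
variable (h : DK m n K L)
include h

theorem sd : SD K L ⊤ := sd_of_hall' h.hK h.nK h.hL
theorem m0 : 0 < m := by have := h.dj.hm; omega

theorem idx (g1 : g ∉ 𝐙) : (C1(g).index = m ∧ C1(g).relIndex K = 1) ∨ (C1(g).index = m * n ∧ C1(g).relIndex K = n) := by
  have d1 : C1(g).relIndex K ∣ C1(g).index := by
    rw [← relIndex_top_right]; exact h.sd.nml.relIndex_dvd' le_top
  have pa : PiNat (primes m)ᶜ (C1(g).relIndex K) := h.hK.pi.relIndex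
  rcases h.dj.idx g g1 with e | e
  · exact Or.inl ⟨e, (piNat_primes.of_dvd (e ▸ d1)).eq_one pa⟩
  refine Or.inr ⟨e, Nat.dvd_antisymm (pa.dvd_of_dvd_mul (k := n) piNat_primes.compl_compl (by rwa [mul_comm, ← e])) ?_⟩
  have d2 : C1(g).index ∣ C1(g).relIndex K * Nat.card L := by
    rw [← h.sd.relIndex, relIndex_top_right, ← relIndex_inf_right, relIndex_mul_index inf_le_right]
    exact index_dvd_of_le inf_le_left
  exact h.dj.pn.dvd_of_dvd_mul h.hL.pi.compl_compl ((e ▸ dvd_mul_left n m).trans d2)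

theorem idx_mul (g1 : g ∉ 𝐙) : C1(g).index = m * C1(g).relIndex K := by
  rcases h.idx g1 with ⟨e, e'⟩ | ⟨e, e'⟩ <;> rw [e, e']
  exact (mul_one m).symm

theorem idx_n (hg : g ∉ C(K)) : C1(g).index = m * n ∧ C1(g).relIndex K = n :=
  (h.idx fun k => hg (C_anti le_top k)).resolve_left fun k => hg (le_C1_iff.1 (relIndex_eq_one_iff.1 k.2))

theorem idx_m (g1 : g ∉ 𝐙) (hg : g ∈ C(K)) : C1(g).index = m := by
  rw [h.idx_mul g1, relIndex_eq_one_iff.2 (le_C1_iff.2 hg), mul_one]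

theorem mem_C_iff : g ∈ C(K) ↔ C1(g).index = 1 ∨ C1(g).index = m := by
  refine ⟨fun k => ?_, fun k => by_contra fun e => ?_⟩
  · by_cases g1 : g ∈ 𝐙
    · exact Or.inl (C1_index_eq_one.2 g1)
    · exact Or.inr (h.idx_m g1 k)
  · have := h.dj.hm; have := h.dj.hn
    rcases k with k | k <;> rw [(h.idx_n e).1] at k <;> nlinarith

theorem eqK (hg : g ∉ C(K)) (hg' : g' ∉ C(K)) (e : K ⊓ C1(g) ≤ C1(g')) : K ⊓ C1(g') ≤ C1(g) := by
  have e1 := card_mul_relIndex' (A := C1(g)) (B := K)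
  have e2 := card_mul_relIndex' (A := C1(g')) (B := K)
  rw [(h.idx_n hg).2] at e1
  rw [(h.idx_n hg').2, ← e1] at e2
  have := eq_of_card_eq (A := C1(g) ⊓ K) (B := C1(g') ⊓ K) (le_inf (inf_comm K _ ▸ e) inf_le_right)
    (Nat.eq_of_mul_eq_mul_right (by have := h.dj.hn; omega) e2).symm
  rw [inf_comm, ← this]; exact inf_le_left

theorem cardL (g1 : g ∉ 𝐙) (hg : g ∈ L ∨ g ∈ C(K)) : Nat.card (L ⊓ C1(g) : Subgroup G) * m = Nat.card L := by
  have sd : SD (K ⊓ C1(g)) (L ⊓ C1(g)) C1(g) := by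
    refine sd_of_nml (nml_inf_of_norm' (le_top.trans h.nK)) inf_le_right
      (h.hK.pi.inf_left.inf_eq_bot' h.hL.pi.inf_left) ?_
    rcases hg with hg | hg
    · have := h.sd.inf_cent (zpowers_le.2 hg)
      rw [C_zpowers, top_inf_eq] at this
      exact this.le
    · rw [inf_eq_left.2 (le_C1_iff.2 hg)]
      exact (h.sd.inf_right (le_C1_iff.2 hg) le_top).sup.ge
  have e1 := (C1(g)).card_mul_index
  have e2 := h.sd.card
  have e3 := card_mul_relIndex' (A := C1(g)) (B := K)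
  rw [card_top, ← e1, sd.card, h.idx_mul g1, ← e3, inf_comm C1(g) K] at e2
  refine Nat.eq_of_mul_eq_mul_left (n := Nat.card (K ⊓ C1(g) : Subgroup G) * C1(g).relIndex K)
    (Nat.mul_pos card_pos' relIndex_pos) ?_
  rw [← e2]; ring

theorem relL (g1 : g ∉ 𝐙) (hg : g ∈ L ∨ g ∈ C(K)) : C1(g).relIndex L = m := by
  rw [← relIndex_inf_left]; exact relIndex_eq_of_mul inf_le_left (h.cardL g1 hg).symm

theorem eqL (g1 : g ∉ 𝐙) (hg : g ∈ L ∨ g ∈ C(K)) (v1 : v ∉ 𝐙) (e : L ⊓ C1(g) ≤ C1(v)) : L ⊓ C1(v) = L ⊓ C1(g) := by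
  refine (eq_of_card_ge (le_inf inf_le_left e) (Nat.le_of_mul_le_mul_right ?_ h.m0)).symm
  rw [h.cardL g1 hg]
  refine Nat.le_of_dvd card_pos' (h.hL.dvd_of_piNat (h.hL.pi.inf_left.mul piNat_primes) ?_)
  rw [card_top, ← (C1(v)).card_mul_index]
  exact Nat.mul_dvd_mul (card_dvd inf_le_right) (h.dj.dvd v1)

theorem P1 (hw : w ∈ L) (w1 : w ∉ 𝐙) (hv : v ∈ K) (e : v ∈ C1(w)) : L ⊓ C1(w) ≤ C1(v) := fun u hu =>
  mem_C1.2 (h.dj.comm w1 (h.hL.pi.elt hw) hu.2 (h.hL.pi.elt hu.1) e (h.hK.pi.elt hv))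

theorem eqL' (hw : w ∈ L) (w1 : w ∉ 𝐙) (hv : v ∈ K) (v1 : v ∉ 𝐙) (e : v ∈ C1(w)) : L ⊓ C1(v) = L ⊓ C1(w) :=
  h.eqL w1 (Or.inl hw) v1 (h.P1 hw w1 hv e)

theorem exK : ∃ v ∈ K, v ∉ 𝐙 := by
  by_contra! k
  obtain ⟨g, e⟩ := h.dj.en
  have := h.dj.hm; have := h.dj.hn
  rcases h.mem_C_iff.1 (cent_symm (fun v hv => C_anti (le_top (a := ⊤)) (k v hv)) (mem_top g)) with k | k <;>
    rw [e] at k <;> nlinarith

theorem exL : ∃ w ∈ L, w ∉ 𝐙 := by
  by_contra! k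
  obtain ⟨v, -, v1⟩ := h.exK
  have := piNat_primes.eq_one ((h.hL.idx_of_le (K := C1(v)) fun w hw => mem_C1_comm.1 (le_C1_iff.2 (k w hw) (mem_top v))).of_dvd
    (by rw [relIndex_top_right]; exact h.dj.dvd v1))
  have := h.dj.hm; omega

theorem not_le (hw : w ∈ L) (w1 : w ∉ 𝐙) : ¬ L ≤ C1(w) := fun k => by
  have := h.relL w1 (Or.inl hw)
  rw [relIndex_eq_one_iff.2 k] at this
  have := h.dj.hm; omega

theorem pgrp : ∃ p a : ℕ, p.Prime ∧ m = p ^ a ∧ PiGrp {p} L ∧ PiGrp {p}ᶜ K ∧ ∀ x ∈ L, x ^ p ∈ 𝐙 := by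
  have e : ∀ x : L, C1(x).index = C1((x : G)).relIndex L := fun x => by
    rw [relIndex]; congr 1; ext y; simp [mem_C1, mem_subgroupOf, Subtype.ext_iff]
  have e1 : ∀ x : L, C1(x).index = 1 ∨ C1(x).index = m := fun x => by
    rw [e]
    by_cases x1 : (x : G) ∈ 𝐙
    · exact Or.inl (relIndex_eq_one_iff.2 (le_top.trans (le_C1_iff.2 x1)))
    · exact Or.inr (h.relL x1 (Or.inl x.2))
  obtain ⟨w, hw, w1⟩ := h.exL
  have e2 : C1((⟨w, hw⟩ : L)).index = m := by rw [e]; exact h.relL w1 (Or.inl hw)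
  obtain ⟨p, ⟨pp⟩, a, ea, -⟩ := Cfsg.Agent.S4134.result m h.dj.hm e1 ⟨_, e2⟩
  have a1 : 1 ≤ a := Nat.pos_of_ne_zero fun k => by have := h.dj.hm; simp [k] at ea; omega
  have cg : ∀ t : ℕ, t.Prime → (t ∈ primes m ↔ t ∈ ({p} : Set ℕ)) := fun t pt =>
    ⟨fun k => (Nat.prime_dvd_prime_iff_eq pt pp).1 (pt.dvd_of_dvd_pow (ea ▸ k.2)),
      fun k => ⟨pt, by rw [ea, k]; exact dvd_pow_self p (by omega)⟩⟩
  have pL : PiGrp {p} L := (piNat_congr cg).1 h.hL.pi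
  refine ⟨p, a, pp, ea, pL, (piNat_congr fun t pt => not_congr (cg t pt)).1 h.hK.pi, fun x hx => by_contra fun k => ?_⟩
  have := Fact.mk pp
  have := Cfsg.Agent.S4365.result p pL.isPGroup a a1 (Set.ext fun k => ⟨fun ⟨x, hx⟩ => by
    rcases e1 x with e | e
    · exact Or.inl (hx ▸ e)
    · exact Or.inr (hx ▸ ea ▸ e), fun hk => by
    rcases hk with hk | hk
    · exact ⟨1, by rw [hk, C1_one, index_top]⟩
    · exact ⟨_, by rw [hk, ← ea]; exact e2⟩⟩) ⟨x, hx⟩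
  exact h.not_le (pow_mem hx p) k fun y hy => mem_C1.2 (congrArg Subtype.val (mem_center_iff.1 this ⟨y, hy⟩))

end DK
end H117
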