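import Cfsg.Agent.H17.DJ1

/-! Class sizes `{1, m, m n}` with `m, n` coprime, part 2: `C_L(K)` is not central (`DK.caseA`), and then
`K`, `C_L(K)` are abelian, `m` is prime (`DK.prime`), `|L'| = m`, `m ∣ n - 1`. -/

set_option autoImplicit false
set_option linter.unusedSectionVars false
set_option linter.unusedVariables false

namespace H117
open Subgroup Cfsg H18 H1
open scoped commutatorElement

variable {G : Type*} [Group G] [Finite G] {A H K L M N P Q T U V Y : Subgroup G}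
  {a b g g' s t u v w x y z : G} {p q r k m n : ℕ} {π : Set ℕ}

local notation "𝐙" => Subgroup.centralizer ((⊤ : Subgroup G) : Set G)

theorem exists_Z2 (hL : Nil L) (na : ¬ L ≤ C(L)) : ∃ a ∈ L, a ∉ C(L) ∧ ⁅L, L⁆ ≤ C1(a) := by
  have nZ : L ≤ N(Z(L)) := nml_Z.norm
  obtain ⟨x, ⟨hx, hc⟩, x1⟩ := exists_mem_ne_one' ((hL.mim (f := coset Z(L))).Z_ne_bot fun k =>
    na (((quo_eq_bot_iff nZ).1 k).trans inf_le_right))
  obtain ⟨a, ha, rfl⟩ := (mem_quo nZ).1 hx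
  refine ⟨a, ha, fun k => x1 (cs_eq_one ⟨ha, k⟩), le_C1_iff.2 (zTwo_cent_der (le_zTwo_iff.2 ⟨zpowers_le.2 ha,
    ((comm_le_iff_quo ((zpowers_le.2 ha).trans nZ) nZ).2 ?_).trans inf_le_right⟩ (mem_zpowers a)))⟩
  rw [mim_zpowers (nZ ha), zpowers_le]; exact hc

theorem Z_le_C1 (h : z ∈ 𝐙) : z ∈ C1(x) := mem_C1_comm.1 (le_C1_iff.2 h (mem_top x))

namespace DK
variable (h : DK m n K L)
include h

theorem exW (c : L ⊓ C(K) ≤ 𝐙) : ∃ u ∈ K ⊓ C(K), u ∉ 𝐙 := by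
  obtain ⟨g, e⟩ := h.dj.em
  have hg := h.mem_C_iff.2 (Or.inr e)
  have hN : Hall (primes m) (L ⊓ C(K)) C(K) := h.hL.inf_nml ⟨le_top, norm_C h.nK⟩
  refine ⟨piPart (primes m)ᶜ g, ⟨h.hK.mem_of_nml h.nK (mem_top _) piElt_piPart, piPart_mem hg⟩, fun k => ?_⟩
  have := C1_index_eq_one.2 (mem_of_parts (c (hN.mem_of_nml (cent_norm (cent_symm (c.trans (C_anti le_top))))
    (piPart_mem hg) piElt_piPart)) k)
  have := h.dj.hm; omega

theorem exU (c : L ⊓ C(K) ≤ 𝐙) (hw : w ∈ L) (w1 : w ∉ 𝐙) : ∃ u ∈ K ⊓ C(K), u ∉ 𝐙 ∧ u ∈ C1(w) := by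
  obtain ⟨u, hu, u1⟩ := h.exW c
  have nc : ∀ w ∈ L, w ∉ 𝐙 → w ∉ C(K) := fun w hw w1 k => w1 (c ⟨hw, k⟩)
  by_cases e : K ⊓ C1(w) ≤ C(K)
  · by_contra! k
    have e' : K ⊓ C1(w) ≤ 𝐙 := fun v hv => by_contra fun v1 => k v ⟨hv.1, e hv⟩ v1 hv.2
    have : ¬ L ⊓ C1(u) ≤ 𝐙 := fun k' => w1 (k' (by
      rw [← h.eqL u1 (Or.inr hu.2) w1 fun z hz => Z_le_C1 (k' hz)]; exact ⟨hw, C1_self⟩))
    obtain ⟨w', hw', w1'⟩ := SetLike.not_le_iff_exists.1 this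
    exact k u hu u1 (h.eqK (nc w hw w1) (nc w' hw'.1 w1') (fun z hz => Z_le_C1 (e' hz)) ⟨hu.1, mem_C1_comm.1 hw'.2⟩)
  · obtain ⟨v, hv, v1⟩ := SetLike.not_le_iff_exists.1 e
    have e1 := C1_mul (mem_C1.1 hv.2).symm (h.hL.pi.elt hw) (h.hK.pi.elt hv.1)
    have e2 := h.dj.r2.min (h.idx_n (nc w hw w1)).1 w1 (e1.le.trans inf_le_left)
    have e3 := h.dj.r2.min (h.idx_n v1).1 (fun k => v1 (C_anti le_top k)) (e1.le.trans inf_le_right)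
    exact ⟨u, hu, u1, by rw [← e2, e3]; exact C_le_C1 hv.1 hu.2⟩

theorem caseA : ¬ L ⊓ C(K) ≤ 𝐙 := fun c => by
  obtain ⟨p, -, pp, -, pL, -, -⟩ := h.pgrp
  obtain ⟨w, hw, w1⟩ := h.exL
  obtain ⟨a, ha, a1, hd⟩ := exists_Z2 pL.nil fun k => h.not_le hw w1 (le_C1_iff.2 (k hw))
  have a2 : a ∉ 𝐙 := fun k => a1 (C_anti le_top k)
  have nA : L ≤ N(L ⊓ C1(a)) := norm_of_der_le (le_inf der_le hd) inf_le_left
  have nW : ⊤ ≤ N(K ⊓ C(K)) := norm_Z h.nK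
  have d := abel_comm_inf_cent (A := L ⊓ C1(a)) (V := K ⊓ C(K)) abel_Z (le_top.trans nW)
    (h.hL.pi.inf_left.coprime h.hK.pi.inf_left)
  obtain ⟨u, hu, u1, hu'⟩ := h.exU c ha a2
  have eu := h.eqL' ha a2 hu.1 u1 hu'
  have cu : u ∈ C(L ⊓ C1(a)) := le_C1_iff.1 (eu ▸ inf_le_right)
  by_cases e : ⁅K ⊓ C(K), L ⊓ C1(a)⁆ = ⊥
  · obtain ⟨y, hy, y1⟩ := SetLike.not_le_iff_exists.1 (h.not_le ha a2)
    obtain ⟨v, hv, v1, hv'⟩ := h.exU c hy fun k => y1 (Z_le_C1 k)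
    have := h.eqL' ha a2 hv.1 v1 (C_le_C1 (mem_inf.2 ⟨ha, C1_self⟩) (comm_eq_bot_iff.1 e hv))
    exact y1 (this.le ⟨hy, mem_C1_comm.1 hv'⟩).2
  obtain ⟨x, hx, x1⟩ := exists_mem_ne_one' e
  have hx' : x ∈ K ⊓ C(K) := comm_le_left (le_top.trans nW) hx
  have st : u * x ∉ C(L ⊓ C1(a)) := fun k => x1 (eq_one_of_eq_bot d ⟨hx, (mul_mem_cancel_left cu).1 k⟩)
  have s1 : u * x ∉ 𝐙 := fun k => st (C_anti le_top k)
  refine st (le_C1_iff.1 ?_)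
  rw [← eu, h.eqL s1 (Or.inr (mul_mem hu hx').2) u1 fun l hl => ?_]
  · exact inf_le_right
  have k1 : u⁻¹ * (l * u * l⁻¹) = x * (l * x * l⁻¹)⁻¹ := by
    have := mem_C1.1 hl.2
    calc _ = u⁻¹ * (l * (u * x)) * (x⁻¹ * l⁻¹) := by group
      _ = _ := by rw [this]; group
  have k2 : u⁻¹ * (l * u * l⁻¹) = 1 := eq_one_of_eq_bot d (mem_inf.2 ⟨by
    rw [k1]; exact mul_mem hx (inv_mem (conj_mem (norm_comm (le_top.trans nW) nA) hl.1 hx)),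
    mul_mem (inv_mem cu) (conj_mem (norm_C nA) hl.1 cu)⟩)
  rw [inv_mul_eq_one] at k2
  exact mem_C1.2 (by rw [mul_inv_eq_iff_eq_mul.1 k2.symm])

theorem N0_eq (hw : w ∈ L ⊓ C(K)) (w1 : w ∉ 𝐙) : L ⊓ C1(w) = L ⊓ C(K) := by
  obtain ⟨v, hv, v1⟩ := h.exK
  refine le_antisymm (le_inf inf_le_left (cent_symm fun v hv => le_C1_iff.1 (h.P1 hw.1 w1 hv (le_C1_iff.2 hw.2 hv)))) ?_
  rw [← h.eqL' hw.1 w1 hv v1 (le_C1_iff.2 hw.2 hv)]
  exact inf_le_inf_left _ (C_le_C1 hv)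

theorem N0_eq' (hv : v ∈ K) (v1 : v ∉ 𝐙) : L ⊓ C1(v) = L ⊓ C(K) := by
  obtain ⟨w, hw, w1⟩ := SetLike.not_le_iff_exists.1 h.caseA
  rw [h.eqL' hw.1 w1 hv v1 (le_C1_iff.2 hw.2 hv), h.N0_eq hw w1]

theorem abel_N0 : Abel (L ⊓ C(K)) := fun x hx => by
  by_cases x1 : x ∈ 𝐙
  · exact C_anti le_top x1
  · exact le_C1_iff.1 (h.N0_eq hx x1 ▸ inf_le_right)

theorem card_N0 : Nat.card (L ⊓ C(K) : Subgroup G) * m = Nat.card L := by
  obtain ⟨w, hw, w1⟩ := SetLike.not_le_iff_exists.1 h.caseA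
  rw [← h.N0_eq hw w1, h.cardL w1 (Or.inl hw.1)]

theorem rel_N0 : (L ⊓ C(K)).relIndex L = m := relIndex_eq_of_mul inf_le_left h.card_N0.symm

theorem fpf (hy : y ∈ L) (y1 : y ∉ C(K)) : K ⊓ C1(y) ≤ 𝐙 := fun v hv => by_contra fun v1 =>
  y1 ((h.N0_eq' hv.1 v1).le ⟨hy, mem_C1_comm.1 hv.2⟩).2

theorem exY : ∃ y ∈ L, y ∉ C(K) := by
  by_contra! k
  have := h.rel_N0
  rw [relIndex_eq_one_iff.2 (le_inf le_rfl k)] at this
  have := h.dj.hm; omega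

theorem abel_K : Abel K := fun v hv => by_contra fun v1 => by
  obtain ⟨y, hy, y1⟩ := h.exY
  exact v1 (C_anti le_top (h.fpf hy y1 ⟨hv, h.eqK y1 v1 (fun z hz => Z_le_C1 (h.fpf hy y1 hz)) ⟨hv, C1_self⟩⟩))

theorem C_eq : C(K) = K ⊔ (L ⊓ C(K)) := (h.sd.inf_right h.abel_K le_top).sup.symm

theorem abel_C : Abel C(K) := by
  rw [h.C_eq]; exact h.abel_K.sup h.abel_N0 (cent_symm inf_le_right)

theorem idx_C : C(K).index = m := by
  obtain ⟨v, hv, v1⟩ := h.exK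
  have e := (h.sd.inf_right (le_C1_iff.2 (h.abel_K hv)) le_top).sup
  rw [h.N0_eq' hv v1] at e
  rw [h.C_eq, e, h.idx_m v1 (h.abel_K hv)]

theorem prime : m.Prime := by
  obtain ⟨p, a, pp, ea, pL, pK, ex⟩ := h.pgrp
  by_cases a2 : a < 2
  · have := h.dj.hm
    interval_cases a
    · simp at ea; omega
    · rwa [ea, pow_one]
  have nN : ⊤ ≤ N(L ⊓ C(K)) := by
    rw [← h.sd.sup]; exact sup_le (cent_norm (cent_symm inf_le_right)) (norm_inf le_N (norm_C (le_top.trans h.nK)))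
  have dj : K ⊓ (L ⊓ C(K)) = ⊥ := pK.inf_eq_bot' pL.inf_left
  obtain ⟨B, hB, cB⟩ := exists_sub_card_pow (H := L ⫽ (L ⊓ C(K))) pp (n := 2) (by
    rw [card_quo (le_top.trans nN), h.rel_N0, ea]; exact pow_dvd_pow p (by omega))
  have := coprime_abelian_gen_cent1 (K := K ⫽ (L ⊓ C(K))) (X := (K ⊓ 𝐙) ⫽ (L ⊓ C(K))) (abel_of_card_sq pp cB)
    (fun k => ?_) (hB.trans (mim_norm (le_top.trans h.nK))) ((piGrp_of_card_pow pp cB).coprime pK.mim) fun b hb b1 => ?_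
  · obtain ⟨v, hv, v1⟩ := h.exK
    have k := le_inf le_rfl ((quo_le_quo_iff (le_top.trans nN) (le_top.trans nN)).1 this)
    rw [Nrm2.modular_left (Or.inl (le_top.trans nN)) inf_le_left, dj, sup_bot_eq] at k
    exact (v1 (k hv).2).elim
  · obtain ⟨b, rfl⟩ := k.gen
    obtain ⟨y, hy, rfl⟩ := (mem_quo (le_top.trans nN)).1 (hB (mem_zpowers b))
    rw [card_zpowers'] at cB
    have : cs (L ⊓ C(K)) y ^ p = 1 := by
      rw [← mfun_pow (nN (mem_top y))]; exact cs_eq_one ⟨pow_mem hy p, C_anti le_top (ex y hy)⟩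
    have := Nat.le_of_dvd pp.pos (cB ▸ orderOf_dvd_of_pow_eq_one this)
    have := pp.one_lt
    nlinarith
  · obtain ⟨y, hy, rfl⟩ := (mem_quo (le_top.trans nN)).1 (hB hb)
    rintro _ ⟨hz, hz'⟩
    obtain ⟨v, hv, rfl⟩ := (mem_quo (le_top.trans nN)).1 hz
    refine mfun_mem_mim ⟨hv, h.fpf hy (fun k => b1 (cs_eq_one ⟨hy, k⟩)) ⟨hv, ?_⟩⟩
    have c := cent_of_quo_cent (A := zpowers y) (B := K ⊓ qpre (L ⊓ C(K)) C1(cs (L ⊓ C(K)) y)) (le_top.trans nN)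
      (le_top.trans nN) (norm_inf (le_top.trans h.nK) (norm_mpre (le_top.trans nN) (by
        rw [mim_zpowers (nN (mem_top y))]; exact le_norm (zpowers_le.2 C1_self))))
      (eq_bot_iff.2 ((inf_le_inf_right _ inf_le_left).trans dj.le)) (by
        rw [mim_inf_mpre, mim_zpowers (nN (mem_top y)), zpowers_le_C_iff]; exact inf_le_right)
    exact zpowers_le_C_iff.1 c ⟨hv, mem_mpre.2 ⟨nN (mem_top v), hz'⟩⟩

theorem card_der : Nat.card (⁅L, L⁆ : Subgroup G) = m := by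
  obtain ⟨y, hy, y1⟩ := h.exY
  have nN : L ⊓ C(K) ⊴ L := nml_cent (le_top.trans h.nK)
  have e : L ⊓ C(K) ⊔ zpowers y = L :=
    (eq_or_eq_of_prime_relIndex (h.rel_N0 ▸ h.prime) le_sup_left (sup_le inf_le_left (zpowers_le.2 hy))).resolve_left
      fun k => y1 (k.le (mem_sup_right (mem_zpowers y))).2
  have e1 := H21.card_commutator_mul h.abel_N0 (nN.norm hy)
  have e2 : (L ⊓ C(K)).relIndex (L ⊓ C1(y)) = m :=
    ((Nat.dvd_prime h.prime).1 (h.rel_N0 ▸ nN.relIndex_dvd inf_le_left)).resolve_left fun k =>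
      y1 (relIndex_eq_one_iff.1 k ⟨hy, C1_self⟩).2
  have e3 := card_mul_relIndex' (A := L ⊓ C(K)) (B := L ⊓ C1(y))
  have e4 := h.cardL (fun k => y1 (C_anti le_top k)) (Or.inl hy)
  rw [← h.card_N0] at e4
  rw [e2, Nat.eq_of_mul_eq_mul_right h.m0 e4, ← inf_assoc, inf_right_comm L _ L, inf_idem, ← e1, e, mul_comm] at e3
  exact (Nat.eq_of_mul_eq_mul_right card_pos' e3).symm

theorem dvd_pred : m ∣ n - 1 := by
  obtain ⟨y, hy, y1⟩ := h.exY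
  have := Fact.mk h.prime
  have cg : ∀ t : ℕ, t.Prime → (t ∈ primes m ↔ t ∈ ({m} : Set ℕ)) := fun t pt =>
    ⟨fun k => (Nat.prime_dvd_prime_iff_eq pt h.prime).1 k.2, fun k => ⟨pt, by rw [k]⟩⟩
  have e := H3.card_modEq_card_inf_centralizer (Q := K) (PiElt.zpowers ((piNat_congr cg).1 (h.hL.pi.elt hy))).isPGroup
    (le_top.trans h.nK)
  have e1 := card_mul_relIndex' (A := C1(y)) (B := K)
  rw [(h.idx_n y1).2, inf_comm] at e1
  rw [C_zpowers] at e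
  conv at e => lhs; rw [← e1]
  conv at e => rhs; rw [← mul_one (Nat.card _)]
  exact (Nat.modEq_iff_dvd' h.dj.hn.le).1 (Nat.ModEq.cancel_left_of_coprime
    (piNat_primes.coprime h.hK.pi.inf_left) e).symm

end DK
end H117
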