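import Cfsg.Agent.H3.U3
import Cfsg.Agent.S3157

/-! 2-groups `P` with an involutory automorphism `α` whose fixed points form an elementary group `C` of order `q` permuted
regularly by a commuting automorphism `ξ`: `H17.IC.Hy` (hypothesis), the chain `[x, α, …, α] = 1` of layers (`Lay`),
`Hy.main` (abelian cases, or a quadratic form `u² + uv + γv²` for the squaring map), `Hy.iso` (Sylow 2 of `U₃(q)`, `L₃(q)`). -/

set_option autoImplicit false
set_option linter.unusedSectionVars false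

namespace H17.IC

open Subgroup H18 H3
open scoped commutatorElement

variable {F : Type*} [Field F] [CharP F 2] {P : Type*} [Group P] {ξ α : MulAut P} {A B D X Y X' Y' C : Subgroup P}
  {f f' z : P → F} {l : F} {x y b : P}

theorem wt {σ τ : F ≃+* F} (hl : Gen l) (h : σ l * τ l = l) : τ = σ ∧ ∀ x, σ x * σ x = x := by
  have e : ∀ x, σ x * τ x = RingEquiv.refl F x :=
    hl.ext (f := fun x => σ x * τ x) (by simp) fun k => by simp [← mul_pow, h]
  obtain rfl := rel1 e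
  exact ⟨rfl, e⟩

theorem bsq [Finite F] {g : P → P → F} (hg : Bil ξ X Y X' Y' g l) (h : Coord ξ X Y f l) (h' : Coord ξ X' Y' f' l) :
    ∃ c, ∀ x ∈ X, ∀ y ∈ X', g x y ^ 2 = c * (f x * f' y) := by
  rcases hg.mono h h' fun σ τ σ' τ' e e' => by
      obtain ⟨rfl, e1⟩ := wt h.gen e
      obtain ⟨rfl, e2⟩ := wt h.gen e'
      exact (and_self_iff).2 (RingEquiv.ext fun x => sq_inj ((e1 x).trans (e2 x).symm)) with e | ⟨b, σ, τ, -, e, e'⟩
  · exact ⟨0, fun x hx y hy => by simp [e x hx y hy]⟩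
  · obtain ⟨rfl, e⟩ := wt h.gen e
    exact ⟨b ^ 2, fun x hx y hy => by rw [e' x hx y hy, ← map_mul, mul_pow, pow_two (τ _), e]⟩

/-- `[x, α]` -/
def dl (α : MulAut P) (x : P) : P := x⁻¹ * α x

theorem dl_mul (x y : P) : dl α (x * y) = y⁻¹ * dl α x * y * dl α y := by simp [dl, mul_assoc]
theorem dl_inv (h : α x = x⁻¹) : dl α x = (x * x)⁻¹ := by simp [dl, h]

structure Lay (ξ α : MulAut P) (A B : Subgroup P) (f : P → F) (l : F) : Prop where
  co : Coord ξ B A f l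
  cen : ∀ b ∈ B, ∀ x, ⁅b, x⁆ ∈ A
  mem : ∀ x, x ∈ B ↔ dl α x ∈ A

namespace Lay
variable (h : Lay ξ α A B f l)
include h

theorem normal : B.Normal := ⟨fun b hb x => by
  simpa [commutatorElement_def, mul_assoc] using B.mul_mem (B.inv_mem (h.co.le (h.cen b hb x))) hb⟩

theorem conj (hb : b ∈ B) (x : P) : f (x * b * x⁻¹) = f b := by
  have := h.co.add _ (h.co.le (h.cen b hb x)) _ (h.normal.conj_mem b hb x)
  rw [h.co.zero (h.cen b hb x), zero_add] at this
  rw [← this]; simp [commutatorElement_def, mul_assoc]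

theorem bil (hc : ∀ x ∈ X, ∀ y ∈ X', ⁅x, y⁆ ∈ B) (v1 : ∀ x ∈ Y, ∀ y ∈ X', ⁅x, y⁆ ∈ A) (v2 : ∀ x ∈ X, ∀ y ∈ Y', ⁅x, y⁆ ∈ A) :
    Bil ξ X Y X' Y' (fun x y => f ⁅x, y⁆) l := by
  refine ⟨fun y hy a ha b hb => ?_, fun x hx a ha b hb => ?_, fun x hx y hy => h.co.zero (v1 x hx y hy),
    fun x hx y hy => h.co.zero (v2 x hx y hy), fun x hx y hy => by rw [← map_commutatorElement, h.co.conj _ (hc x hx y hy)]⟩
  · beta_reduce
    rw [add_comm, ← h.conj (hc b hb y hy) a, ← h.co.add _ (h.normal.conj_mem _ (hc b hb y hy) a) _ (hc a ha y hy)]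
    simp [commutatorElement_def, mul_assoc]
  · rw [← h.conj (hc x hx b hb) a, ← h.co.add _ (hc x hx a ha) _ (h.normal.conj_mem _ (hc x hx b hb) a)]
    simp [commutatorElement_def, mul_assoc]

theorem of_sq (hc : ∀ x ∈ X, ∀ y ∈ X', ⁅x, y⁆ ∈ B) (hx : x ∈ Sq X) : ∀ y ∈ X', ⁅x, y⁆ ∈ A := fun y hy =>
  (h.co.ker _ (hc x (Sq_le hx) y hy)).1 ((Sq_le_iff (Y := ((h.bil (Y := ⊥) (Y' := ⊥) hc (by simp) (by simp)).add1 y hy).ker)).2
    (fun a ha => ⟨X.mul_mem ha ha, (((h.bil (Y := ⊥) (Y' := ⊥) hc (by simp) (by simp)).add1 y hy) a ha a ha).trans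
      (CharTwo.add_self_eq_zero _)⟩) hx).2

end Lay

/-- the chain `[x, α, …, α] = 1` -/
def K (α : MulAut P) : ℕ → Subgroup P
  | 0 => ⊥
  | i + 1 => closure {x | dl α x ∈ K α i}

/-- its coordinates -/
def cK (α : MulAut P) (z : P → F) (i : ℕ) (x : P) : F := z ((dl α)^[i] x)

theorem Lay.eq (h : Lay ξ α A B f l) : Subgroup.closure {x | dl α x ∈ A} = B :=
  (congrArg Subgroup.closure (Set.ext fun x => (h.mem x).symm)).trans (closure_eq B)

theorem K_ne {i j : ℕ} (hj : i ≤ j) (h : K α j ≠ ⊤) : K α i ≠ ⊤ := by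
  induction hj with
  | refl => exact h
  | step _ ih => exact ih fun e => h (top_unique fun x _ => subset_closure (e.ge trivial))

theorem nilp [Finite P] (pg : IsPGroup 2 P) (a2 : ∀ x, α (α x) = x) : ∃ N, ∀ x, (dl α)^[N] x = 1 := by
  obtain ⟨N, hN⟩ := pg.exists_card_eq
  have : ∀ k y, α y = y⁻¹ → ∃ w, (w = y ∨ w = y⁻¹) ∧ (dl α)^[k] y = w ^ 2 ^ k := fun k y hy => by
    induction k with
    | zero => exact ⟨y, .inl rfl, by simp⟩
    | succ k ih =>
      obtain ⟨w, hw, e⟩ := ih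
      refine ⟨w⁻¹, by rcases hw with rfl | rfl <;> simp, ?_⟩
      rw [Function.iterate_succ_apply', e, dl_inv (by rcases hw with rfl | rfl <;> simp [hy]), ← pow_two, ← pow_mul, ← pow_succ,
        inv_pow]
  refine ⟨N + 1, fun x => ?_⟩
  obtain ⟨w, -, e⟩ := this N _ (show α (dl α x) = _ by simp [dl, a2])
  rw [Function.iterate_succ_apply, e, ← hN, pow_card_eq_one']

theorem esc [Finite P] (pg : IsPGroup 2 P) (a2 : ∀ x, α (α x) = x) (hX : XInv α X) (hx : x ∈ X) (hx' : x ∉ A) : ∃ y ∈ X, y ∉ A ∧ dl α y ∈ A := by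
  by_contra! e
  obtain ⟨N, hN⟩ := nilp pg a2
  have : ∀ k, (dl α)^[k] x ∈ X ∧ (dl α)^[k] x ∉ A := fun k => by
    induction k with
    | zero => exact ⟨hx, hx'⟩
    | succ k ih =>
      rw [Function.iterate_succ_apply']
      exact ⟨mul_mem (inv_mem ih.1) (hX _ ih.1), e _ ih.1 ih.2⟩
  exact (this N).2 (hN x ▸ one_mem _)

structure Hy [Fintype F] (ξ α : MulAut P) (C : Subgroup P) (z : P → F) (l : F) : Prop where
  pg : IsPGroup 2 P
  fpf : FPF ξ (Fintype.card F)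
  a2 : ∀ x, α (α x) = x
  cm : ∀ x, α (ξ x) = ξ (α x)
  fix : ∀ x, x ∈ C ↔ α x = x
  co : Coord ξ C ⊥ z l
  h4 : ∃ a : F, a ≠ 0 ∧ a ≠ 1

namespace Hy
variable [Fintype F] [Finite P] (h : Hy ξ α C z l)
include h

theorem a_dl (x : P) : α (dl α x) = (dl α x)⁻¹ := by simp [dl, h.a2]
theorem dl_xi (x : P) : dl α (ξ x) = ξ (dl α x) := by simp [dl, h.cm]

theorem lay [A.Normal] (hA : XInv α A) (co : Coord ξ B A f l) (m : ∀ x, x ∈ B ↔ dl α x ∈ A) : Lay ξ α A B f l := by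
  let W := (center (P ⧸ A)).comap (QuotientGroup.mk' A)
  have w : ∀ b, b ∈ W ↔ ∀ x, ⁅b, x⁆ ∈ A := fun b => by
    rw [mem_comap, mem_center_iff, (QuotientGroup.mk'_surjective A).forall]
    refine forall_congr' fun x => ?_
    rw [← QuotientGroup.eq_one_iff, eq_comm, ← commutatorElement_eq_one_iff_mul_comm, ← map_commutatorElement]; rfl
  have iW : ∀ {β : MulAut P}, XInv β A → XInv β W := fun {β} hβ a ha => (w _).2 fun x => by
    simpa [map_commutatorElement] using hβ _ ((w a).1 ha (β.symm x))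
  have := QuotientGroup.nontrivial_iff.2 fun e : A = ⊤ => co.not_le (e ▸ le_top)
  have := (h.pg.to_quotient A).center_nontrivial
  obtain ⟨⟨a, ha⟩, a1⟩ := exists_ne (1 : center (P ⧸ A))
  obtain ⟨a, rfl⟩ := QuotientGroup.mk'_surjective A a
  obtain ⟨y, h1, h2, h3⟩ := esc h.pg h.a2 (iW hA) (x := a) ha fun e => a1 (Subtype.ext ((QuotientGroup.eq_one_iff a).2 e))
  exact ⟨co, fun b hb => (w b).1 (((co.chief (co.inv.inf (iW co.inv')) (fun a ha => ⟨co.le ha, (w a).2 fun x =>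
    commutator_le_left A ⊤ (commutator_mem_commutator ha trivial)⟩) inf_le_left).resolve_left
    fun e => h2 (e.le ⟨(m y).2 h3, h1⟩)).ge hb).2, m⟩

theorem base : Lay ξ α ⊥ C z l := h.lay xinv_bot h.co fun x => by rw [h.fix, mem_bot, dl, inv_mul_eq_one, eq_comm]

theorem step (L : Lay ξ α A B f l) (hB : B ≠ ⊤) : ∃ D, Lay ξ α B D (fun x => f (dl α x)) l := by
  have := L.normal
  let D : Subgroup P := ⟨⟨⟨{x | dl α x ∈ B}, fun {x y} hx hy => by
    simpa [dl_mul] using B.mul_mem (this.conj_mem _ hx y⁻¹) hy⟩, by simp [dl]⟩, fun {x} hx => by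
    simpa [dl, mul_assoc] using this.conj_mem _ (B.inv_mem hx) x⟩
  have le : B ≤ D := fun b hb => L.co.le ((L.mem b).1 hb)
  have ad : AddOn D fun x => f (dl α x) := fun x hx y hy => by
    have := L.conj hx y⁻¹
    rw [inv_inv] at this
    beta_reduce
    rw [dl_mul, L.co.add _ (by simpa using L.normal.conj_mem _ hx y⁻¹) _ hy, this]
  have iD : XInv ξ D := fun x hx => show _ ∈ B from h.dl_xi x ▸ L.co.inv _ hx
  have cj : ∀ x ∈ D, f (dl α (ξ x)) = l * f (dl α x) := fun x hx => by rw [h.dl_xi, L.co.conj _ hx]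
  have ker : ∀ x ∈ D, f (dl α x) = 0 ↔ x ∈ B := fun x hx => (L.co.ker _ hx).trans (L.mem x).symm
  obtain ⟨x, -, hx⟩ := SetLike.not_le_iff_exists.1 (mt top_unique hB)
  obtain ⟨y, -, yB, hy⟩ := esc h.pg h.a2 xinv_top (mem_top x) hx
  have co : Coord ξ D B (fun x => f (dl α x)) l :=
    (show ad.ker = B from le_antisymm (fun x hx => (ker x hx.1).1 hx.2) fun x hx => ⟨le hx, (ker x (le hx)).2 hx⟩) ▸
      h.fpf.coord iD ad (h.co.gen.ne h.h4).1 cj hy fun e => yB ((ker y hy).1 e)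
  exact ⟨D, h.lay (fun b hb => by simpa [dl] using B.mul_mem hb (le hb)) co fun _ => .rfl⟩

theorem K_one : K α 1 = C := h.base.eq

theorem layK (i : ℕ) (hi : K α i ≠ ⊤) : Lay ξ α (K α i) (K α (i + 1)) (cK α z i) l := by
  induction i with
  | zero => exact h.K_one ▸ h.base
  | succ i ih =>
    obtain ⟨D, L⟩ := h.step (ih (K_ne i.le_succ hi)) hi
    exact (show K α (i + 2) = D from L.eq) ▸ L

theorem exists_top : ∃ m, K α m ≠ ⊤ ∧ K α (m + 1) = ⊤ := by
  obtain ⟨N, hN⟩ := nilp h.pg h.a2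
  have : ∀ i x, (dl α)^[i] x = 1 → x ∈ K α i := fun i => by
    induction i with
    | zero => exact fun x => id
    | succ i ih => exact fun x hx => subset_closure (ih _ hx)
  exact Nat.exists_not_and_succ_of_not_zero_of_exists (p := fun i => K α i = ⊤) (fun e => h.co.not_le (le_top.trans e.ge))
    ⟨N, top_unique fun x _ => this N x (hN x)⟩

theorem cardK (i : ℕ) (hi : K α i ≠ ⊤) : Nat.card (K α (i + 1)) = Fintype.card F ^ (i + 1) := by
  induction i with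
  | zero => simpa [K] using (h.layK 0 hi).co.card
  | succ i ih => rw [(h.layK _ hi).co.card, ih (K_ne i.le_succ hi), Nat.card_eq_fintype_card, ← pow_succ]

theorem powK (i : ℕ) (hi : K α i ≠ ⊤) : ∀ x ∈ K α (i + 1), x ^ 2 ^ (i + 1) = 1 := by
  induction i with
  | zero => exact fun x hx => (pow_two x).trans ((h.layK 0 hi).co.sq x hx)
  | succ i ih =>
    intro x hx
    rw [pow_succ' 2, pow_mul, pow_two]
    exact ih (K_ne i.le_succ hi) _ ((h.layK _ hi).co.sq x hx)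

theorem le_Sq (i : ℕ) (hi : K α (i + 1) ≠ ⊤) : K α i ≤ Sq (K α (i + 1)) := by
  induction i with
  | zero => exact bot_le
  | succ i ih =>
    intro b hb
    have L := h.layK i (K_ne (by omega) hi)
    have L1 := h.layK (i + 1) (K_ne (by omega) hi)
    obtain ⟨e, he, e1⟩ := (h.layK _ hi).co.surj (cK α z i b)
    have hs := ((h.layK _ hi).mem e).1 he
    have := ih (K_ne (by omega) hi) ((L.co.eq_iff hb ((L1.mem _).1 hs)).1 e1.symm)
    rw [dl_inv (h.a_dl e), inv_inv] at this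
    exact (mul_mem_cancel_right (sq_mem_Sq hs)).1 (Sq_le_iff.2 (fun x hx => sq_mem_Sq (L1.co.le hx)) this)

theorem abel {i : ℕ} (hi : K α i ≠ ⊤) (hs : K α i ≤ Sq (K α (i + 1))) :
    ∀ x ∈ K α (i + 1), ∀ y ∈ K α (i + 1), ⁅x, y⁆ = 1 := by
  have L := h.layK i hi
  suffices ∀ j ≤ i + 1, (∀ x ∈ K α (i + 1), ∀ y ∈ K α (i + 1), ⁅x, y⁆ ∈ K α j) → _ from
    this i i.le_succ fun x hx y _ => L.cen x hx y
  intro j hj hc
  induction j with
  | zero => exact hc
  | succ j ih =>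
    have M := h.layK j (K_ne (by omega) hi)
    obtain ⟨c, e⟩ := bsq (M.bil hc (fun x hx => M.of_sq hc (hs hx)) fun x hx y hy =>
      commutatorElement_inv y x ▸ inv_mem (M.of_sq hc (hs hy) x hx)) L.co L.co
    obtain ⟨x, hx, e1⟩ := L.co.surj 1
    obtain rfl : c = 0 := by simpa [e1, M.co.add.one, eq_comm] using e x hx x hx
    exact ih (by omega) fun x hx y hy => (M.co.ker _ (hc x hx y hy)).1 (by simpa using e x hx y hy)

theorem abel' {i : ℕ} (hi : K α (i + 1) ≠ ⊤) : ∀ x ∈ K α (i + 1), ∀ y ∈ K α (i + 1), ⁅x, y⁆ = 1 :=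
  h.abel (K_ne i.le_succ hi) (h.le_Sq i hi)

theorem invK (i : ℕ) (hi : K α i ≠ ⊤) : ∀ b ∈ K α i, α b = b⁻¹ := by
  induction i with
  | zero => rintro _ rfl; simp
  | succ i ih =>
    intro b hb
    have L := h.layK i (K_ne i.le_succ hi)
    obtain ⟨e, he, e1⟩ := (h.layK _ hi).co.surj (cK α z i b)
    have hs := ((h.layK _ hi).mem e).1 he
    have := ih (K_ne i.le_succ hi) _ ((L.co.eq_iff hb hs).1 e1.symm)
    rw [map_mul, map_inv, h.a_dl, inv_inv, mul_inv_rev, inv_inv,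
      commutatorElement_eq_one_iff_mul_comm.1 (h.abel' hi _ hs _ (inv_mem hb))] at this
    exact mul_right_cancel this

theorem top_form {j : ℕ} (hj : K α (j + 2) ≠ ⊤) (ht : K α (j + 3) = ⊤) (hs : ∀ x, x * x ∈ K α (j + 1)) :
    ∀ b ∈ K α (j + 2), ∀ x, cK α z j ⁅b, x⁆ ^ 2 = cK α z (j + 1) b * cK α z (j + 2) x := by
  have L := h.layK j (K_ne (by omega) hj)
  have L1 := h.layK (j + 1) (K_ne (by omega) hj)
  have L2 := ht ▸ h.layK (j + 2) hj
  obtain ⟨c, e⟩ := bsq (L.bil (fun x hx y _ => L1.cen x hx y) (fun x hx y _ => L.cen x hx y)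
    fun x hx y hy => h.abel' hj x hx y hy ▸ one_mem _) L1.co L2.co
  obtain ⟨x, -, e1⟩ := L2.co.surj 1
  have ha := (L2.mem x).1 trivial
  have e2 := h.invK _ (K_ne (by omega) hj) _ (hs x)
  have e3 : (x * x)⁻¹ * (x * x)⁻¹ = dl α x * (⁅(dl α x)⁻¹, x⁻¹⁆ * (dl α (dl α x))⁻¹) * (dl α x)⁻¹ := by
    rw [dl_inv (h.a_dl x)]
    nth_rw 2 [← e2]
    simp [dl, commutatorElement_def, mul_assoc]
  have hc := L1.cen _ (inv_mem ha) x⁻¹
  have hd := (L1.mem _).1 ha
  have e4 := congrArg (cK α z j) e3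
  rw [L.co.zero (L.co.sq _ (inv_mem (hs x))), L.conj (mul_mem hc (inv_mem hd)), L.co.add _ hc _ (inv_mem hd), L.co.inv_eq hd] at e4
  have e5 := e _ (inv_mem ha) x⁻¹ trivial
  rw [CharTwo.add_eq_zero.1 e4.symm, L1.co.inv_eq ha, L2.co.inv_eq trivial] at e5
  obtain rfl : c = 1 := by
    have e6 : cK α z j (dl α (dl α x)) = 1 := e1
    have e7 : cK α z (j + 1) (dl α x) = 1 := e1
    simpa [e1, e6, e7, eq_comm] using e5
  exact fun b hb x => (e b hb x trivial).trans (one_mul _)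

theorem not_deep {i : ℕ} (hj : K α (i + 3) ≠ ⊤) (ht : K α (i + 4) = ⊤) (hs : ∀ x, x * x ∈ K α (i + 2)) : False := by
  have L := h.layK i (K_ne (by omega) hj)
  have L1 := h.layK (i + 1) (K_ne (by omega) hj)
  have L2 := h.layK (i + 2) (K_ne (by omega) hj)
  have L3 := ht ▸ h.layK (i + 3) hj
  obtain ⟨c, e⟩ := bsq (L.bil (fun x hx y _ => L1.cen x hx y) (fun x hx y _ => L.cen x hx y)
    fun x hx y hy => h.abel' hj x (L2.co.le hx) y hy ▸ one_mem _) L1.co L3.co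
  obtain ⟨x, -, e1⟩ := L3.co.surj 1
  have : ∀ t : F, t ≠ 0 → t = c ^ 2 := fun t t0 => by
    obtain ⟨b, hb, rfl⟩ := L2.co.surj t
    have hw := L2.cen _ (inv_mem hb) x⁻¹
    have e2 := h.top_form (j := i + 1) hj ht hs _ (inv_mem hb) x⁻¹
    have e3 := e _ (inv_mem hw) x⁻¹ trivial
    have e4 := commutatorElement_eq_one_iff_mul_comm.1 (h.abel' hj _ hb _ (L2.co.le (hs x)))
    have e5 : ⁅⁅b⁻¹, x⁻¹⁆⁻¹, x⁻¹⁆ = dl α ⁅b⁻¹, x⁻¹⁆ := by
      rw [dl_inv (h.invK _ (K_ne (by omega) hj) _ hw)]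
      calc _ = ⁅b⁻¹, x⁻¹⁆⁻¹ * (x⁻¹ * b⁻¹ * x⁻¹ * (b * (x * x))) := by simp [commutatorElement_def, mul_assoc]
        _ = _ := by rw [e4]; simp [commutatorElement_def, mul_assoc]
    rw [L2.co.inv_eq hb, L3.co.inv_eq trivial, e1, mul_one] at e2
    rw [e5, L1.co.inv_eq hw, L3.co.inv_eq trivial, e1, mul_one] at e3
    rw [← e2] at t0 ⊢
    rw [mul_right_cancel₀ (ne_zero_pow two_ne_zero t0) ((pow_two _).symm.trans e3)]
  obtain ⟨a, a0, a1⟩ := h.h4
  exact a1 ((this a a0).trans (this 1 one_ne_zero).symm)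

theorem main : (∃ (m : ℕ) (M : Subgroup P) (f : P → F), Coord ξ ⊤ M f l ∧ M ≤ Sq ⊤ ∧ Nat.card P = Fintype.card F ^ (m + 1) ∧
      (∀ x : P, x ^ 2 ^ (m + 1) = 1) ∧ ∀ x y : P, x * y = y * x) ∨ (Nat.card P = Fintype.card F ^ 2 ∧ ∀ x : P, x * x = 1) ∨
    ∃ (u v : P → F) (γ : F), (∀ x y, u (x * y) = u x + u y) ∧ (∀ x y, v (x * y) = v x + v y) ∧ (∀ x, u x = 0 ∧ v x = 0 ↔ x ∈ C) ∧
      (∀ a b, ∃ x, u x = a ∧ v x = b) ∧ (∀ x, x * x ∈ C) ∧ ∀ x, z (x * x) ^ 2 = u x ^ 2 + u x * v x + γ * v x ^ 2 := by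
  obtain ⟨m, hm, ht⟩ := h.exists_top
  have L := ht ▸ h.layK m hm
  have cP := h.cardK m hm
  rw [ht, card_top] at cP
  by_cases hs : K α m ≤ Sq ⊤
  · exact .inl ⟨m, _, _, L.co, hs, cP, fun x => h.powK m hm x (ht.ge trivial), fun x y =>
      commutatorElement_eq_one_iff_mul_comm.1 (h.abel hm (ht ▸ hs) x (ht.ge trivial) y (ht.ge trivial))⟩
  obtain _ | k := m
  · exact absurd bot_le hs
  have L1 := h.layK k (K_ne k.le_succ hm)
  have sq : ∀ x, x * x ∈ K α k := fun x => ((L1.co.chief (L1.co.inv'.sup xinv_top.sq) le_sup_left (sup_le L1.co.le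
    (Sq_le_iff.2 L.co.sq))).resolve_right fun e => hs (e.ge.trans (sup_le ((h.le_Sq k hm).trans
      (Sq_le_iff.2 fun x _ => sq_mem_Sq trivial)) le_rfl))).le (mem_sup_right (sq_mem_Sq trivial))
  obtain _ | _ | i := k
  · exact .inr (.inl ⟨cP, sq⟩)
  swap
  · exact (h.not_deep hm ht sq).elim
  have tf := h.top_form (j := 0) hm ht sq
  rw [h.K_one] at L1 sq
  obtain ⟨M, π, c1, c2, e1, e2⟩ := h.fpf.maschke L.co L1.co (h.co.gen.ne h.h4).1 fun x _ => sq x
  obtain ⟨G, hG⟩ := c2.transfer (fun m => z (m * m) ^ 2) fun y hy x _ => by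
    rw [mul_assoc, ← mul_assoc x, ← commutatorElement_eq_one_iff_mul_comm.1 (h.base.cen y hy x), mul_assoc, ← mul_assoc y,
      h.co.sq y hy, one_mul]
  have gG : ∀ t, G t = t ^ 2 * G 1 := c2.gen.ext (by simpa [c2.add.one, h.co.add.one] using (hG 1 (one_mem _)).symm) fun k => by
    rw [pow_right_comm]
    simpa only [mul_one] using iter_equiv (f := G) (μ := l) (l := l ^ 2) (fun t => by
      obtain ⟨m, hm, rfl⟩ := c2.surj t
      rw [← c2.conj m hm, ← hG _ (c2.inv m hm), ← hG m hm, ← map_mul, h.co.conj _ (sq m), mul_pow]) k 1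
  refine .inr (.inr ⟨π, _, G 1, fun x y => c1.add x trivial y trivial, fun x y => L.co.add x trivial y trivial,
    fun x => ⟨fun e => (c2.ker x ((c1.ker x trivial).1 e.1)).1 e.2, fun e => ⟨c1.zero (c2.le e), c2.zero e⟩⟩, fun a b => ?_, sq,
    fun x => ?_⟩)
  · obtain ⟨x, hx, rfl⟩ := L1.co.surj a
    obtain ⟨y, hy, rfl⟩ := c2.surj b
    exact ⟨x * y, by rw [c1.add _ trivial _ trivial, e1 x hx, c1.zero hy, add_zero],
      by rw [L.co.add _ trivial _ trivial, L.co.zero hx, zero_add]⟩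
  · obtain ⟨a, ha, m, hM, rfl⟩ := e2 x trivial
    have hc := L1.cen _ (inv_mem ha) m
    have e3 := tf _ (inv_mem ha) m
    have e4 : z (a * a) = cK α z 1 a := by
      rw [← h.co.inv_eq (sq a), ← dl_inv (h.invK _ hm a ha)]; rfl
    have e5 := (hG m hM).trans (gG _)
    rw [L1.co.inv_eq ha] at e3
    change z ⁅a⁻¹, m⁆ ^ 2 = _ at e3
    rw [← pow_two (a * m), H17.QR.mul_sq, pow_two a, pow_two m, h.co.add _ (mul_mem (sq a) hc) _ (sq m), h.co.add _ (sq a) _ hc,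
      c1.add _ trivial _ trivial, e1 a ha, c1.zero hM, add_zero, L.co.add _ trivial _ trivial, L.co.zero ha,
      CharTwo.add_sq, CharTwo.add_sq, e3, e4, e5, mul_comm (G 1), zero_add (cK α z _ m)]

end Hy
open Cfsg.Agent.S3157 in
theorem iso_plus [Fintype F] [Finite P] {u v : P → F} (ua : ∀ x y, u (x * y) = u x + u y) (va : ∀ x y, v (x * y) = v x + v y)
    (k : ∀ x, u x = 0 ∧ v x = 0 ↔ x ∈ C) (s : ∀ a b, ∃ x, u x = a ∧ v x = b) (co : Coord ξ C ⊥ z l) (sq : ∀ x, x * x ∈ C)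
    (hq : ∀ x, z (x * x) = u x * v x) (S : Sylow 2 (Matrix.ProjectiveSpecialLinearGroup (Fin 3) F)) :
    Nonempty (P ≃* (S : Subgroup (Matrix.ProjectiveSpecialLinearGroup (Fin 3) F))) := by
  let φ : utU F →* Multiplicative (F × F) := .mk' (fun u => .ofAdd (u.1.1 0 1, u.1.1 1 2)) (by
    rintro ⟨_, a, b, c, rfl⟩ ⟨_, a', b', c', rfl⟩
    exact congrArg (fun g : Matrix.SpecialLinearGroup (Fin 3) F => Multiplicative.ofAdd (g.1 0 1, g.1 1 2)) (ut_mul ..))
  have zm : ∀ u v : utU F, (u * v).1.1 0 2 = u.1.1 0 2 + v.1.1 0 2 + u.1.1 0 1 * v.1.1 1 2 := by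
    rintro ⟨_, a, b, c, rfl⟩ ⟨_, a', b', c', rfl⟩
    exact congrArg (fun g : Matrix.SpecialLinearGroup (Fin 3) F => g.1 0 2) (ut_mul ..)
  obtain ⟨e, -⟩ := iso_of_sq (Z := C) (Z' := φ.ker) (f := fun t => (u t, v t)) (f' := fun u => (φ u).toAdd) (z := z)
    (z' := fun u => u.1.1 0 2) (fun s t => Prod.ext (ua ..) (va ..)) φ.map_mul (fun t => Prod.mk_eq_zero.trans (k t))
    (fun _ => .rfl) (fun u => (s _ _).imp fun t h => Prod.ext h.1 h.2) (fun t => ⟨⟨_, _, _, 0, rfl⟩, rfl⟩) co.add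
    (fun u hu v hv => by rw [zm, show u.1.1 0 1 = 0 from congrArg Prod.fst hu, zero_mul, add_zero])
    (fun a ha => (co.ker a ha).1) (by
      rintro ⟨_, a, b, c, rfl⟩ h (rfl : c = 0)
      obtain ⟨rfl, rfl⟩ : a = 0 ∧ b = 0 := Prod.mk_eq_zero.1 h
      exact Subtype.ext ut_zero) (fun _ _ => co.surj _) (fun a _ => ⟨⟨_, 0, 0, z a, rfl⟩, rfl, rfl⟩) sq
    (fun u => (φ.map_mul u u).trans (Prod.ext (CharTwo.add_self_eq_zero _) (CharTwo.add_self_eq_zero _))) fun t u h => by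
      obtain ⟨h1, h2⟩ : _ = u.1.1 0 1 ∧ _ = u.1.1 1 2 := Prod.ext_iff.1 h
      rw [zm, ← h1, ← h2, hq, CharTwo.add_self_eq_zero, zero_add]
  let ψ := (QuotientGroup.mk' (center _)).comp ((utU F).subtype.comp e.toMonoidHom)
  have inj : Function.Injective ψ := (injective_iff_map_eq_one _).2 fun t ht => by
    obtain ⟨r, -, hr⟩ := Matrix.SpecialLinearGroup.mem_center_iff.1 ((QuotientGroup.eq_one_iff (e t).1).1 ht)
    obtain ⟨a, b, c, h⟩ := (e t).2
    have : r = 1 := by simpa [h, ut] using congrFun (congrFun hr 0) 0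
    exact e.map_eq_one_iff.1 (Subtype.ext (Subtype.ext (hr.symm.trans (by simp [this]))))
  obtain ⟨n, -, hn⟩ := FiniteField.card F 2
  let χ : P →* Multiplicative (F × F) := .mk' (fun t => .ofAdd (u t, v t)) fun s t => Prod.ext (ua ..) (va ..)
  have cP := card_mul_index χ.ker
  rw [index_ker, χ.range_eq_top.2 fun w => (s w.toAdd.1 w.toAdd.2).imp fun t h => Prod.ext h.1 h.2, card_top,
    show χ.ker = C from Subgroup.ext fun t => Prod.mk_eq_zero.trans (k t), co.card, card_bot,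
    Nat.card_congr Multiplicative.toAdd, Nat.card_prod, Nat.card_eq_fintype_card (α := F),
    Nat.card_congr (MonoidHom.ofInjective inj).toEquiv] at cP
  refine ⟨(MonoidHom.ofInjective inj).trans (((IsPGroup.of_card (n := n * 3) (cP.symm.trans (by rw [hn]; ring))).toSylow
    fun e : 2 ∣ ψ.range.index => ?_).equiv S)⟩
  have cG := Cfsg.Agent.S0243.result (F := F) rfl 3 (by decide)
  have h2 : 2 ∣ Fintype.card F := hn ▸ dvd_pow_self 2 n.ne_zero
  rw [← card_mul_index ψ.range, ← cP, Fin.prod_univ_three] at cG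
  obtain ⟨r, hr⟩ := Nat.exists_eq_add_one_of_ne_zero (Fintype.card_ne_zero (α := F))
  generalize Fintype.card F = q, ψ.range.index = i at *
  subst hr
  have : Nat.gcd 3 r * i = (r * (r ^ 2 + 3 * r + 3)) * (r * (r + 2)) := by
    refine Nat.eq_of_mul_eq_mul_left (show 0 < r * (r + 1) ^ 3 by have : 0 < r := by omega
                                                                  positivity) ?_
    have l1 : r + 1 ≤ (r + 1) ^ 3 := Nat.le_self_pow (by decide) _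
    have l2 : (r + 1) ^ 2 ≤ (r + 1) ^ 3 := Nat.pow_le_pow_right r.succ_pos (by decide)
    have l0 : 1 ≤ (r + 1) ^ 3 := Nat.one_le_pow _ _ r.succ_pos
    simp only [Fin.val_zero, Fin.val_one, Fin.val_two, pow_zero, pow_one, Nat.add_sub_cancel] at cG
    zify [l0, l1, l2] at cG ⊢
    linear_combination cG
  have := this ▸ e.mul_left _
  simp only [Nat.prime_two.dvd_mul] at this
  have e2 : r ^ 2 % 2 = 1 := by rw [Nat.pow_mod, show r % 2 = 1 by omega]
  omega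

theorem iso_minus {E T : Type*} [Field E] [CharP E 2] [Finite E] [Finite P] [Group T] {σ : E ≃+* E} {f w : T → E} (h : U3D σ f w)
    {u v z : P → H25.fixF σ} {l γ : H25.fixF σ} (ua : ∀ x y, u (x * y) = u x + u y) (va : ∀ x y, v (x * y) = v x + v y)
    (k : ∀ x, u x = 0 ∧ v x = 0 ↔ x ∈ C) (s : ∀ a b, ∃ x, u x = a ∧ v x = b) (co : Coord ξ C ⊥ z l) (sq : ∀ x, x * x ∈ C)
    (hq : ∀ x, z (x * x) = u x ^ 2 + u x * v x + γ * v x ^ 2) (hγ : ∀ r, r ^ 2 + r ≠ γ) : Nonempty (P ≃* T) := by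
  have := h.finite
  have two : (2 : E) = 0 := CharTwo.two_eq_zero
  have fx : ∀ a : H25.fixF σ, σ a = a := fun a => H25.mem_fixF.1 a.2
  obtain ⟨θ, t1, t2⟩ : ∃ θ, θ + σ θ = 1 ∧ θ * σ θ = γ := by
    obtain ⟨a, ha⟩ := exists_trace_one h.inv h.ne
    let φ : Multiplicative (H25.fixF σ) →* Multiplicative (H25.fixF σ) := .mk' (fun r => .ofAdd (r.toAdd ^ 2 + r.toAdd))
      fun a b => congrArg Multiplicative.ofAdd (by simp [CharTwo.add_sq]; ring)
    have i2 : φ.range.index = 2 := by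
      rw [index_range, Nat.card_eq_two_iff]
      exact ⟨⟨.ofAdd 0, by simp [φ]⟩, ⟨.ofAdd 1, show (1 : H25.fixF σ) ^ 2 + 1 = 0 by simp [CharTwo.add_self_eq_zero]⟩,
        fun e => zero_ne_one (congrArg (fun x => x.1.toAdd) e), Set.eq_univ_of_forall fun ⟨r, hr⟩ => by
          have hr : r.toAdd ^ 2 + r.toAdd = 0 := hr
          have : r.toAdd * (r.toAdd - 1) = 0 := by rw [CharTwo.sub_eq_add]; linear_combination hr
          rw [mul_eq_zero, sub_eq_zero] at this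
          exact this.imp Subtype.ext Subtype.ext⟩
    obtain ⟨r, hr⟩ := (mul_mem_iff_of_index_two i2 (a := .ofAdd γ) (b := .ofAdd ⟨a * σ a, H25.mem_fixF.2 (by
      rw [map_mul, h.inv, mul_comm])⟩)).2 (iff_of_false (fun ⟨r, e⟩ => hγ _ e) fun ⟨r, e⟩ => by
        have e : r.toAdd.1 ^ 2 + r.toAdd.1 = a * σ a := congrArg (fun x => x.toAdd.1) e
        have := fx r.toAdd
        have e2 : (a + r.toAdd) * (σ a + r.toAdd) = 0 := by grind
        have e3 := h.inv a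
        rcases mul_eq_zero.1 e2 with e2 | e2 <;> rw [CharTwo.add_eq_zero] at e2 <;> grind)
    have hr : r.toAdd.1 ^ 2 + r.toAdd.1 = γ + a * σ a := congrArg (fun x => x.toAdd.1) hr
    exact ⟨a + r.toAdd, by rw [map_add, fx]; grind, by rw [map_add, fx]; grind⟩
  obtain ⟨e, -⟩ := iso_of_sq (Z := C) (Z' := center T) (f := fun x => (u x : E) + θ * v x) (f' := f) (z := fun x => (z x : E))
    (z' := w) (fun x y => by simp [ua, va]; ring) h.mul_f (fun x => ⟨fun e => (k x).1 (by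
      have e' := congrArg σ e
      rw [map_add, map_mul, fx, fx, map_zero] at e'
      exact ⟨Subtype.ext (show (u x : E) = 0 by grind), Subtype.ext (show (v x : E) = 0 by grind)⟩),
      fun e => by simp [((k x).2 e).1, ((k x).2 e).2]⟩) (fun _ => h.mem_center.symm) (fun y => by
      obtain ⟨x, e1, e2⟩ := s ⟨f y + θ * (f y + σ (f y)), H25.mem_fixF.2 (by simp only [map_add, map_mul, h.inv]; grind)⟩
        ⟨f y + σ (f y), H25.mem_fixF.2 (by rw [map_add, h.inv, add_comm])⟩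
      exact ⟨x, by rw [e1, e2]; grind⟩) (fun x => (h.f_surj _).imp fun _ => Eq.symm)
    (fun x hx y hy => by rw [co.add x hx y hy]; rfl) (fun x hx y _ => by rw [h.mul_z, h.mem_center.1 hx, map_zero, zero_mul, add_zero])
    (fun x hx e => (co.ker x hx).1 (Subtype.ext e)) (fun x hx => h.eq_one (h.mem_center.1 hx))
    (fun a ha => (co.surj ⟨w a, H25.mem_fixF.2 (h.fix (h.mem_center.1 ha))⟩).imp fun _ e => ⟨e.1, congrArg Subtype.val e.2⟩)
    (fun a _ => (h.z_surj (fx (z a))).imp fun _ e => ⟨h.mem_center.2 e.1, e.2.symm⟩) sq (fun x => h.mem_center.2 (h.f_sq x))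
    fun x y e => by
      rw [h.z_sq, ← e, hq, map_add, map_mul, fx, fx]
      push_cast
      grind
  exact ⟨e⟩

theorem classify [Finite P] {n : ℕ} (hn : 2 ≤ n) (pg : IsPGroup 2 P) (a2 : ∀ x, α (α x) = x) (cm : ∀ x, α (ξ x) = ξ (α x))
    (fix : ∀ x, x ∈ C ↔ α x = x) (c2 : ∀ x ∈ C, x * x = 1) (hC : Nat.card C = 2 ^ n) (ho : orderOf ξ = 2 ^ n - 1)
    (tr : ∀ x y : P, x ∈ C → y ∈ C → x ≠ 1 → y ≠ 1 → ∃ k : ℕ, (ξ ^ k) x = y) :
    (∃ m, Nat.card P = (2 ^ n) ^ (m + 1) ∧ (∀ x : P, x ^ 2 ^ (m + 1) = 1) ∧ (∀ x y : P, x * y = y * x) ∧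
      (∀ x, ξ x = x → x = 1) ∧ ∃ t : P, ∀ W, XInv ξ W → t ∈ W → W = ⊤) ∨ (Nat.card P = (2 ^ n) ^ 2 ∧ ∀ x : P, x * x = 1) ∨
    (∃ (F : Type) (_ : Field F) (_ : Fintype F), Fintype.card F = (2 ^ n) ^ 2 ∧
      ∀ S : Sylow 2 (Cfsg.PSU 3 F (2 ^ n)), Nonempty (P ≃* (S : Subgroup (Cfsg.PSU 3 F (2 ^ n))))) ∨
    ∃ (F : Type) (_ : Field F) (_ : Fintype F), Fintype.card F = 2 ^ n ∧ ∀ S : Sylow 2 (Matrix.ProjectiveSpecialLinearGroup (Fin 3) F),
      Nonempty (P ≃* (S : Subgroup (Matrix.ProjectiveSpecialLinearGroup (Fin 3) F))) := by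
  have h4 : 4 ≤ 2 ^ n := Nat.pow_le_pow_right two_pos hn
  obtain ⟨E, _, _, _, hE⟩ := exists_field_two (q := (2 ^ n) ^ 2) ⟨_, (pow_mul ..).symm⟩ (by nlinarith)
  obtain ⟨S⟩ : Nonempty (Sylow 2 (Cfsg.PSU 3 E (2 ^ n))) := inferInstance
  obtain ⟨_, σ, f, w, -, h⟩ := exists_u3d_PSU hE S
  have := Fintype.ofFinite (H25.fixF σ)
  have hF : Fintype.card (H25.fixF σ) = 2 ^ n :=
    Nat.card_eq_fintype_card.symm.trans (card_fix h.inv h.ne (Nat.card_eq_fintype_card.trans hE))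
  have iC : XInv ξ C := fun x hx => (fix _).2 (by rw [cm, (fix x).1 hx])
  have fp : FPF ξ (Fintype.card (H25.fixF σ)) := ⟨hF ▸ ho, fun k x hx => (em _).imp_right fun x1 => by
    obtain ⟨y, h1, h2, h3⟩ := esc pg a2 (X := (ξ ^ k).toMonoidHom.eqLocus (.id P)) (A := ⊥) (fun y hy => by
      have : Commute α ξ := MulEquiv.ext cm
      exact (MulEquiv.congr_fun (this.pow_right k) y).symm.trans (congrArg α hy)) hx x1
    have hy : y ∈ C := (fix y).2 (inv_mul_eq_one.1 h3).symm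
    have e := MulAction.index_stabilizer (zpowers ξ) y
    have e2 := Set.ncard_le_ncard (show (C : Set P) \ {1} ⊆ MulAction.orbit (zpowers ξ) y from fun a ha =>
      (tr y a hy ha.1 h2 ha.2).elim fun j hj => ⟨⟨_, npow_mem_zpowers ξ j⟩, hj⟩)
    rw [Set.ncard_sdiff_singleton_of_mem C.one_mem, ← e, ← Nat.card_coe_set_eq, SetLike.coe_sort_coe, hC, ← ho, ← Nat.card_zpowers,
      ← card_mul_index (MulAction.stabilizer (zpowers ξ) y)] at e2
    exact congrArg Subtype.val (mem_bot.1 ((eq_bot_of_card_le _ (Nat.le_of_mul_le_mul_right (e2.trans (one_mul _).ge)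
      (Nat.pos_of_ne_zero index_ne_zero_of_finite))).le (show ⟨_, npow_mem_zpowers ξ k⟩ ∈ _ from h1)))⟩
  obtain ⟨M, z, l, -, co⟩ := fp.exists_coord iC xinv_bot bot_le c2 fun e => by
    have := card_le_of_le e
    rw [card_bot] at this; omega
  obtain rfl : M = ⊥ := by
    have := co.card
    rwa [hC, Nat.card_eq_fintype_card (α := H25.fixF σ), hF, eq_comm, mul_eq_right₀ (by omega), card_eq_one] at this
  obtain ⟨c, c1, c2, c3⟩ := exists_fixed_ne h.inv h.ne (Nat.card_eq_fintype_card.trans hE) (by omega)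
  rcases (Hy.mk pg fp a2 cm fix co ⟨⟨c, H25.mem_fixF.2 c1⟩, fun e => c2 (congrArg Subtype.val e),
      fun e => c3 (congrArg Subtype.val e)⟩).main with
    ⟨m, M, g, h1, h2, h3, h5, h6⟩ | h1 | ⟨u, v, γ, ua, va, k, s, sq, hq⟩
  · obtain ⟨t, -, ht⟩ := SetLike.not_le_iff_exists.1 h1.not_le
    refine .inl ⟨m, hF ▸ h3, h5, h6, fun x hx => (fp.fpf 1 x hx).resolve_right fun e => ?_, t, fun W hW tW =>
      frattini_nongenerating (top_unique (((h1.chief (hW.sup h1.inv') le_sup_right le_top).resolve_left fun e =>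
        ht (e.le (mem_sup_left tW))).ge.trans (sup_le_sup_left (h2.trans (Sq_le_iff.2 fun t _ =>
          pow_two t ▸ H3.pow_mem_frattini pg t)) _)))⟩
    have := orderOf_dvd_iff_pow_eq_one.2 e
    rw [ho, Nat.dvd_one] at this
    omega
  · exact .inr (.inl (hF ▸ h1))
  have co' := co.comp (frob _) one_ne_zero
  have hq' : ∀ x, 1 * frob _ (z (x * x)) = u x ^ 2 + u x * v x + γ * v x ^ 2 := fun x => by rw [one_mul, frob_apply, ← pow_two, hq]
  by_cases hγ : ∀ r, r ^ 2 + r ≠ γ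
  · exact .inr (.inr (.inl ⟨E, _, _, hE, fun S' => (iso_minus h ua va k s co' sq hq' hγ).map fun e => e.trans (S.equiv S')⟩))
  push Not at hγ
  obtain ⟨r, rfl⟩ := hγ
  have two : (2 : H25.fixF σ) = 0 := CharTwo.two_eq_zero
  exact .inr (.inr (.inr ⟨_, _, _, hF, iso_plus (u := fun x => u x + r * v x) (v := fun x => u x + (r + 1) * v x)
    (fun x y => by rw [ua, va]; ring) (fun x y => by rw [ua, va]; ring) (fun x => Iff.trans (by grind) (k x))
    (fun a b => (s (a + r * (a + b)) (a + b)).imp fun x e => by grind) co' sq fun x => (hq' x).trans (by grind)⟩))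

end H17.IC
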