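import Cfsg.Agent.H17.TO1
import Cfsg.Agent.H6.J1Loc

/-! `J₁ × J₁` by spectrum, part 1: the spectrum bound `Om`, actions of `J₁` on elementary abelian groups. -/

set_option autoImplicit false
set_option linter.unusedSectionVars false
set_option linter.unusedVariables false

namespace H17.JJ
open Subgroup Cfsg H18 H1 H13 Cfsg.Spor
open scoped commutatorElement

variable {G X : Type*} [Group G] [Finite G] [Group X] [Finite X] {V : Subgroup G} {m n p r : ℕ}

/-- the element orders of `J₁ × J₁` -/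
def W : List ℕ := [1, 2, 3, 5, 6, 7, 10, 11, 14, 15, 19, 21, 22, 30, 33, 35, 38, 42, 55, 57, 66, 70, 77, 95, 105, 110,
  114, 133, 165, 190, 209, 285]

def Om (G : Type*) [Group G] : Prop := ∀ n, Sp G n → n ∈ W

theorem Om.inj (k : Om G) (f : X →* G) (hf : Function.Injective f) : Om X := fun n s => k n (s.of_injective f hf)
theorem Om.sub (k : Om G) (H : Subgroup G) : Om H := k.inj H.subtype H.subtype_injective
theorem Om.surj (k : Om G) (f : G →* X) (hf : Function.Surjective f) : Om X := fun n s => k n (s.of_surjective f hf)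

theorem Om.prime (k : Om G) (hp : p.Prime) (hd : p ∣ Nat.card G) : p ∈ [2, 3, 5, 7, 11, 19] :=
  (by decide +kernel : ∀ n ∈ W, n.Prime → n ∈ [2, 3, 5, 7, 11, 19]) p (k p ((sp_prime hp).2 hd)) hp

theorem Om.pow (k : Om G) (hp : p.Prime) {x : G} (h : (x ^ p) ^ p = 1) : x ^ p = 1 := by
  by_contra c
  have := Fact.mk hp
  have o : orderOf x = p ^ (1 + 1) := orderOf_eq_prime_pow (by simpa using c) (by rw [pow_succ, pow_one, pow_mul, h])
  have d : p ∣ Nat.card G := (Dvd.intro_left _ (by rw [o]; ring)).trans (orderOf_dvd_natCard x)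
  have := k _ ⟨x, o⟩
  have := k.prime hp d
  simp only [List.mem_cons, List.not_mem_nil, or_false] at this
  rcases this with rfl | rfl | rfl | rfl | rfl | rfl <;> revert this <;> decide

theorem Om.elt (k : Om G) (hp : p.Prime) {x : G} (h : PiElt {p} x) : x ^ p = 1 := by
  obtain ⟨j, e⟩ := (PiNat.eq_pow h (orderOf_pos x).ne' : ∃ j, orderOf x = p ^ j)
  have : ∀ i, ∀ y : G, y ^ p ^ i = 1 → y ^ p = 1 := fun i => by
    induction i with
    | zero => intro y h; simp at h; simp [h]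
    | succ i ih => intro y h; exact k.pow hp (ih _ (by rw [← pow_mul, ← pow_succ', h]))
  exact this j x (e ▸ pow_orderOf_eq_one x)

theorem sp_lift {a w : G} (e : a * w = w * a) (hn : n ∣ orderOf a) (c : n.Coprime (orderOf w)) :
    Sp G (n * orderOf w) := by
  have o := orderOf_pow_orderOf_div (orderOf_pos a).ne' hn
  have := sp_mul (Commute.pow_left e (orderOf a / n)).eq (by rwa [o])
  rwa [o] at this

theorem sp3 {a b c : G} (e1 : a * b = b * a) (e2 : a * c = c * a) (e3 : b * c = c * b)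
    (h1 : (orderOf a).Coprime (orderOf b)) (h2 : (orderOf a * orderOf b).Coprime (orderOf c)) :
    Sp G (orderOf a * orderOf b * orderOf c) :=
  sp_lift (Commute.mul_left e2 e3).eq (Commute.orderOf_mul_eq_mul_orderOf_of_coprime e1 h1).symm.dvd h2

/-- a Frobenius subgroup `F : h` -/
structure Fr (F : Subgroup J1) (h : J1) (m : ℕ) : Prop where
  ne : F ≠ ⊥
  nm : h ∈ N(F)
  ord : orderOf h = m + 1
  fpf : ∀ i, 0 < i → i < m + 1 → ∀ f ∈ F, h ^ i * f = f * h ^ i → f = 1

variable {F : Subgroup J1} {h : J1} {φ : J1 →* G}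

theorem Fr.act (k : Fr F h m) (hp : p.Prime) (hV : Elem p V) (hn : φ.range ≤ N(V)) (c : ¬ p ∣ Nat.card F) :
    φ.range ≤ C(V) ∨ ∃ x ∈ V, (x * φ h) ^ (m + 1) ≠ 1 := by
  refine or_iff_not_imp_right.2 fun b => ?_
  push Not at b
  obtain e | e := IsSimpleGroup.eq_bot_or_eq_top_of_normal φ.ker inferInstance
  · have inj := (MonoidHom.ker_eq_bot_iff φ).1 e
    have := TO.mz (F := F.map φ) (m := m) hp (hV.pi' hp) ((map_le_range _ _).trans hn)
      ((((piNat_compl_iff hp).2 c).of_dvd (card_map_dvd _ _)).coprime' (hV.pi' hp)) (hn ⟨h, rfl⟩)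
      (le_normalizer_map φ ⟨h, k.nm, rfl⟩) (fun i i0 i1 _ ⟨f, hf, e⟩ c => by
        subst e
        rw [k.fpf i i0 i1 f hf (inj (by simpa using c)), map_one]) b
    have nm : (C(V).comap φ).Normal := ⟨fun x hx g => by
      rw [mem_comap, map_mul, map_mul, map_inv]; exact conj_mem_N (N_le_N_C (hn ⟨g, rfl⟩)) hx⟩
    obtain e | e := IsSimpleGroup.eq_bot_or_eq_top_of_normal _ nm
    · exact (k.ne (le_bot_iff.1 (e ▸ map_le_iff_le_comap.1 this))).elim
    · rintro _ ⟨x, rfl⟩; exact (e ▸ mem_top x : x ∈ C(V).comap φ)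
  · rintro _ ⟨x, rfl⟩
    rw [show φ x = 1 from (e ▸ mem_top x : x ∈ φ.ker)]; exact one_mem _

theorem pow_mem_V {x y : G} (hx : x ∈ V) (hy : y ∈ N(V)) (n : ℕ) : (x * y) ^ n * (y ^ n)⁻¹ ∈ V := by
  induction n with
  | zero => simp
  | succ n ih =>
    have := mul_mem hx (conj_mem_N hy ih)
    convert this using 1
    rw [pow_succ' (x * y), pow_succ' y]; group

theorem Fr.mem (k : Fr F h m) (hn : φ.range ≤ N(V)) {x : G} (hx : x ∈ V) : (x * φ h) ^ (m + 1) ∈ V := by
  have := pow_mem_V hx (hn ⟨h, rfl⟩) (m + 1)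
  rwa [← map_pow, ← k.ord, pow_orderOf_eq_one, map_one, inv_one, mul_one, k.ord] at this

theorem Fr.fix (k : Fr F h m) (hp : p.Prime) (hV : Elem p V) (V1 : V ≠ ⊥) (hn : φ.range ≤ N(V))
    (c : ¬ p ∣ Nat.card F) : ∃ w ∈ V, orderOf w = p ∧ φ h * w = w * φ h := by
  have := Fact.mk hp
  obtain b | ⟨x, hx, b⟩ := k.act hp hV hn c
  · obtain ⟨w, hw, w1⟩ := exists_mem_ne_one' V1
    exact ⟨w, hw, orderOf_eq_prime (hV.pow w hw) w1, (b ⟨h, rfl⟩ w hw).symm⟩
  · have hw := k.mem hn hx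
    refine ⟨_, hw, orderOf_eq_prime (hV.pow _ hw) b, ?_⟩
    have e : Commute (x * φ h) _ := (Commute.refl (x * φ h)).pow_right (m + 1)
    have e2 : Commute x⁻¹ _ := (hV.abel (inv_mem hx) _ hw).symm
    simpa using (e2.mul_left e).eq

theorem Fr.cent (k : Fr F h m) (o : Om G) (hp : (m + 1).Prime) (hV : Elem (m + 1) V) (hn : φ.range ≤ N(V))
    (c : ¬ m + 1 ∣ Nat.card F) : φ.range ≤ C(V) :=
  (k.act hp hV hn c).resolve_right fun ⟨x, hx, b⟩ => b (o.pow hp (hV.pow _ (k.mem hn hx)))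

theorem fr_of (hr : r.Prime) (hc : ∀ b : J1, orderOf b = r → Nat.card C1(b) ∣ r) {a : J1} (ha : orderOf a = r)
    (hn : h ∈ N(zpowers a)) (o : orderOf h = m + 1) (c : (m + 1).Coprime r) : Fr (zpowers a) h m := by
  refine ⟨fun e => hr.ne_one (ha ▸ orderOf_eq_one_iff.2 (zpowers_eq_bot.1 e)), hn, o, fun i i0 i1 f hf e => ?_⟩
  by_contra f1
  have := (Nat.dvd_prime hr).1 (ha ▸ orderOf_dvd_of_mem_zpowers hf)
  have := (orderOf_dvd_card (mem_C1.2 e)).trans (hc f (this.resolve_left (by simpa using f1)))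
  exact pow_ne_one_of_lt_orderOf i0.ne' (o ▸ i1)
    (orderOf_eq_one_iff.1 (Nat.eq_one_of_dvd_coprimes c (o ▸ orderOf_pow_dvd i) this))

theorem fr6 : ∃ F h, Fr F h 5 ∧ Nat.card F = 7 := by
  have o7 : orderOf (H15.ev H6.J1.g [5]) = 7 := H6.J1.ord (by norm_num) (by decide +kernel) (by decide +kernel)
  have e := H6.J1.conj_ev (a := [5]) (c := [1, 2, 3, 2, 5, 2, 0, 3, 2, 6, 3, 2]) (k := 3) rfl (by decide +kernel)
  refine ⟨_, _, fr_of (by norm_num) (fun _ => H6.J1.cent7) o7 (H6.J1.mem_N_of_pow e) ?_ (by norm_num),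
    card_zpowers'.trans o7⟩
  refine orderOf_eq_of_pow_and_pow_div_prime (by norm_num) ?_ fun q hq hd => ?_
  · rw [← H6.J1.ev_pow]; exact H6.J1.ev_one (by decide +kernel)
  · have : q = 2 ∨ q = 3 := by
      rcases (Nat.Prime.dvd_mul hq).1 (show q ∣ 2 * 3 from hd) with b | b
      exacts [.inl ((Nat.prime_dvd_prime_iff_eq hq Nat.prime_two).1 b),
        .inr ((Nat.prime_dvd_prime_iff_eq hq Nat.prime_three).1 b)]
    rcases this with rfl | rfl <;> rw [← H6.J1.ev_pow] <;> exact H6.J1.ev_ne (by decide +kernel)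

theorem two_seven {P t : G} (o7 : orderOf P = 7) (o2 : orderOf t = 2)
    (c0 : ∀ i < 7, t * P ^ i * t * P ^ (7 - i) = P ^ i * t * P ^ (7 - i) * t) :
    ∃ F : Subgroup G, F ≠ ⊥ ∧ P ∈ N(F) ∧ PiGrp {2} F := by
  have p7 : P ^ 7 = 1 := o7 ▸ pow_orderOf_eq_one P
  have c1 : ∀ i : ℤ, Commute t (P ^ i * t * (P ^ i)⁻¹) := fun i => by
    have l : (i % 7).toNat < 7 := by omega
    have e : P ^ i = P ^ (i % 7).toNat := by
      rw [← zpow_natCast, Int.toNat_of_nonneg (by omega), ← zpow_mod_orderOf, o7]; rfl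
    have e' : (P ^ (i % 7).toNat)⁻¹ = P ^ (7 - (i % 7).toNat) :=
      inv_eq_of_mul_eq_one_right (by rw [← pow_add, Nat.add_sub_cancel' l.le, p7])
    rw [e, e', commute_iff_eq]; simpa [mul_assoc] using c0 _ l
  let s : Set G := Set.range fun i : ℤ => P ^ i * t * (P ^ i)⁻¹
  have c2 : ∀ x ∈ s, ∀ y ∈ s, x * y = y * x := by
    rintro _ ⟨i, rfl⟩ _ ⟨j, rfl⟩
    have := ((c1 (j - i)).map (MulAut.conj (P ^ i))).eq
    simp only [MulAut.conj_apply] at this
    convert this using 2 <;> group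
  have ab : ∀ y ∈ closure s, ∀ x ∈ closure s, x * y = y * x := fun y hy => by
    have : closure s ≤ centralizer s := (closure_le _).2 fun x hx y hy => c2 y hy x hx
    rw [← centralizer_closure] at this
    exact this hy
  refine ⟨closure s, fun e => ?_, mem_N_of_cj_le ?_, piGrp_of_elt fun x hx => piElt_of_pow_eq_one Nat.prime_two ?_⟩
  · have : t ∈ closure s := subset_closure ⟨0, by simp⟩
    rw [e, mem_bot] at this; simp [this] at o2
  · rw [H18.cj, MonoidHom.map_closure]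
    refine closure_mono ?_
    rintro _ ⟨_, ⟨i, rfl⟩, rfl⟩
    exact ⟨1 + i, by simp only [MulEquiv.coe_toMonoidHom, MulAut.conj_apply]; group⟩
  · induction hx using closure_induction with
    | mem x hx => obtain ⟨i, rfl⟩ := hx; rw [conj_pow, ← o2, pow_orderOf_eq_one]; simp
    | one => simp
    | mul x y hx hy a b => rw [Commute.mul_pow (ab y hy x hx), a, b, one_mul]
    | inv x hx a => rw [inv_pow, a, inv_one]

theorem ord_pow (hr : r.Prime) {P : G} (o : orderOf P = r) {i : ℕ} (i0 : 0 < i) (i1 : i < r) : orderOf (P ^ i) = r :=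
  ((Nat.dvd_prime hr).1 (o ▸ orderOf_pow_dvd i)).resolve_left
    fun b => pow_ne_one_of_lt_orderOf i0.ne' (o ▸ i1) (orderOf_eq_one_iff.1 b)

theorem fr7 : ∃ F h, Fr F h 6 ∧ PiGrp {2} F := by
  have o7 : orderOf (H15.ev H6.J1.g [5]) = 7 := H6.J1.ord (by norm_num) (by decide +kernel) (by decide +kernel)
  have o2 : orderOf (H15.ev H6.J1.g [4]) = 2 := H6.J1.ord (by norm_num) (by decide +kernel) (by decide +kernel)
  obtain ⟨F, F1, nF, F2⟩ := two_seven o7 o2 fun i hi => by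
    simp only [← H6.J1.ev_pow, ← H15.ev_append]
    interval_cases i <;> exact H6.J1.ev_eq (by decide +kernel)
  refine ⟨F, _, ⟨F1, nF, o7, fun i i0 i1 f hf e => ?_⟩, F2⟩
  have := (orderOf_dvd_card (mem_C1.2 e.symm)).trans (H6.J1.cent7 (ord_pow (by norm_num) o7 i0 i1))
  refine orderOf_eq_one_iff.1 (((Nat.dvd_prime (by norm_num)).1 this).resolve_right fun b => ?_)
  simpa using F2.elt hf 7 (by norm_num) b.symm.dvd

theorem frp (hp : p ∈ [2, 3, 5, 7]) : ∃ F h, Fr F h (p - 1) ∧ ¬ p ∣ Nat.card F := by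
  have a : ∀ q r, q.Prime → r.Prime → q ≠ r → r ∈ H6.J1.spec → (∀ b : J1, orderOf b = r → Nat.card C1(b) ∣ r) →
      (∀ b : J1, orderOf b = r → q ∣ Nat.card N(zpowers b)) → ∃ F h, Fr F h (q - 1) ∧ ¬ q ∣ Nat.card F :=
    fun q r hq hr qr s h1 h2 => by
      obtain ⟨b, hb⟩ := H6.J1.exists_order r s
      obtain ⟨h, hn, o⟩ := cauchy hq (h2 b hb)
      have e := Nat.sub_add_cancel hq.one_le
      exact ⟨_, h, fr_of hr h1 hb hn (by rw [e, o]) (by rw [e]; exact (Nat.coprime_primes hq hr).2 qr), by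
        rw [card_zpowers', hb, Nat.prime_dvd_prime_iff_eq hq hr]; exact qr⟩
  simp only [List.mem_cons, List.not_mem_nil, or_false] at hp
  rcases hp with rfl | rfl | rfl | rfl
  · exact a 2 7 (by norm_num) (by norm_num) (by norm_num) (by decide) (fun _ => H6.J1.cent7)
      fun b hb => by rw [H6.J1.norm7 hb]; norm_num
  · exact a 3 7 (by norm_num) (by norm_num) (by norm_num) (by decide) (fun _ => H6.J1.cent7)
      fun b hb => by rw [H6.J1.norm7 hb]; norm_num
  · exact a 5 11 (by norm_num) (by norm_num) (by norm_num) (by decide) (fun _ => H6.J1.cent11)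
      fun b hb => by rw [H6.J1.norm11 hb]; norm_num
  · obtain ⟨F, h, k, c⟩ := fr7
    exact ⟨F, h, k, fun b => by simpa using c 7 (by norm_num) b⟩

theorem cent_small (o : Om G) (hp : p ∈ [2, 3, 5, 7]) (hV : Elem p V) (hn : φ.range ≤ N(V)) : φ.range ≤ C(V) := by
  obtain ⟨F, h, k, c⟩ := frp hp
  have pp : p.Prime := (by decide : ∀ p ∈ [2, 3, 5, 7], p.Prime) p hp
  have e := Nat.sub_add_cancel pp.one_le
  exact k.cent o (e.symm ▸ pp) (e.symm ▸ hV) hn (e.symm ▸ c)

end H17.JJ
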