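import Cfsg.Agent.H17.JJ1
import Cfsg.Agent.H2.Gaschutz

/-! `J₁ × J₁` by spectrum, part 2: splitting over `J₁` (`sec`), covers of `J₁ × J₁` (`cov2`) and of `J₁` (`cov1`). -/

set_option autoImplicit false
set_option linter.unusedSectionVars false
set_option linter.unusedVariables false

namespace H17.JJ
open Subgroup Cfsg H18 H1 H13 Cfsg.Spor
open scoped commutatorElement
universe u

variable {G X : Type*} [Group G] [Finite G] [Group X] [Finite X] {V H K : Subgroup G} {m n p r : ℕ}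

theorem surj_res {σ : G →* X} (hs : Function.Surjective σ) (h : σ.ker ⊔ H = ⊤) :
    Function.Surjective (σ.comp H.subtype) := fun x => by
  obtain ⟨g, rfl⟩ := hs x
  obtain ⟨a, ha, b, hb, rfl⟩ := (mem_sup_of_norm' (norm_of_normal (H := H))).1 (h ▸ mem_top g)
  exact ⟨⟨b, hb⟩, by simp [show σ a = 1 from ha]⟩

theorem card_lt (h : H ≠ ⊤) : Nat.card H < Nat.card G := by
  have := card_lt_of_lt (lt_top_iff_ne_top.2 h); rwa [card_top] at this

theorem card_quot_lt [V.Normal] (h : V ≠ ⊥) : Nat.card (G ⧸ V) < Nat.card G := by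
  rw [card_eq_card_quotient_mul_card_subgroup V]
  exact lt_mul_of_one_lt_right Nat.card_pos (V.one_lt_card_iff_ne_bot.2 h)

theorem exists_V (K : Subgroup G) [K.Normal] (hp : p.Prime) (hd : p ∣ Nat.card K) :
    ∃ V, V ≤ K ∧ V ≠ ⊥ ∧ Elem p V ∧ K ⊔ N(V) = ⊤ := by
  obtain ⟨P, hP⟩ := exists_sylow hp K
  obtain ⟨V, hV, mV⟩ := exists_minNorm (hP.ne_bot_p hp hd) (le_refl N(P))
  refine ⟨V, hV.trans hP.le, mV.ne_bot, mV.elem_of_pi (hP.pi.of_le hV), eq_top_iff.2 ?_⟩
  exact (frattini_arg hp (nml_top (K := K)) hP).ge.trans (sup_le_sup_left (inf_le_right.trans mV.norm) _)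

theorem exists_V' (h : K ≠ ⊥) [K.Normal] : ∃ p V, p.Prime ∧ V ≤ K ∧ V ≠ ⊥ ∧ Elem p V ∧ K ⊔ N(V) = ⊤ := by
  obtain ⟨p, hp, hd⟩ := Nat.exists_prime_and_dvd (K.one_lt_card_iff_ne_bot.2 h).ne'
  obtain ⟨V, e⟩ := exists_V K hp hd
  exact ⟨p, V, hp, e⟩

theorem compl (o : Om G) {σ : G →* J1} (hp : p.Prime) (hV : Elem p V) (e : σ.ker = V) :
    ∃ H, IsComplement' V H := by
  subst e
  obtain ⟨U, hU, VU⟩ := exists_sylow_le hp (hV.pi' hp) (le_top (a := σ.ker))
  have := hV.abel.comm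
  have c : (Nat.card σ.ker).Coprime U.index := by
    have := hU.idx; rw [relIndex_top_right] at this
    exact PiNat.coprime (hV.pi' hp) this
  have pw : ∀ x ∈ U, x ^ p = 1 := fun x hx => o.elt hp (hU.pi.elt hx)
  suffices ∃ A, A ⊓ σ.ker = ⊥ ∧ σ.ker ⊔ A = U from
    let ⟨A, a, b⟩ := this; H2.gaschutz_exists _ U VU c A a b
  by_cases p2 : p = 2
  · subst p2
    have : Elem 2 U := ⟨fun x hx y hy => by
      have := pw _ (mul_mem hy hx)
      have a := pw _ hx
      have b := pw _ hy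
      rw [pow_two] at this a b
      calc y * x = (y * x)⁻¹ := mul_eq_one_iff_eq_inv.1 this
        _ = x * y := by rw [mul_inv_rev, ← mul_eq_one_iff_eq_inv.1 a, ← mul_eq_one_iff_eq_inv.1 b], pw⟩
    obtain ⟨A, d⟩ := this.exists_compl hp VU
    exact ⟨A, (inf_comm _ _).trans d.inf, d.sup⟩
  by_cases b : U ≤ σ.ker
  · exact ⟨⊥, by simp, by simpa using le_antisymm VU b⟩
  obtain ⟨x, hx, xV⟩ := SetLike.not_le_iff_exists.1 b
  have := Fact.mk hp
  have ox : orderOf x = p := orderOf_eq_prime (pw x hx) fun e => xV (e ▸ one_mem _)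
  have os : orderOf (σ x) = p := orderOf_eq_prime (by rw [← map_pow, pw x hx, map_one]) xV
  refine ⟨zpowers x, ?_, le_antisymm (sup_le VU (zpowers_le.2 hx)) fun y hy => ?_⟩
  · exact eq_bot_iff.2 fun y hy => by
      by_contra y1
      exact xV (zpowers_le.2 hy.2 (zpowers_eq_of_prime (card_zpowers' (x := x) ▸ ox ▸ hp) hy.1 y1 ▸ mem_zpowers x))
  · have le : zpowers (σ x) ≤ U.map σ := zpowers_le.2 ⟨x, hx, rfl⟩
    obtain ⟨j, hj⟩ := PiGrp.card_eq_pow (H := U.map σ) (hU.pi.of_dvd (card_map_dvd U σ))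
    have d : p ^ j ∣ 175560 := hj ▸ H6.J1.card_J1 ▸ card_subgroup_dvd_card _
    have j1 : j ≤ 1 := by
      by_contra c
      have d2 := (pow_dvd_pow p (by omega : 2 ≤ j)).trans d
      have := o.prime hp (ox ▸ orderOf_dvd_natCard x)
      simp only [List.mem_cons, List.not_mem_nil, or_false] at this
      rcases this with rfl | rfl | rfl | rfl | rfl | rfl <;> simp_all
    have : zpowers (σ x) = U.map σ := eq_of_le_of_card_ge le (by
      rw [hj, card_zpowers', os]; exact (Nat.pow_le_pow_right hp.pos j1).trans (pow_one p).le)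
    obtain ⟨i, hi⟩ : σ y ∈ zpowers (σ x) := this ▸ ⟨y, hy, rfl⟩
    rw [← inv_mul_cancel_right y (x ^ i)]
    exact mul_mem (mem_sup_left (by simp [MonoidHom.mem_ker, ← hi])) (mem_sup_right ⟨i, rfl⟩)

theorem sec' (n : ℕ) : ∀ (G : Type u) [Group G] [Finite G], Nat.card G = n → Om G → ∀ σ : G →* J1,
    Function.Surjective σ → ∃ φ : J1 →* G, ∀ x, σ (φ x) = x := by
  induction n using Nat.strong_induction_on with
  | _ n ih =>
  intro G _ _ hn o σ hs
  have step : ∀ H : Subgroup G, H ≠ ⊤ → Function.Surjective (σ.comp H.subtype) → ∃ φ : J1 →* G, ∀ x, σ (φ x) = x :=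
    fun H h e => let ⟨φ, c⟩ := ih _ (hn ▸ card_lt h) H rfl (o.sub H) _ e; ⟨H.subtype.comp φ, c⟩
  by_cases b : σ.ker = ⊥
  · let e := MulEquiv.ofBijective σ ⟨(MonoidHom.ker_eq_bot_iff σ).1 b, hs⟩
    exact ⟨e.symm.toMonoidHom, e.apply_symm_apply⟩
  obtain ⟨p, V, hp, VK, V1, hV, e⟩ := exists_V' b
  by_cases c : N(V) = ⊤
  swap; · exact step _ c (surj_res hs e)
  have := normalizer_eq_top_iff.1 c
  obtain ⟨φ, hφ⟩ := ih _ (hn ▸ card_quot_lt V1) (G ⧸ V) rfl (o.surj _ (QuotientGroup.mk'_surjective V))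
    (QuotientGroup.lift V σ VK) fun x => let ⟨g, e⟩ := hs x; ⟨g, e⟩
  by_cases d : φ.range.comap (QuotientGroup.mk' V) = ⊤
  swap
  · refine step _ d fun x => ?_
    obtain ⟨g, e⟩ := QuotientGroup.mk'_surjective V (φ x)
    exact ⟨⟨g, x, e.symm⟩, (congrArg (QuotientGroup.lift V σ VK) e).trans (hφ x)⟩
  have KV : σ.ker = V := le_antisymm (fun x hx => by
    obtain ⟨y, e⟩ : x ∈ φ.range.comap (QuotientGroup.mk' V) := d ▸ mem_top x
    have := hφ y
    rw [e] at this
    rw [← show σ x = y from this, show σ x = 1 from hx, map_one] at e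
    exact (QuotientGroup.eq_one_iff x).1 e.symm) VK
  obtain ⟨H, hH⟩ := compl o hp hV KV
  exact step H (fun e => V1 (by simpa [e] using hH.disjoint)) (surj_res hs (KV ▸ hH.sup_eq_top))

theorem sec (o : Om G) {σ : G →* J1} (hs : Function.Surjective σ) : ∃ φ : J1 →* G, ∀ x, σ (φ x) = x :=
  sec' _ G rfl o σ hs

theorem cov_elem (o : Om G) {σ : G →* J1 × J1} (hs : Function.Surjective σ) (hp : p.Prime) (hV : Elem p σ.ker) :
    σ.ker = ⊥ := by
  by_contra V1
  obtain ⟨φ, h1⟩ := sec (o.sub ((MonoidHom.snd J1 J1).comp σ).ker) (σ := ((MonoidHom.fst J1 J1).comp σ).comp (Subgroup.subtype _))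
    fun x => let ⟨g, e⟩ := hs (x, 1); ⟨⟨g, congrArg Prod.snd e⟩, congrArg Prod.fst e⟩
  obtain ⟨ψ, h2⟩ := sec (o.sub ((MonoidHom.fst J1 J1).comp σ).ker) (σ := ((MonoidHom.snd J1 J1).comp σ).comp (Subgroup.subtype _))
    fun x => let ⟨g, e⟩ := hs (1, x); ⟨⟨g, congrArg Prod.fst e⟩, congrArg Prod.snd e⟩
  replace h1 : ∀ x, σ (((Subgroup.subtype _).comp φ) x) = (x, 1) := fun x => Prod.ext (h1 x) (φ x).2
  replace h2 : ∀ x, σ (((Subgroup.subtype _).comp ψ) x) = (1, x) := fun x => Prod.ext (ψ x).2 (h2 x)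
  generalize (Subgroup.subtype _).comp φ = φ at h1
  generalize (Subgroup.subtype _).comp ψ = ψ at h2
  have fin : ∀ x y w, orderOf w = p → φ x * w = w * φ x → ψ y * w = w * ψ y → (orderOf x).Coprime (orderOf y) →
      (orderOf x * orderOf y).Coprime p → orderOf x * orderOf y * p ∈ W := fun x y w ow a b c d => by
    refine o _ (ow ▸ sp_lift (Commute.mul_left a b).eq ?_ (ow ▸ d))
    have := orderOf_map_dvd σ (φ x * ψ y)
    rwa [map_mul, h1, h2, Prod.mk_mul_mk, mul_one, one_mul, Prod.orderOf_mk, c.lcm_eq_mul] at this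
  have := Fact.mk hp
  obtain ⟨w, hw, w1⟩ := exists_mem_ne_one' V1
  have ow := orderOf_eq_prime (hV.pow w hw) w1
  by_cases s : p ∈ [2, 3, 5, 7]
  · obtain ⟨x, ox⟩ := H6.J1.exists_order 11 (by decide)
    obtain ⟨y, oy⟩ := H6.J1.exists_order 19 (by decide)
    have := fin x y w ow (cent_small o s hV norm_of_normal ⟨x, rfl⟩ w hw).symm
      (cent_small o s hV norm_of_normal ⟨y, rfl⟩ w hw).symm
    rw [ox, oy] at this
    simp only [List.mem_cons, List.not_mem_nil, or_false] at s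
    rcases s with rfl | rfl | rfl | rfl <;> exact absurd (this (by decide) (by decide)) (by decide)
  have s2 : p = 11 ∨ p = 19 := by
    have := o.prime hp (ow ▸ orderOf_dvd_natCard w)
    simp only [List.mem_cons, List.not_mem_nil, or_false] at this s
    tauto
  obtain ⟨F, x, k, c⟩ := fr7
  obtain ⟨w, hw, ow, e⟩ := k.fix (φ := φ) hp hV V1 norm_of_normal fun b => s (by simp [show p = 2 from c p hp b])
  obtain ⟨F', y, k', c'⟩ := fr6
  obtain ⟨w, hw, ow, e⟩ := k'.fix (φ := ψ) (V := σ.ker ⊓ C1(φ x)) hp (hV.sub' inf_le_left)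
    (fun b => hp.ne_one (by rw [← ow, mem_bot.1 (b ▸ ⟨hw, mem_C1.2 e.symm⟩ : w ∈ (⊥ : Subgroup G)), orderOf_one]))
    (by
      rintro _ ⟨z, rfl⟩
      refine mem_N_of_cj_le ?_
      rintro _ ⟨v, hv, rfl⟩
      refine ⟨(inferInstance : σ.ker.Normal).conj_mem _ hv.1 _, mem_C1.2 ?_⟩
      have a : (φ x)⁻¹ * ((ψ z)⁻¹ * φ x * ψ z) ∈ σ.ker := by simp [MonoidHom.mem_ker, h1, h2]
      have := ((Commute.mul_right (mem_C1.1 hv.2) (hV.abel a v hv.1)).map (MulAut.conj (ψ z))).eq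
      simpa [mul_assoc] using this)
    (by rw [c']; rcases s2 with rfl | rfl <;> decide)
  have := fin x y w ow (mem_C1.1 hw.2).symm e
  rw [k.ord, k'.ord] at this
  rcases s2 with rfl | rfl <;> exact absurd (this (by decide) (by decide)) (by decide)

theorem cov2' (n : ℕ) : ∀ (G : Type u) [Group G] [Finite G], Nat.card G = n → Om G → ∀ σ : G →* J1 × J1,
    Function.Surjective σ → σ.ker = ⊥ := by
  induction n using Nat.strong_induction_on with
  | _ n ih =>
  intro G _ _ hn o σ hs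
  by_contra b
  obtain ⟨p, V, hp, VK, V1, hV, e⟩ := exists_V' b
  by_cases c : N(V) = ⊤
  swap
  · have := ih _ (hn ▸ card_lt c) _ rfl (o.sub _) _ (surj_res hs e)
    obtain ⟨w, hw, w1⟩ := exists_mem_ne_one' V1
    have m : (⟨w, le_N hw⟩ : N(V)) ∈ (σ.comp N(V).subtype).ker := VK hw
    rw [this, mem_bot] at m
    exact w1 (congrArg Subtype.val m)
  have := normalizer_eq_top_iff.1 c
  have := ih _ (hn ▸ card_quot_lt V1) (G ⧸ V) rfl (o.surj _ (QuotientGroup.mk'_surjective V))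
    (QuotientGroup.lift V σ VK) fun x => let ⟨g, e⟩ := hs x; ⟨g, e⟩
  have KV : σ.ker = V := le_antisymm (fun x hx => (QuotientGroup.eq_one_iff x).1
    (mem_bot.1 (this ▸ (hx : (x : G ⧸ V) ∈ (QuotientGroup.lift V σ VK).ker)))) VK
  exact b (cov_elem o hs hp (KV ▸ hV))

theorem cov2 (o : Om G) {σ : G →* J1 × J1} (hs : Function.Surjective σ) : σ.ker = ⊥ := cov2' _ G rfl o σ hs

/-- the odd primes `5, 7, 11, 19` -/
def Pp : Set ℕ := {5, 7, 11, 19}

theorem fix6 (o : Om G) {σ : G →* J1} (hs : Function.Surjective σ) {F : Subgroup J1} {y : J1} (k : Fr F y 5)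
    (c : Nat.card F = 7) (hp : p.Prime) (hd : p ∣ Nat.card σ.ker) :
    ∃ u w : G, σ u = y ∧ u ^ 6 = 1 ∧ w ∈ σ.ker ∧ orderOf w = p ∧ u * w = w * u := by
  obtain ⟨V, VK, V1, hV, e⟩ := exists_V σ.ker hp hd
  obtain ⟨φ, hφ⟩ := sec (o.sub _) (surj_res hs e)
  have hn : ((Subgroup.subtype _).comp φ).range ≤ N(V) := by rintro _ ⟨x, rfl⟩; exact (φ x).2
  have : ∃ w ∈ V, orderOf w = p ∧ ((Subgroup.subtype _).comp φ) y * w = w * ((Subgroup.subtype _).comp φ) y := by
    by_cases b : p = 7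
    · subst b
      obtain ⟨w, hw, w1⟩ := exists_mem_ne_one' V1
      have := Fact.mk hp
      exact ⟨w, hw, orderOf_eq_prime (hV.pow w hw) w1, (cent_small o (by decide) hV hn ⟨y, rfl⟩ w hw).symm⟩
    · exact k.fix hp hV V1 hn (by rwa [c, Nat.prime_dvd_prime_iff_eq hp (by norm_num)])
  obtain ⟨w, hw, ow, e⟩ := this
  exact ⟨_, w, hφ y, (map_pow ((Subgroup.subtype _).comp φ) y 6).symm.trans (by
    rw [show 6 = 5 + 1 from rfl, ← k.ord, pow_orderOf_eq_one, map_one]), VK hw, ow, e⟩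

theorem cov1' (o : Om G) {σ : G →* J1} (hs : Function.Surjective σ) (hK : Solv σ.ker) (hP : PiGrp Pp σ.ker)
    {a b c : ℕ} (ha : a.Prime) (hb : b.Prime) (hc : c.Prime) (ab : a ≠ b) (ac : a ≠ c) (bc : b ≠ c)
    (da : a ∣ Nat.card σ.ker) (db : b ∣ Nat.card σ.ker) (dc : c ∣ Nat.card σ.ker) : False := by
  obtain ⟨F, y, k, cF⟩ := fr6
  obtain ⟨u, -, hu, u6, -⟩ := fix6 o hs k cF ha da
  have pi : ∀ v : G, v ^ 6 = 1 → PiGrp Ppᶜ (zpowers v) := fun v h q hq hd => by
    have := hd.trans (card_zpowers' (x := v) ▸ orderOf_dvd_of_pow_eq_one h)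
    rintro (rfl | rfl | rfl | rfl) <;> revert this <;> decide
  have ou : orderOf u = 6 := Nat.dvd_antisymm (orderOf_dvd_of_pow_eq_one u6) (by
    have := orderOf_map_dvd σ u; rwa [hu, k.ord] at this)
  have key : ∀ q, q.Prime → q ∣ Nat.card σ.ker → q ∣ Nat.card (σ.ker ⊓ C1(u) : Subgroup G) := fun q hq hd => by
    obtain ⟨v, w, hv, v6, hw, ow, e⟩ := fix6 o hs k cF hq hd
    have m : u⁻¹ * v ∈ σ.ker := by simp [MonoidHom.mem_ker, hu, hv]
    have e2 : σ.ker ⊔ zpowers v = σ.ker ⊔ zpowers u := le_antisymm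
      (sup_le le_sup_left (zpowers_le.2 (by
        simpa using mul_mem (mem_sup_right (mem_zpowers u)) (mem_sup_left (T := zpowers u) m))))
      (sup_le le_sup_left (zpowers_le.2 (by
        simpa using mul_mem (mem_sup_right (mem_zpowers v)) (mem_sup_left (T := zpowers v) (inv_mem m)))))
    have h1 := hall_of_sup' (pi u u6) (K := σ.ker) (by simpa using hP) (.inl norm_of_normal)
    have h2 := e2 ▸ hall_of_sup' (pi v v6) (K := σ.ker) (by simpa using hP) (.inl norm_of_normal)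
    obtain ⟨g, -, e3⟩ := H23.hall_conj (Solv.sup hK (abel_zpowers (x := u)).solv (.inr norm_of_normal)) h2 h1
    have : g * w * g⁻¹ ∈ σ.ker ⊓ C1(u) := ⟨(inferInstance : σ.ker.Normal).conj_mem _ hw _, by
      obtain ⟨_, ⟨i, rfl⟩, e4⟩ : u ∈ H18.cj g (zpowers v) := e3 ▸ mem_zpowers u
      rw [← e4]
      exact mem_C1.2 ((Commute.zpow_left e i).map (MulAut.conj g)).eq.symm⟩
    have := orderOf_dvd_card this
    rwa [orderOf_conj, ow] at this
  have fin : ∀ q r, q.Prime → r.Prime → q ≠ r → q ∣ Nat.card σ.ker → r ∣ Nat.card σ.ker →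
      ¬ Sp (σ.ker ⊓ C1(u) : Subgroup G) (q * r) := fun q r hq hr qr dq dr ⟨x, ox⟩ => by
    rw [← orderOf_coe] at ox
    have := sp_mul (x := u) (y := x) (mem_C1.1 x.2.2).symm
    rw [ou, ox] at this
    replace this := fun c => o _ (this c)
    rcases hP q hq dq with rfl | rfl | rfl | rfl <;> rcases hP r hr dr with rfl | rfl | rfl | rfl <;>
      first | exact qr rfl | exact absurd (this (by decide)) (by decide)
  have t : ∀ q, q ∣ Nat.card (σ.ker ⊓ C1(u) : Subgroup G) → q ∣ Nat.card (⊤ : Subgroup (σ.ker ⊓ C1(u) : Subgroup G)) :=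
    fun q h => by rwa [card_top]
  have : Group.IsSolvable _ := Solv.of_le hK (inf_le_left (b := C1(u)))
  rcases three_primes (X := (⊤ : Subgroup (σ.ker ⊓ C1(u) : Subgroup G))) solv_of_solv ha hb hc ab ac bc (t _ (key a ha da))
    (t _ (key b hb db)) (t _ (key c hc dc)) with s | s | s
  exacts [fin a b ha hb ab da db s, fin a c ha hc ac da dc s, fin b c hb hc bc db dc s]

def Six (G : Type*) [Group G] : Prop := ∀ n ∈ [35, 55, 95, 77, 133, 209], Sp G n

theorem cov1 (o : Om G) (s : Six G) {σ : G →* J1} (hs : Function.Surjective σ) (hK : Solv σ.ker) : False := by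
  have d : ∀ a b, a.Prime → b.Prime → a * b ∈ [35, 55, 95, 77, 133, 209] → a ∣ Nat.card σ.ker ∨ b ∣ Nat.card σ.ker :=
    fun a b ha hb m => by
      obtain ⟨x, ox⟩ := s _ m
      by_contra c
      push Not at c
      have : orderOf (σ x) = orderOf x := Nat.dvd_antisymm (orderOf_map_dvd σ x) (by
        have h1 : x ^ orderOf (σ x) ∈ σ.ker := by rw [MonoidHom.mem_ker, map_pow, pow_orderOf_eq_one]
        refine orderOf_dvd_of_pow_eq_one (orderOf_eq_one_iff.1 (Nat.eq_one_of_dvd_coprimes ?_ (orderOf_pow_dvd _)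
          (orderOf_dvd_card h1)))
        rw [ox]; exact Nat.Coprime.mul_left (ha.coprime_iff_not_dvd.2 c.1) (hb.coprime_iff_not_dvd.2 c.2))
      exact (by decide : ∀ n ∈ [35, 55, 95, 77, 133, 209], n ∉ H6.J1.spec) _ m (ox ▸ this ▸ H6.J1.order_mem _)
  obtain ⟨H, hH⟩ := H23.hall_exists Pp hK
  have e : σ.ker ⊔ N(H) = ⊤ := eq_top_iff.2 fun g _ => by
    obtain ⟨k, hk, e⟩ := H23.hall_conj hK hH (hH.cj_N (norm_of_normal (mem_top g)))
    have : k⁻¹ * g ∈ N(H) := mem_N_of_cj_le (by rw [← cj_cj, e, cj_cj]; simp)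
    simpa using mul_mem (mem_sup_left hk) (mem_sup_right this)
  obtain ⟨φ, hφ⟩ := sec (o.sub _) (surj_res hs e)
  have hn : ((Subgroup.subtype _).comp φ).range ≤ N(H) := by rintro _ ⟨x, rfl⟩; exact (φ x).2
  replace hφ : ∀ x, σ (((Subgroup.subtype _).comp φ) x) = x := hφ
  generalize (Subgroup.subtype _).comp φ = φ at hn hφ
  have ek : ((σ.comp (H ⊔ φ.range).subtype).ker).map (Subgroup.subtype _) = H := le_antisymm (by
    rintro _ ⟨⟨x, hx⟩, h, rfl⟩
    obtain ⟨a, ha, _, ⟨y, rfl⟩, rfl⟩ := (mem_sup_of_norm' hn).1 hx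
    have : y = 1 := by simpa [MonoidHom.mem_ker, hφ, show σ a = 1 from hH.le ha] using h
    simpa [this] using ha) fun x hx => ⟨⟨x, mem_sup_left hx⟩, hH.le hx, rfl⟩
  have ec : Nat.card (σ.comp (H ⊔ φ.range).subtype).ker = Nat.card H :=
    (card_map_of_injective (subtype_injective _)).symm.trans (congrArg (fun K : Subgroup G => Nat.card K) ek)
  have fin := fun a b c ha hb hc ab ac bc (ma : a ∈ Pp) (mb : b ∈ Pp) (mc : c ∈ Pp) da db dc =>
    cov1' (o.sub (H ⊔ φ.range)) (σ := σ.comp (Subgroup.subtype _)) (fun x => ⟨⟨φ x, mem_sup_right ⟨x, rfl⟩⟩, hφ x⟩)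
      (solv_map_subtype.1 (by rw [ek]; exact Solv.of_le hK hH.le)) (by rw [PiGrp, ec]; exact hH.pi)
      (a := a) (b := b) (c := c) ha hb hc ab ac bc (ec ▸ hH.dvd_card ha ma da) (ec ▸ hH.dvd_card hb mb db)
      (ec ▸ hH.dvd_card hc mc dc)
  have p5 := Nat.prime_five
  have p7 := Nat.prime_seven
  have p11 := Nat.prime_eleven
  have p19 : Nat.Prime 19 := by norm_num
  have f1 := fin 5 7 11 p5 p7 p11 (by decide) (by decide) (by decide) (by simp [Pp]) (by simp [Pp]) (by simp [Pp])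
  have f2 := fin 5 7 19 p5 p7 p19 (by decide) (by decide) (by decide) (by simp [Pp]) (by simp [Pp]) (by simp [Pp])
  have f3 := fin 5 11 19 p5 p11 p19 (by decide) (by decide) (by decide) (by simp [Pp]) (by simp [Pp]) (by simp [Pp])
  have f4 := fin 7 11 19 p7 p11 p19 (by decide) (by decide) (by decide) (by simp [Pp]) (by simp [Pp]) (by simp [Pp])
  have := d 5 7 p5 p7 (by decide)
  have := d 5 11 p5 p11 (by decide)
  have := d 5 19 p5 p19 (by decide)
  have := d 7 11 p7 p11 (by decide)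
  have := d 7 19 p7 p19 (by decide)
  have := d 11 19 p11 p19 (by decide)
  tauto

end H17.JJ
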