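import Cfsg.Agent.H24.GL2Cent
import Cfsg.Agent.H3.PNilpotent
import Mathlib.LinearAlgebra.Matrix.Charpoly.Coeff
import Mathlib.Algebra.CharP.Reduced
import Mathlib.LinearAlgebra.Matrix.CharP
import Mathlib.Algebra.CharP.CharAndCard
import Mathlib.Tactic.NoncommRing

/-! Nilpotent minimal covers of groups between `PSL` and `PGL`, lifted to `GL` (`UC`): enlarging members (`UC.enl`,
`UC.pair`), line stabilizers `St`, regular unipotent elements `Reg`, the case `n ≥ 3` (`UC.three`). -/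

set_option autoImplicit false

namespace H17.NC

open Matrix Subgroup
open scoped commutatorElement

section
variable {Γ : Type*} [Group Γ] {T A B M : Subgroup Γ} {𝓐 : Finset (Subgroup Γ)}

/-- a minimal cover of `T / Z(Γ)` by nilpotent subgroups -/
structure UC (T : Subgroup Γ) (𝓐 : Finset (Subgroup Γ)) : Prop where
  cov : ∀ g ∈ T, ∃ A ∈ 𝓐, g ∈ A
  nil : ∀ A ∈ 𝓐, Group.IsNilpotent A
  pr : ∀ A ∈ 𝓐, center Γ ≤ A ∧ ¬ T ≤ A
  min : ∀ 𝓑 : Finset (Subgroup Γ), (∀ B ∈ 𝓑, center Γ ≤ B ∧ ¬ T ≤ B) → (∀ g ∈ T, ∃ B ∈ 𝓑, g ∈ B) → 𝓐.card ≤ 𝓑.card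

theorem UC.enl (h : UC T 𝓐) (hA : A ∈ 𝓐) (P : Subgroup Γ → Subgroup Γ → Prop)
    (ex : ∀ C ∈ 𝓐, ∃ M, (center Γ ≤ M ∧ ¬ T ≤ M) ∧ P C M) (cv : ∀ g ∈ T, ∃ C ∈ 𝓐, C ≠ A ∧ ∀ M, P C M → g ∈ M) : False := by
  classical
  choose! f h1 h2 using ex
  refine (Finset.card_image_le.trans_lt (Finset.card_erase_lt_of_mem hA)).not_ge
    (h.min ((𝓐.erase A).image f) (fun B hB => ?_) fun g hg => ?_)
  · obtain ⟨C, hC, rfl⟩ := Finset.mem_image.1 hB
    exact h1 C (Finset.mem_of_mem_erase hC)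
  · obtain ⟨C, hC, c1, c2⟩ := cv g hg
    exact ⟨f C, Finset.mem_image_of_mem f (Finset.mem_erase.2 ⟨c1, hC⟩), c2 _ (h2 C hC)⟩

theorem UC.pair (h : UC T 𝓐) (hA : A ∈ 𝓐) (hB : B ∈ 𝓐) (h1 : A ≤ M) (h2 : B ≤ M) (h3 : ¬ T ≤ M) : A = B := by
  by_contra c
  refine h.enl hA (fun C N => C ≤ N ∧ (C = B → M ≤ N)) (fun C hC => ?_) fun g hg => ?_
  · by_cases e : C = B
    · exact ⟨M, ⟨(h.pr A hA).1.trans h1, h3⟩, e ▸ h2, fun _ => le_rfl⟩
    · exact ⟨C, h.pr C hC, le_rfl, fun k => absurd k e⟩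
  · obtain ⟨C, hC, k⟩ := h.cov g hg
    by_cases e : C = A
    · exact ⟨B, hB, Ne.symm c, fun N hN => hN.2 rfl (h1 (e ▸ k))⟩
    · exact ⟨C, hC, e, fun N hN => hN.1 k⟩

theorem UC.of {G : Subgroup (Γ ⧸ center Γ)} {𝓐 : Finset (Subgroup G)}
    (h : ((∀ A ∈ 𝓐, A ≠ ⊤) ∧ (∀ g : G, ∃ A ∈ 𝓐, g ∈ A)) ∧ (∀ 𝓑 : Finset (Subgroup G), (∀ A ∈ 𝓑, A ≠ ⊤) ∧
      (∀ g : G, ∃ A ∈ 𝓑, g ∈ A) → 𝓐.card ≤ 𝓑.card) ∧ (∀ A ∈ 𝓐, Group.IsNilpotent A)) :
    ∃ 𝓐', UC (G.comap (QuotientGroup.mk' _)) 𝓐' := by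
  classical
  let π := QuotientGroup.mk' (center Γ)
  refine ⟨𝓐.image fun A => (A.map G.subtype).comap π, fun g hg => ?_, fun A hA => ?_, fun A hA => ?_, fun 𝓑 b1 b2 => ?_⟩
  · obtain ⟨A, hA, k⟩ := h.1.2 ⟨π g, hg⟩
    exact ⟨_, Finset.mem_image_of_mem _ hA, ⟨_, k, rfl⟩⟩
  · obtain ⟨C, hC, rfl⟩ := Finset.mem_image.1 hA
    have := h.2.2 C hC
    have : Group.IsNilpotent (C.map G.subtype) := Group.nilpotent_of_mulEquiv (C.equivMapOfInjective _ G.subtype_injective)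
    exact Subgroup.isNilpotent_of_ker_le_center (π.subgroupComap _) fun x hx => mem_center_iff.2 fun y => Subtype.ext
      (mem_center_iff.1 ((QuotientGroup.eq_one_iff x.1).1 (congrArg Subtype.val hx)) y.1)
  · obtain ⟨C, hC, rfl⟩ := Finset.mem_image.1 hA
    refine ⟨(QuotientGroup.ker_mk' _).ge.trans (ker_le_comap _ _), fun k => h.1.1 C hC (eq_top_iff.2 fun x _ => ?_)⟩
    obtain ⟨y, hy⟩ := QuotientGroup.mk'_surjective _ x.1
    obtain ⟨z, hz, e⟩ := k (show π y ∈ G from hy ▸ x.2)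
    rwa [← show z = x from Subtype.ext (e.trans hy)]
  · refine Finset.card_image_le.trans ((h.2.1 (𝓑.image fun B => (B.map π).subgroupOf G) ⟨fun A hA k => ?_, fun g => ?_⟩).trans
      Finset.card_image_le)
    · obtain ⟨B, hB, rfl⟩ := Finset.mem_image.1 hA
      refine (b1 B hB).2 ((comap_mono (subgroupOf_eq_top.1 k)).trans (le_of_eq ?_))
      exact comap_map_eq_self ((QuotientGroup.ker_mk' _).le.trans (b1 B hB).1)
    · obtain ⟨y, hy⟩ := QuotientGroup.mk'_surjective _ g.1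
      obtain ⟨B, hB, k⟩ := b2 y (show π y ∈ G from hy ▸ g.2)
      exact ⟨_, Finset.mem_image_of_mem _ hB, ⟨y, k, hy⟩⟩

theorem real_odd [Group.IsNilpotent Γ] {g y : Γ} (e : g * y * g⁻¹ = y⁻¹) (ho : Odd (orderOf y)) : y = 1 := by
  obtain ⟨n, hn⟩ := Subgroup.nilpotent_iff_lowerCentralSeries.1 ‹_›
  suffices ∀ k, y ∈ (⊤ : Subgroup Γ).lowerCentralSeries k from mem_bot.1 (hn ▸ this n)
  intro k
  induction k with
  | zero => trivial
  | succ k ih =>
    have e2 : ⁅y, g⁆ = y ^ 2 := by rw [commutatorElement_def, mul_assoc, mul_assoc, ← mul_assoc g, ← conj_inv, e, inv_inv, pow_two]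
    exact zpowers_le.2 (e2 ▸ commutator_mem_commutator ih (mem_top g))
      (mem_zpowers_pow_iff.2 (Nat.coprime_two_left.2 ho))

theorem pgrp {p : ℕ} [Fact p.Prime] [Finite Γ] {u : Γ} (hA : Group.IsNilpotent A) (hu : u ∈ A) {k : ℕ} (e : u ^ p ^ k = 1) :
    ∃ P : Subgroup A, IsPGroup p P ∧ P.Normal ∧ ⟨u, hu⟩ ∈ P := by
  obtain ⟨P, hP⟩ := (show IsPGroup p (zpowers (⟨u, hu⟩ : A)) from IsPGroup.of_card_dvd_pow (n := k) (by
    rw [Nat.card_zpowers]; exact orderOf_dvd_of_pow_eq_one (Subtype.ext e))).exists_le_sylow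
  exact ⟨P, P.isPGroup', inferInstance, hP (mem_zpowers _)⟩

end

variable {F n : Type*} [Field F] [Fintype n] [DecidableEq n] {p : ℕ} {u g : GL n F} {v w : n → F}
  {T A : Subgroup (GL n F)} {𝓐 : Finset (Subgroup (GL n F))}

/-- the stabilizer of the line through `v` -/
def St (v : n → F) : Subgroup (GL n F) where
  carrier := {g | ∃ c : F, c ≠ 0 ∧ g • v = c • v}
  one_mem' := ⟨1, one_ne_zero, by simp⟩
  mul_mem' := fun {a b} ⟨c, c0, e⟩ ⟨d, d0, f⟩ => ⟨d * c, mul_ne_zero d0 c0, by rw [mul_smul, f, smul_comm, e, smul_smul]⟩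
  inv_mem' := fun {a} ⟨c, c0, e⟩ => ⟨c⁻¹, inv_ne_zero c0, by
    rw [inv_smul_eq_iff, smul_comm, e, smul_smul, inv_mul_cancel₀ c0, one_smul]⟩

theorem mem_St (hv : v ≠ 0) {c : F} (e : g • v = c • v) : g ∈ St v :=
  ⟨c, fun k => hv ((smul_eq_zero_iff_eq g).1 (by rw [e, k, zero_smul])), e⟩

theorem St_le (c : F) : St v ≤ St (c • v) := fun _ ⟨d, d0, e⟩ => ⟨d, d0, by rw [smul_comm, e, smul_comm]⟩

theorem not_le_St [Nontrivial n] (hT : ∀ g : GL n F, g.1.det = 1 → g ∈ T) (hv : v ≠ 0) : ¬ T ≤ St v := fun h => by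
  obtain ⟨i, hi⟩ := Function.ne_iff.1 hv
  obtain ⟨j, hj⟩ := exists_ne i
  obtain ⟨c, -, e⟩ := h (hT (SpecialLinearGroup.toGL (SpecialLinearGroup.transvection hj 1)) (det_transvection_of_ne j i hj 1))
  change transvection j i 1 *ᵥ v = _ at e
  have e1 := congrFun e i
  have e2 := congrFun e j
  simp only [transvection, add_mulVec, one_mulVec, Pi.add_apply, single_mulVec, one_mul, Pi.smul_apply, smul_eq_mul,
    Function.update_self, Function.update_of_ne hj.symm, Pi.zero_apply, add_zero] at e1 e2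
  rw [(mul_eq_right₀ hi).1 e1.symm] at e2
  exact hi (by simpa using e2)

/-- `u` is unipotent with fixed space the line through `v` -/
structure Reg (p : ℕ) (u : GL n F) (v : n → F) : Prop where
  ne : v ≠ 0
  pw : ∃ k, u ^ p ^ k = 1
  fx : ∀ w, u • w = w → ∃ c : F, w = c • v

variable [Fact p.Prime] [CharP F p]

theorem Reg.of_St (h : Reg p u v) (hw : w ≠ 0) (k : u ∈ St w) : ∃ c : F, w = c • v := by
  obtain ⟨c, -, e⟩ := k
  obtain ⟨k, hk⟩ := h.pw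
  have : ∀ m : ℕ, u ^ m • w = c ^ m • w := fun m => by
    induction m with
    | zero => simp
    | succ m ih => rw [pow_succ, mul_smul, e, smul_comm, ih, smul_smul, pow_succ']
  have e2 := this (p ^ k)
  rw [hk, one_smul, eq_comm, ← sub_eq_zero, ← one_smul F w, smul_smul, ← sub_smul, smul_eq_zero, or_iff_left hw, mul_one,
    ← one_pow (p ^ k), ← sub_pow_char_pow, pow_eq_zero_iff (pow_pos (Fact.out : p.Prime).pos k).ne', sub_eq_zero] at e2
  exact h.fx w (by rw [e, e2, one_smul])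

theorem Reg.le [Finite F] (h : Reg p u v) (hA : Group.IsNilpotent A) (hu : u ∈ A) : A ≤ St v := fun a ha => by
  obtain ⟨k, hk⟩ := h.pw
  obtain ⟨P, p1, p2, p3⟩ := pgrp hA hu hk
  have := Fintype.ofFinite F
  obtain ⟨i, -⟩ := Function.ne_iff.1 h.ne
  obtain ⟨w, w1, w2⟩ := p1.exists_fixed_point_of_prime_dvd_card_of_fixed_point (n → F) (by
    rw [Nat.card_fun, Nat.card_eq_fintype_card]
    exact dvd_pow ((prime_dvd_char_iff_dvd_card p).1 (ringChar.eq F p ▸ dvd_rfl)) (Nat.card_ne_zero.2 ⟨⟨i⟩, inferInstance⟩))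
    (a := 0) fun g => smul_zero _
  obtain ⟨c, rfl⟩ := h.fx w (w1 ⟨_, p3⟩)
  have c0 : c ≠ 0 := fun e => w2 (by rw [e, zero_smul])
  have e : (a⁻¹ * u * a) • c • v = c • v := w1 ⟨_, p2.conj_mem' _ p3 ⟨a, ha⟩⟩
  obtain ⟨d, hd⟩ := h.fx (a • c • v) (by rwa [mul_smul, mul_smul, inv_smul_eq_iff] at e)
  exact mem_St h.ne (c := c⁻¹ * d) (by rw [mul_smul, ← hd, smul_comm a, smul_smul, inv_mul_cancel₀ c0, one_smul])

theorem unip [Nonempty n] {N : Matrix n n F} (hN : IsNilpotent N) (e : u.1 = 1 + N) : ∃ k, u ^ p ^ k = 1 := by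
  obtain ⟨k, hk⟩ := hN
  refine ⟨k, Units.ext ?_⟩
  rw [Units.val_pow_eq_pow_val, e, add_pow_char_pow_of_commute p _ (Commute.one_left N), one_pow,
    pow_eq_zero_of_le (Nat.lt_pow_self (Fact.out : p.Prime).one_lt).le hk, add_zero, Units.val_one]

theorem tr_unip [Nonempty n] {k : ℕ} (e : u ^ p ^ k = 1) : (u.1 - 1).trace = 0 :=
  (isNilpotent_trace_of_isNilpotent ⟨p ^ k, by
    rw [sub_pow_char_pow_of_commute _ _ (Commute.one_right _), ← Units.val_pow_eq_pow_val, e, one_pow, Units.val_one,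
      sub_self]⟩).eq_zero

/-- the Jordan block -/
def J (F : Type*) [Field F] (m : ℕ) : Matrix (Fin m) (Fin m) F := of fun i j => if (j : ℕ) = i + 1 then 1 else 0

omit [Fact p.Prime] [CharP F p] in
theorem J_up (m : ℕ) : (J F m).IsUpperTriangular := fun i j (h : j < i) => if_neg (by omega)

theorem ex_reg (m : ℕ) (σ : Equiv.Perm (Fin (m + 1))) (h0 : σ 0 = 0) : ∃ u : GL (Fin (m + 1)) F,
    u.1 = 1 + (J F _).submatrix σ σ ∧ u.1.det = 1 ∧ Reg p u (Pi.single 0 1) := by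
  have d : (1 + (J F _).submatrix σ σ).det = 1 := by
    rw [show 1 + (J F _).submatrix σ σ = (1 + J F _).submatrix σ σ by
      ext; simp [one_apply], det_submatrix_equiv_self,
      det_of_isUpperTriangular (blockTriangular_one.add (J_up _))]
    simp [J]
  have nl : IsNilpotent (J F (m + 1)) := ⟨m + 1, by
    have := aeval_self_charpoly (J F (m + 1))
    rw [charpoly_of_isUpperTriangular _ (J_up _)] at this
    simpa [J] using this⟩
  refine ⟨GeneralLinearGroup.mkOfDetNeZero _ (d ▸ one_ne_zero), rfl, d, by simp,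
    unip (nl.map (reindexAlgEquiv F F σ.symm)) rfl, fun w hw => ⟨w 0, funext fun j => ?_⟩⟩
  by_cases c : j = 0
  · simp [c]
  change (1 + (J F _).submatrix σ σ) *ᵥ w = w at hw
  rw [add_mulVec, one_mulVec, add_eq_left] at hw
  have j0 : (σ j : ℕ) ≠ 0 := fun e => c (σ.injective (h0.symm ▸ Fin.ext e))
  have := congrFun hw (σ.symm ⟨σ j - 1, by omega⟩)
  rw [mulVec, dotProduct, Finset.sum_eq_single j (fun b _ hb => ?_) (by simp)] at this
  · simpa [J, c, Nat.sub_add_cancel (Nat.pos_of_ne_zero j0)] using this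
  · have : (σ b : ℕ) ≠ σ j := fun e => hb (σ.injective (Fin.ext e))
    simp [J, Nat.sub_add_cancel (Nat.pos_of_ne_zero j0), this]

variable (p) in
include p in
theorem UC.three [Finite F] {m : ℕ} {T : Subgroup (GL (Fin (m + 3)) F)} {𝓐 : Finset (Subgroup (GL (Fin (m + 3)) F))}
    (h : UC T 𝓐) (hT : ∀ g : GL _ F, g.1.det = 1 → g ∈ T) : False := by
  obtain ⟨u, u1, u2, u3⟩ := ex_reg (F := F) (p := p) (m + 2) 1 rfl
  obtain ⟨w, w1, w2, w3⟩ := ex_reg (F := F) (p := p) (m + 2) (Equiv.swap 1 2) (Equiv.swap_apply_of_ne_of_ne (by simp)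
    (Fin.ne_of_val_ne (show (0 : ℕ) ≠ 2 by omega)))
  obtain ⟨A, hA, a⟩ := h.cov u (hT u u2)
  obtain ⟨B, hB, b⟩ := h.cov w (hT w w2)
  obtain rfl := h.pair hA hB (u3.le (h.nil A hA) a) (w3.le (h.nil B hB) b) (not_le_St hT u3.ne)
  obtain ⟨k, hk⟩ := u3.pw
  obtain ⟨l, hl⟩ := w3.pw
  obtain ⟨P, p1, p2, p3⟩ := pgrp (h.nil A hA) a hk
  obtain ⟨Q, q1, q2, q3⟩ := pgrp (h.nil A hA) b hl
  obtain ⟨r, hr⟩ := p1.to_sup_of_normal_left q1 ⟨_, mul_mem (mem_sup_left p3) (mem_sup_right q3)⟩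
  have e := tr_unip (u := u * w) (congrArg (fun x => x.1.1) hr)
  have e1 := tr_unip hk
  have e2 := tr_unip hl
  rw [show (u * w).1 - 1 = (u.1 - 1) + (w.1 - 1) + (u.1 - 1) * (w.1 - 1) by rw [Units.val_mul]; noncomm_ring,
    trace_add, trace_add, e1, e2, u1, w1, add_sub_cancel_left, add_sub_cancel_left, zero_add, zero_add, trace,
    Finset.sum_eq_single 1 (fun i _ hi => ?_) (by simp), diag_apply, mul_apply,
    Finset.sum_eq_single 2 (fun j _ hj => ?_) (by simp)] at e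
  · simp [J] at e
  · have : (j : ℕ) ≠ 2 := fun k => hj (Fin.ext k)
    simp [J, this]
  · rw [diag_apply, mul_apply]
    refine Finset.sum_eq_zero fun j _ => ?_
    have : (i : ℕ) ≠ 1 := fun k => hi (Fin.ext k)
    have f1 : ((1 : Fin (m + 2 + 1)) : ℕ) = 1 := rfl
    have f2 : ((2 : Fin (m + 2 + 1)) : ℕ) = 2 := rfl
    simp only [J, submatrix_apply, of_apply, Equiv.Perm.coe_one, id, Equiv.swap_apply_def, Fin.ext_iff, mul_ite, mul_one,
      mul_zero, ite_eq_right_iff, apply_ite Fin.val, f1, f2]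
    intro k1 k2
    split_ifs at k1 <;> omega

end H17.NC
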