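import Cfsg.Agent.H17.NC1

/-! Groups between `PSL₂(q)` and `PGL₂(q)`, `q ≥ 4`, have no nilpotent minimal cover (`UC.two`). -/

set_option autoImplicit false

namespace H17.NC

open Matrix Subgroup H24

variable {F : Type*} [Field F] {p : ℕ} {u g y t : GL (Fin 2) F} {v w : Fin 2 → F}
  {T A : Subgroup (GL (Fin 2) F)} {𝓐 : Finset (Subgroup (GL (Fin 2) F))}

theorem fl {a b t : F} (h1 : 2 * a + t * b = t) (h2 : a ^ 2 + t * a * b + 1 * b ^ 2 = 1) (h4 : t ^ 2 ≠ 4) :
    (a = 0 ∧ b = 1) ∨ (a = t ∧ b = -1) := by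
  have e1 : (b - 1) * (b + 1) = 0 := mul_left_cancel₀ (sub_ne_zero.2 h4) (by
    linear_combination (2 * a + t * b + t) * h1 - 4 * h2)
  have e2 : a * (a - t) = 0 := by linear_combination a * h1 - h2 + e1
  by_cases c : t = 0
  · have : a = 0 := by simpa [c] using e2
    rcases mul_eq_zero.1 e1 with k | k
    · exact .inl ⟨this, sub_eq_zero.1 k⟩
    · exact .inr ⟨this.trans c.symm, eq_neg_of_add_eq_zero_left k⟩
  rcases mul_eq_zero.1 e2 with k | k
  · exact .inl ⟨k, mul_left_cancel₀ c (by linear_combination h1 - 2 * k)⟩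
  · exact .inr ⟨sub_eq_zero.1 k, mul_left_cancel₀ c (by linear_combination h1 - 2 * k)⟩

theorem nsc (hd : y.1.det = 1) (h4 : y.1.trace ^ 2 ≠ 4) : ¬ IsScal y.1 := fun k =>
  h4 (by rw [k.trace_eq]; linear_combination 4 * (k.det_eq.symm.trans hd))

theorem le_cent (hA : Group.IsNilpotent A) (hy : y ∈ A) (hd : y.1.det = 1) (ho : Odd (orderOf y)) (h4 : y.1.trace ^ 2 ≠ 4) :
    A ≤ centralizer {y} := by
  refine subgroupOf_eq_top.1 (normalizerCondition_iff_only_full_group_self_normalizing.1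
    Group.normalizerCondition_of_isNilpotent _ (le_antisymm (fun g hg => ?_) le_normalizer))
  have k : g.1 * y * g.1⁻¹ ∈ centralizer {y} :=
    (mem_normalizer_iff.1 hg ⟨y, hy⟩).1 (mem_centralizer_singleton_iff.2 rfl)
  have c : IsConj y (g.1 * y * g.1⁻¹) := isConj_iff.2 ⟨_, rfl⟩
  obtain ⟨a, b, e⟩ := (mem_cent_GL_iff (nsc hd h4) _).1 k
  have h1 := IsConj.trace_GL c
  have h2 := IsConj.det_GL c
  rw [e, trace_lin] at h1
  rw [e, det_lin, hd] at h2
  rcases fl h1.symm h2.symm h4 with ⟨rfl, rfl⟩ | ⟨rfl, rfl⟩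
  · rw [zero_smul, one_smul, zero_add, ← Units.ext_iff, mul_inv_eq_iff_eq_mul] at e
    exact mem_centralizer_singleton_iff.2 e
  · have e2 : g * ⟨y, hy⟩ * g⁻¹ = ⟨y, hy⟩⁻¹ := Subtype.ext (eq_inv_of_mul_eq_one_left (Units.ext (by
      change (g.1 * y * g.1⁻¹).1 * y.1 = 1
      rw [e, add_mul, smul_mul_assoc, smul_mul_assoc, cayley, hd, one_mul]; module)))
    have := congrArg Subtype.val (real_odd e2 (by rwa [← orderOf_coe]))
    exact absurd ((show y = 1 from this) ▸ isScal_one) (nsc hd h4)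

theorem cent_le_St (hy : ¬ IsScal y.1) (hv : v ≠ 0) (h : y ∈ St v) : centralizer {y} ≤ St v := fun m hm => by
  obtain ⟨a, b, e⟩ := (mem_cent_GL_iff hy _).1 hm
  obtain ⟨c, -, k⟩ := h
  refine mem_St hv (c := a + b * c) ?_
  change y.1 *ᵥ v = _ at k
  change m.1 *ᵥ v = _
  rw [e, add_mulVec, smul_mulVec, smul_mulVec, one_mulVec, k, smul_smul, add_smul]

theorem not_ell (hv : v ≠ 0) (h : y ∈ St v) : ¬ Ell y.1 := fun k => by
  obtain ⟨c, -, e⟩ := h
  exact (ell_iff _).1 k c v hv e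

theorem ell_tr (h : Ell y.1) (hd : y.1.det = 1) : y.1.trace ^ 2 ≠ 4 := fun k => by
  rcases mul_eq_zero.1 (show (y.1.trace - 2) * (y.1.trace + 2) = 0 by linear_combination k) with e | e
  · exact h 1 (by linear_combination hd - e)
  · exact h (-1) (by linear_combination hd + e)

/-- `diag(a, a⁻¹)` -/
def dg (a : Fˣ) : GL (Fin 2) F :=
  ⟨diagonal ![a, a⁻¹], diagonal ![a⁻¹, a], by ext i j; fin_cases i <;> fin_cases j <;> simp,
    by ext i j; fin_cases i <;> fin_cases j <;> simp⟩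

theorem dg_det (a : Fˣ) : (dg a).1.det = 1 := by simp [dg]

theorem dg_tr {a : Fˣ} (h : a ^ 2 ≠ 1) : (dg a).1.trace ^ 2 ≠ 4 := fun k => h (Units.ext (by
  simp only [dg, trace_diagonal, Fin.sum_univ_two, cons_val_zero, cons_val_one] at k
  have := mul_inv_cancel₀ a.ne_zero
  have e : ((a : F) ^ 2 - 1) ^ 2 = 0 := by
    linear_combination (a : F) ^ 2 * k - (2 * (a : F) ^ 2 + (a : F) * (a : F)⁻¹ + 1) * this
  simpa [sub_eq_zero] using e))

theorem dg_St (a : Fˣ) (i : Fin 2) : dg a ∈ St (Pi.single i (1 : F)) :=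
  mem_St (by simp) (c := ![(a : F), a⁻¹] i) (by
    change diagonal _ *ᵥ _ = _
    ext j; fin_cases i <;> fin_cases j <;> simp [mulVec_diagonal])

theorem dg_ord (a : Fˣ) : orderOf (dg a) ∣ orderOf a := orderOf_dvd_of_pow_eq_one (Units.ext (by
  have e : (a : F) ^ orderOf a = 1 := by rw [← Units.val_pow_eq_pow_val, pow_orderOf_eq_one, Units.val_one]
  rw [Units.val_pow_eq_pow_val, dg, diagonal_pow]
  ext i j; fin_cases i <;> fin_cases j <;> simp [e]))

variable [Fact p.Prime] [CharP F p]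

theorem ex_reg2 (hv : v ≠ 0) : ∃ u : GL (Fin 2) F, u.1.det = 1 ∧ Reg p u v := by
  let N : Matrix (Fin 2) (Fin 2) F := !![v 0 * v 1, -(v 0 * v 0); v 1 * v 1, -(v 0 * v 1)]
  have d : (1 + N).det = 1 := by simp [N, det_fin_two]; ring
  refine ⟨GeneralLinearGroup.mkOfDetNeZero _ (d ▸ one_ne_zero), d, hv, unip (N := N) ⟨2, ?_⟩ rfl, fun w hw => ?_⟩
  · ext i j; fin_cases i <;> fin_cases j <;> simp [N, pow_two, mul_apply] <;> ring
  change (1 + N) *ᵥ w = w at hw
  rw [add_mulVec, one_mulVec, add_eq_left] at hw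
  have e0 := congrFun hw 0
  have e1 := congrFun hw 1
  simp only [N, mulVec, dotProduct, Fin.sum_univ_two, of_apply, cons_val', cons_val_zero, cons_val_one, cons_val_fin_one,
    Pi.zero_apply] at e0 e1
  by_cases c : v 0 = 0
  · have c1 : v 1 ≠ 0 := fun k => hv (funext fun i => by fin_cases i <;> simp [c, k])
    have : w 0 = 0 := by simpa [c, c1] using e1
    exact ⟨w 1 / v 1, funext fun i => by fin_cases i <;> simp [c, c1, this]⟩
  · have : v 1 * w 0 = v 0 * w 1 := mul_left_cancel₀ c (by linear_combination e0)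
    refine ⟨w 0 / v 0, funext fun i => ?_⟩
    fin_cases i
    · simp [c]
    · simp only [Fin.mk_one, Pi.smul_apply, smul_eq_mul]; field_simp; linear_combination -this

variable [Fintype F]

theorem no_reg {a : Fˣ} (h2 : a ^ 2 ≠ 1) (hA : Group.IsNilpotent A) (ha : dg a ∈ A) (hu : u ∈ A) (h : Reg p u v) : False := by
  obtain ⟨k, hk⟩ := h.pw
  have co : (orderOf u).Coprime (orderOf (dg a)) := by
    refine ((Nat.Coprime.pow_left k ((Nat.Prime.coprime_iff_not_dvd Fact.out).2 fun d => ?_)).coprime_dvd_left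
      (orderOf_dvd_of_pow_eq_one hk)).coprime_dvd_right ((dg_ord a).trans (orderOf_dvd_natCard a))
    have := (Nat.dvd_add_right d).1 (show p ∣ Nat.card Fˣ + 1 by
      rw [← Nat.card_eq_card_units_add_one, Nat.card_eq_fintype_card]
      exact (prime_dvd_char_iff_dvd_card p).1 (ringChar.eq F p ▸ dvd_rfl))
    exact (Fact.out : p.Prime).one_lt.ne' (Nat.dvd_one.1 this)
  have c : u ∈ centralizer {dg a} :=
    mem_centralizer_singleton_iff.2 (H3.commute_of_isNilpotent_subgroup_of_coprime hu ha co)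
  have k := fun i => h.of_St (by simp) (cent_le_St (nsc (dg_det a) (dg_tr h2)) (by simp) (dg_St a i) c)
  obtain ⟨c0, e0⟩ := k 0
  obtain ⟨c1, e1⟩ := k 1
  have a0 := congrFun e0 0
  have a1 := congrFun e0 1
  have b1 := congrFun e1 1
  have b0 := congrFun e1 0
  simp only [Pi.single_eq_same, Pi.smul_apply, smul_eq_mul, ne_eq, one_ne_zero, not_false_eq_true, Pi.single_eq_of_ne,
    zero_ne_one] at a0 a1 b0 b1
  exact one_ne_zero (α := F) (by linear_combination a0 + c0 * v 0 * b1 - v 0 * c1 * a1)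

variable (p) in
include p in
theorem UC.two (h : UC T 𝓐) (hT : ∀ g : GL _ F, g.1.det = 1 → g ∈ T) (h4 : 4 ≤ Fintype.card F) : False := by
  classical
  obtain ⟨d, d1, d2, d3⟩ : ∃ d, Odd d ∧ d ≠ 1 ∧ d ∣ Fintype.card F ^ 2 - 1 := by
    rw [← one_pow 2, Nat.sq_sub_sq]
    by_cases c : Fintype.card F % 2 = 0
    · exact ⟨_, Nat.odd_iff.2 (by omega), by omega, dvd_mul_right _ _⟩
    by_cases c : Fintype.card F % 4 = 1
    · exact ⟨(Fintype.card F + 1) / 2, Nat.odd_iff.2 (by omega), by omega,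
        Dvd.dvd.mul_right (Nat.div_dvd_of_dvd (by omega)) _⟩
    · exact ⟨(Fintype.card F - 1) / 2, Nat.odd_iff.2 (by omega), by omega,
        Dvd.dvd.mul_left (Nat.div_dvd_of_dvd (by omega)) _⟩
  obtain ⟨r, hr, r1⟩ := Nat.exists_prime_and_dvd d2
  have ro : Odd r := d1.of_dvd_nat r1
  have := Fact.mk hr
  by_cases c : r ∣ Nat.card Fˣ
  · obtain ⟨a, ha⟩ := exists_prime_orderOf_dvd_card' r c
    have a2 : a ^ 2 ≠ 1 := fun k => hr.one_lt.ne' (Nat.eq_one_of_dvd_coprimes (Nat.coprime_two_right.2 ro) dvd_rfl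
      (ha ▸ orderOf_dvd_of_pow_eq_one k))
    obtain ⟨u, u1, u2⟩ := ex_reg2 (F := F) (p := p) (v := Pi.single 0 1) (by simp)
    obtain ⟨A, hA, k⟩ := h.cov _ (hT _ (dg_det a))
    obtain ⟨B, hB, l⟩ := h.cov _ (hT _ u1)
    obtain rfl := h.pair hA hB ((le_cent (h.nil A hA) k (dg_det a) ((ha ▸ ro).of_dvd_nat (dg_ord a)) (dg_tr a2)).trans
      (cent_le_St (nsc (dg_det a) (dg_tr a2)) u2.ne (dg_St a 0))) (u2.le (h.nil B hB) l) (not_le_St hT u2.ne)
    exact no_reg a2 (h.nil A hA) k l u2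
  obtain ⟨a, a2⟩ : ∃ a : Fˣ, a ^ 2 ≠ 1 := by
    by_contra! k
    have := IsCyclic.exponent_eq_card (α := Fˣ) ▸ Nat.le_of_dvd two_pos (Monoid.exponent_dvd_of_forall_pow_eq_one k)
    rw [Nat.card_units, Nat.card_eq_fintype_card] at this
    omega
  have ne : ∀ y : GL (Fin 2) F, Ell y.1 → dg a ∉ centralizer {y} := fun y hy k =>
    not_ell (by simp) (dg_St a 0) (Ell.of_commute hy (nsc (dg_det a) (dg_tr a2)) (mem_cent_GL.1 k))
  obtain ⟨A, hA, k⟩ := h.cov _ (hT _ (dg_det a))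
  refine h.enl hA (fun C M => (∀ u ∈ C, ∀ v, Reg p u v → St v ≤ M) ∧
    ∀ y ∈ C, y.1.det = 1 → Odd (orderOf y) → Ell y.1 → centralizer {y} ≤ M) (fun C hC => ?_) fun g hg => ?_
  · by_cases c1 : ∃ u ∈ C, ∃ v, Reg p u v
    · obtain ⟨u, hu, v, e⟩ := c1
      have l := e.le (h.nil C hC) hu
      refine ⟨St v, ⟨(h.pr C hC).1.trans l, not_le_St hT e.ne⟩, fun u' hu' v' e' => ?_,
        fun y hy _ _ k => absurd k (not_ell e.ne (l hy))⟩
      obtain ⟨c, rfl⟩ := e'.of_St e.ne (l hu')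
      exact St_le c
    by_cases c2 : ∃ y ∈ C, y.1.det = 1 ∧ Odd (orderOf y) ∧ Ell y.1
    · obtain ⟨y, hy, y1, y2, y3⟩ := c2
      have l := le_cent (h.nil C hC) hy y1 y2 (ell_tr y3 y1)
      exact ⟨centralizer {y}, ⟨(h.pr C hC).1.trans l, fun k => ne y y3 (k (hT _ (dg_det a)))⟩,
        fun u hu v e => absurd ⟨u, hu, v, e⟩ c1, fun z hz _ _ k => (cent_GL_eq_of_mem y3.not_isScal k.not_isScal (l hz)).le⟩
    · exact ⟨C, h.pr C hC, fun u hu v e => absurd ⟨u, hu, v, e⟩ c1, fun y hy y1 y2 y3 => absurd ⟨y, hy, y1, y2, y3⟩ c2⟩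
  by_cases e : Ell g.1
  · obtain ⟨⟨y, hy⟩, o⟩ := exists_prime_orderOf_dvd_card' (G := centralizer {g}) r (card_cent_GL_ell e ▸ r1.trans d3)
    replace o : orderOf y = r := (orderOf_coe _).trans o
    have one : ∀ x : Fˣ, x ^ r = 1 → x = 1 := fun x hx => orderOf_eq_one_iff.1 (Nat.eq_one_of_dvd_coprimes
      ((Nat.Prime.coprime_iff_not_dvd hr).2 c) (orderOf_dvd_of_pow_eq_one hx) (orderOf_dvd_natCard x))
    have yr : y ^ r = 1 := o ▸ pow_orderOf_eq_one y
    have y1 : y.1.det = 1 := congrArg Units.val (one (GeneralLinearGroup.det y) (by rw [← map_pow, yr, map_one]))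
    have y2 : ¬ IsScal y.1 := fun k => by
      have k2 := k.eq_smul
      have k3 : y.1 0 0 ^ r = 1 := by
        have := congrArg Units.val yr
        rw [Units.val_pow_eq_pow_val, k2, smul_pow, one_pow] at this
        simpa using congrFun (congrFun this 0) 0
      have k4 := congrArg Units.val (one (Units.mk0 _ fun z => by simp [z, hr.ne_zero] at k3) (Units.ext k3))
      rw [show y = 1 from Units.ext (by rw [k2, show y.1 0 0 = 1 from k4, one_smul]; rfl), orderOf_one] at o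
      exact hr.one_lt.ne o
    have y3 := Ell.of_commute e y2 (mem_cent_GL.1 hy)
    obtain ⟨B, hB, l⟩ := h.cov _ (hT _ y1)
    refine ⟨B, hB, ?_, fun M hM => hM.2 y l y1 (o ▸ ro) y3 (mem_cent_GL.2 (mem_cent_GL.1 hy).symm)⟩
    rintro rfl
    exact ne y y3 (le_cent (h.nil B hB) l y1 (o ▸ ro) (ell_tr y3 y1) k)
  · simp only [ell_iff, not_forall, not_not] at e
    obtain ⟨c, v, hv, e⟩ := e
    obtain ⟨u, u1, u2⟩ := ex_reg2 (p := p) hv
    obtain ⟨B, hB, l⟩ := h.cov _ (hT _ u1)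
    refine ⟨B, hB, ?_, fun M hM => hM.1 u l v u2 (mem_St hv e)⟩
    rintro rfl
    exact no_reg a2 (h.nil B hB) k l u2

end H17.NC
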