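import Cfsg.Agent.S0999
import Cfsg.Agent.S3868
import Cfsg.Agent.H2.Sm1
import Cfsg.Agent.H10.SL

/-! The least order of a group that is not `p`-closed: lower bound (`npc_lower`) and the two models (`npc_aff`,
`npc_psl`). -/

set_option autoImplicit false

namespace H17.NPC

open Cfsg Subgroup H2.Sm
open scoped MatrixGroups

variable {p : ℕ} [hp : Fact p.Prime]

theorem simple_lower (hp2 : p ≠ 2) {H : Type} [Group H] [Finite H] [IsSimpleGroup H] (h : ¬ IsPClosed p H) :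
    p * (p ^ 2 - 1) / 2 ≤ Nat.card H := by
  have nc : ¬ IsCyclic H := fun _ => h fun P => by
    let _ := IsCyclic.commGroup (α := H)
    exact normal_of_isMulCommutative _
  have dv : p ∣ Nat.card H := by
    by_contra c
    refine h fun P => ?_
    have : (P : Subgroup H) = ⊥ := by
      rw [← card_eq_one, P.card_eq_multiplicity, Nat.factorization_eq_zero_of_not_dvd c, pow_zero]
    rw [this]; infer_instance
  by_cases c : Nat.card H < p ^ 3
  · rcases Cfsg.Agent.S0999.result nc p hp.out dv c with ⟨F, _, _, e, h3, ⟨f⟩⟩ | ⟨m, F, _, _, e, e2, h3, ⟨f⟩⟩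
    · have := H10.card_PSL2 (F := F)
      obtain ⟨k, rfl⟩ := hp.out.odd_of_ne_two hp2
      rw [e, ← Nat.card_congr f.toEquiv, Nat.add_sub_cancel, Nat.gcd_mul_right_right] at this
      refine Nat.div_le_of_le_mul ?_
      rw [this, show (2 * k + 1) ^ 2 - 1 = 2 * k * (2 * k + 1 + 1) from Nat.sub_eq_of_eq_add (by ring)]
      exact le_of_eq (by ring)
    · have := H10.card_PSL2 (F := F)
      have l : Fintype.card F * (Fintype.card F - 1) * (Fintype.card F + 1) ≤ Nat.card H := by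
        obtain ⟨k, hk⟩ : 2 ∣ Fintype.card F := e ▸ dvd_pow_self 2 (by rintro rfl; omega)
        have g : Nat.gcd 2 (Fintype.card F - 1) = 1 := Nat.coprime_two_left.2 ⟨k - 1, by omega⟩
        rw [← this, g, one_mul, Nat.card_congr f.toEquiv]
      rw [e] at l
      obtain ⟨r, hr⟩ : ∃ r, 2 ^ m = r + 3 := ⟨2 ^ m - 3, by omega⟩
      have r1 : 1 ≤ r := by
        rcases Nat.eq_zero_or_pos r with rfl | k
        · exact absurd hp.out (by rw [e2, hr]; norm_num)
        · exact k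
      rw [e2, hr]
      rw [hr] at l
      refine Nat.div_le_of_le_mul (le_trans ?_ (Nat.mul_le_mul_left 2 l))
      rw [show (r + 3 + 1) ^ 2 - 1 = (r + 3) * (r + 5) from Nat.sub_eq_of_eq_add (by ring), show r + 3 - 1 = r + 2 from rfl]
      nlinarith [Nat.zero_le (r * r), Nat.zero_le (r * r * r)]
  · refine le_trans (Nat.div_le_self _ _) (le_trans ?_ (not_lt.1 c))
    rw [pow_succ' p 2]; exact Nat.mul_le_mul_left p (Nat.sub_le _ _)

theorem npc_lower (hp2 : p ≠ 2) {m : ℕ} (hl : ∀ k : ℕ, IsPrimePow k → k % p = 1 → m ≤ k) (n : ℕ) :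
    ∀ (H : Type) [Group H] [Finite H], Nat.card H = n → ¬ IsPClosed p H → min (p * m) (p * (p ^ 2 - 1) / 2) ≤ n := by
  induction n using Nat.strong_induction_on with
  | _ n ih =>
  intro H _ _ e h
  by_cases c1 : ∀ K : Subgroup H, K ≠ ⊤ → IsPClosed p K
  swap
  · push Not at c1
    obtain ⟨K, k1, k2⟩ := c1
    have l : Nat.card K < n := e ▸ (card_le_card_group K).lt_of_ne fun k => k1 (eq_top_of_card_eq K k)
    exact (ih _ l K rfl k2).trans l.le
  by_cases c2 : ∀ (N : Subgroup H) [N.Normal], N ≠ ⊥ → IsPClosed p (H ⧸ N)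
  swap
  · push Not at c2
    obtain ⟨N, _, k1, k2⟩ := c2
    have l : Nat.card (H ⧸ N) < n := by
      rw [← e, card_eq_card_quotient_mul_card_subgroup N]
      exact lt_mul_of_one_lt_right Nat.card_pos ((one_lt_card_iff_ne_bot N).2 k1)
    exact (ih _ l _ rfl k2).trans l.le
  by_cases c3 : IsSimpleGroup H
  · exact (min_le_right _ _).trans (e ▸ simple_lower hp2 h)
  obtain ⟨q, hq, qp, e2, -⟩ := Cfsg.Agent.S3868.result h c1 c2 c3
  have q0 : (q : ZMod p) ≠ 0 := fun k =>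
    qp ((Nat.prime_dvd_prime_iff_eq hp.out hq).1 ((ZMod.natCast_eq_zero_iff q p).1 k)).symm
  refine (min_le_left _ _).trans (e ▸ e2 ▸ Nat.mul_le_mul_left p (hl _ (hq.isPrimePow.pow ?_) ?_))
  · exact (isOfFinOrder_iff_pow_eq_one.2 ⟨p - 1, by have := hp.out.two_le; omega,
      ZMod.pow_card_sub_one_eq_one q0⟩).orderOf_pos.ne'
  · have := pow_orderOf_eq_one (q : ZMod p)
    rw [← Nat.cast_pow, ← Nat.cast_one, ZMod.natCast_eq_natCast_iff'] at this
    rw [this, Nat.mod_eq_of_lt hp.out.one_lt]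

theorem npc_aff {m : ℕ} (hm : IsPrimePow m) (h1 : m % p = 1) :
    ∃ (H : Type) (_ : Group H) (_ : Finite H), Nat.card H = p * m ∧ ¬ IsPClosed p H := by
  obtain ⟨q, n, hq, hn, rfl⟩ := (isPrimePow_nat_iff m).1 hm
  have := Fact.mk hq
  let K := GaloisField q n
  have cK : Nat.card K = q ^ n := GaloisField.card q n hn.ne'
  obtain ⟨z, hz⟩ : ∃ z : Kˣ, orderOf z = p := exists_prime_orderOf_dvd_card' p (by
    rw [Nat.card_units, cK]; exact (Nat.modEq_iff_dvd' (Nat.one_le_pow _ _ hq.pos)).1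
      (by rw [Nat.ModEq, h1, Nat.mod_eq_of_lt hp.out.one_lt]))
  have : NeZero p := ⟨hp.out.ne_zero⟩
  let χ : AddChar (ZMod p) K := AddChar.zmodChar p (ζ := (z : K)) (by
    rw [← Units.val_pow_eq_pow_val, ← hz, pow_orderOf_eq_one, Units.val_one])
  have χ1 : χ 1 = z := by rw [← Nat.cast_one, AddChar.zmodChar_apply', pow_one]
  refine ⟨Af χ, inferInstance, inferInstance, by rw [Af.card, cK, Nat.card_zmod, mul_comm], fun h => ?_⟩
  have pa : IsPGroup p (zpowers (⟨0, 1⟩ : Af χ)) := IsPGroup.of_card_dvd_pow (n := 1) (by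
    rw [Nat.card_zpowers, pow_one]
    exact orderOf_dvd_of_pow_eq_one (by rw [Af.pow_of_v, nsmul_one, ZMod.natCast_self]; rfl))
  obtain ⟨P, hP⟩ := pa.exists_le_sylow
  have a := hP (mem_zpowers _)
  have e : (⟨0, 1⟩ : Af χ) * (⟨1, 0⟩ * ⟨0, 1⟩⁻¹ * ⟨1, 0⟩⁻¹) = ⟨z - 1, 0⟩ := by
    ext
    · have k : χ 1 * χ (-1) = 1 := by rw [← AddChar.map_add_eq_mul, add_neg_cancel, AddChar.map_zero_eq_one]
      simp only [Af.mul_v, Af.mul_c, Af.inv_v, Af.inv_c, mul_zero, neg_zero, AddChar.map_zero_eq_one, mul_one, zero_add,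
        add_zero, ← χ1]
      linear_combination -k
    · simp
  obtain ⟨k, hk⟩ := P.isPGroup' ⟨_, e ▸ mul_mem a ((h P).conj_mem _ (inv_mem a) _)⟩
  have o1 := orderOf_dvd_of_pow_eq_one (congrArg Subtype.val hk)
  have o2 : orderOf (⟨z - 1, 0⟩ : Af χ) ∣ q ^ n :=
    orderOf_dvd_of_pow_eq_one (by rw [Af.pow_of_c, ← cK, card_nsmul_eq_zero']; rfl)
  have co : (p ^ k).Coprime (q ^ n) := Nat.Coprime.pow_left k ((Nat.Prime.coprime_iff_not_dvd hp.out).2 fun d => by
    rw [Nat.mod_eq_zero_of_dvd d] at h1; exact zero_ne_one h1)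
  have := congrArg Af.v (orderOf_eq_one_iff.1 (Nat.eq_one_of_dvd_coprimes co o1 o2))
  rw [Af.one_v, sub_eq_zero, Units.val_eq_one] at this
  rw [this, orderOf_one] at hz
  exact hp.out.one_lt.ne hz

theorem npc_psl (h3 : 3 < p) :
    ∃ (H : Type) (_ : Group H) (_ : Finite H), Nat.card H = p * (p ^ 2 - 1) / 2 ∧ ¬ IsPClosed p H := by
  have := Matrix.ProjectiveSpecialLinearGroup.rank_two_simple (F := ZMod p) (by rw [Nat.card_zmod]; omega)
  have e := H10.card_PSL2 (F := ZMod p)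
  obtain ⟨k, hk⟩ := hp.out.odd_of_ne_two (by omega)
  rw [ZMod.card, show p - 1 = 2 * k by omega, Nat.gcd_mul_right_right] at e
  have e2 : Nat.card PSL(2, ZMod p) = p * (k * (p + 1)) := Nat.eq_of_mul_eq_mul_left two_pos (by rw [e]; ring)
  refine ⟨PSL(2, ZMod p), inferInstance, inferInstance, ?_, fun h => ?_⟩
  · rw [e2, show p ^ 2 - 1 = 2 * (k * (p + 1)) from Nat.sub_eq_of_eq_add (by rw [hk]; ring), mul_left_comm p 2,
      Nat.mul_div_cancel_left _ two_pos]
  · obtain ⟨P⟩ : Nonempty (Sylow p PSL(2, ZMod p)) := inferInstance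
    rcases (h P).eq_bot_or_eq_top with c | c
    · exact P.ne_bot_of_dvd_card (e2 ▸ dvd_mul_right _ _) c
    · obtain ⟨n, hn⟩ := P.isPGroup'.exists_card_eq
      rw [c, card_top, e2] at hn
      have : 2 ∣ p ^ n := hn ▸ Dvd.dvd.mul_left (Dvd.dvd.mul_left (by omega) _) _
      have := Nat.prime_two.dvd_of_dvd_pow this
      omega

end H17.NPC
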