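import Cfsg.Agent.H13.CitD
import Cfsg.Agent.H13.SL2Graph
import Cfsg.Agent.H23.Thompson
import Cfsg.Agent.H1.BG3a

/-! Frobenius systems on the maximal solvable subgroups (`fsys`), `cc_cases` (a subgroup of even order containing
the centralizers of its non-trivial elements), `solv_of_rank_cent`, `solv_of_burnside`. -/

set_option autoImplicit false
set_option linter.unusedSectionVars false
set_option linter.unusedVariables false

namespace H117
open Subgroup Cfsg H18 H1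
open scoped commutatorElement MatrixGroups

variable {G : Type*} [Group G] [Finite G] {A H K M T V : Subgroup G} {g t u x : G}

theorem top_eq_of_rank (h1 : prank 2 (⊤ : Subgroup G) ≤ 1) (u2 : u * u = 1) (u1 : u ≠ 1) :
    O[{2}ᶜ]((⊤ : Subgroup G)) ⊔ C1(u) = ⊤ := eq_top_iff.2 fun g _ => by
  obtain ⟨n, hn, e⟩ := H9.rank_one h1 u2 u1 (mem_top u) (mem_top g)
  simpa using mul_mem_sup' hn e

theorem solv_of_rank_cent (h1 : prank 2 (⊤ : Subgroup G) ≤ 1) (u2 : u * u = 1) (u1 : u ≠ 1) (hs : Solv C1(u)) :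
    Solv (⊤ : Subgroup G) := by
  rw [← top_eq_of_rank h1 u2 u1]
  exact (solv_of_two' pcore_pi).sup hs (pcore_nml.nrm2 le_top)

theorem solv_of_burnside (hT : Hall {2} T M) (h : M ⊓ N(T) ≤ C(T)) : Solv M := by
  have h1 := Burnside_normal_complement Nat.prime_two hT h
  rw [← hT.sup_compl h1]
  exact hT.pi.solv.sup_norm (solv_of_two' pcore_pi) (hT.le.trans pcore_nml.2)

theorem cc_cases (h : H13.CC K) (hn : N(K) ≠ ⊤) (he : Even (Nat.card K)) (hs : Solv K) :
    Solv (⊤ : Subgroup G) ∨ H13.IsZT G := by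
  by_cases h2 : 1 < prank 2 K
  · exact Or.inr (h.zt h2 hn).2
  obtain ⟨u, hu, u2, u1⟩ := H5.exists_inv_of_even he
  have cop := H23.coprime_of_cent (L := ⊤) le_top fun k hk k1 => inf_le_right.trans (h.cent k hk k1)
  have := prank_of_idx Nat.prime_two (le_top : K ≤ ⊤) fun c =>
    Nat.prime_two.one_lt.ne' (Nat.eq_one_of_dvd_coprimes cop he.two_dvd c)
  exact Or.inl (solv_of_rank_cent (by omega) u2 u1 (hs.of_le (h.cent u hu u1)))

/-- maximal solvable subgroups -/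
def MS (M : Subgroup G) : Prop := Solv M ∧ ∀ M' : Subgroup G, M < M' → ¬ Solv M'

theorem exists_MS (h : Solv H) : ∃ M, MS M ∧ H ≤ M := by
  obtain ⟨B, h1, h2, h3⟩ := exists_maximal_sub (fun B : Subgroup G => Solv B) h
  exact ⟨B, ⟨h2, fun L hL c => hL.ne' (h3 L c hL.le)⟩, h1⟩

theorem MS.le (h : MS M) (hV : Solv V) (hn : M ≤ N(V)) : V ≤ M := by
  by_contra c
  exact h.2 (M ⊔ V) (lt_of_le_of_ne le_sup_left fun e => c (e ▸ le_sup_right)) (h.1.sup_norm hV hn)

theorem fsys (F : Subgroup G → Subgroup G) (h : ∀ M : Subgroup G, MS M → F M ≤ M ∧ M ≤ N(F M) ∧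
      (∀ a ∈ M, a ∉ F M → ∀ x ∈ F M, x * a = a * x → x = 1) ∧
      (∀ g : G, g ∉ M → F M ⊓ cj g (F M) = ⊥) ∧ (F M ≠ ⊥ ∨ Abel M)) :
    Solv (⊤ : Subgroup G) ∨ H13.IsZT G := by
  by_cases hs : Solv (⊤ : Subgroup G)
  · exact Or.inl hs
  have nt : ∀ M : Subgroup G, MS M → M ≠ ⊤ := fun M hM c => hs (c ▸ hM.1)
  have cent : ∀ M, MS M → ∀ x ∈ F M, x ≠ 1 → C1(x) ≤ F M := fun M hM x hx x1 g hg => by
    obtain ⟨h1, h2, h3, h4, -⟩ := h M hM
    have : g ∈ M := by_contra fun c => x1 (eq_one_of_eq_bot (h4 g c)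
      ⟨hx, by rw [← conj_eq_self_of_C1 hg]; exact conj_mem_cj hx⟩)
    exact by_contra fun c => x1 (h3 g this c x hx (mem_C1.1 hg).symm)
  by_cases hA : ∃ M, MS M ∧ Even (Nat.card (F M))
  · obtain ⟨M, hM, he⟩ := hA
    obtain ⟨h1, h2, h3, h4, -⟩ := h M hM
    have K1 : F M ≠ ⊥ := ne_bot_of_prime_dvd Nat.prime_two he.two_dvd
    have hN : N(F M) = M := le_antisymm (fun g hg => by_contra fun c => K1 (by
      have := h4 g c; rwa [cj_eq_self hg, inf_idem] at this)) h2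
    have ne : F M ≠ M := fun e => by
      obtain ⟨K, -, hK⟩ := H23.exists_frob_of_compl (H := M) ⟨e ▸ K1, nt M hM, fun g hg => by
        have := h4 g hg; rwa [e] at this⟩
      exact hs (hK.sd.solv (H23.Frob_nil hK).solv hM.1)
    have hn : Nil (F M) := H23.nil_of_cent ⟨h1, h2⟩ ne fun k hk k1 => inf_le_right.trans (cent M hM k hk k1)
    exact cc_cases ⟨cent M hM, hn.Z_ne_bot K1⟩ (hN.symm ▸ nt M hM) he hn.solv
  obtain ⟨T, hT⟩ := exists_sylow Nat.prime_two (⊤ : Subgroup G)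
  have key : ∀ M, MS M → T ≤ M → Abel M := fun M hM hTM => by
    obtain ⟨h1, h2, h3, h4, h5⟩ := h M hM
    refine h5.resolve_left fun K1 => ?_
    by_cases h2' : 1 < prank 2 (⊤ : Subgroup G)
    · rw [← hT.prank Nat.prime_two rfl] at h2'
      obtain ⟨A, hA'⟩ := exists_pelem_of_lt Nat.prime_two h2'
      refine hA'.not_cyc Nat.prime_two le_rfl (cyc_of_semireg_abel hA'.elem.abel
        (hA'.le.trans (hTM.trans h2)) K1 fun a ha a1 => eq_bot_iff.2 fun x hx => ?_)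
      refine h3 a (hTM (hA'.le ha)) (fun c => hA ⟨M, hM, ?_⟩) x hx.1 (mem_C1.1 hx.2)
      exact H5.even_of_inv c (by simpa [sq] using hA'.elem.pow a ha) a1
    have he : Even (Nat.card (⊤ : Subgroup G)) := by_contra fun c => hs (H1.solv_of_odd (Nat.not_even_iff_odd.1 c))
    obtain ⟨u, -, u2, u1⟩ := H5.exists_inv_of_even he
    have e := top_eq_of_rank (by omega) u2 u1
    obtain ⟨V, V1, hV, hn⟩ : ∃ V : Subgroup G, V ≠ ⊥ ∧ Abel V ∧ ⊤ ≤ N(V) := by
      by_cases c : O[{2}ᶜ]((⊤ : Subgroup G)) = ⊥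
      · rw [c, bot_sup_eq] at e
        exact ⟨zpowers u, by simpa using u1, abel_zpowers, e ▸ C1_le_N_zpowers⟩
      · obtain ⟨p, V, -, -, V1, hV, hn, -⟩ := (solv_of_two' pcore_pi).exists_elem_norm c pcore_nml.2
        exact ⟨V, V1, hV.abel, hn⟩
    have VM := hM.le hV.solv (le_top.trans hn)
    have VK : V ≤ F M := by
      by_cases c : V ⊓ F M = ⊥
      · obtain ⟨x, hx, x1⟩ := exists_mem_ne_one' K1
        exact ((cent_of_inf_eq_bot (VM.trans h2) (le_top.trans hn) c).trans (C_le_C1 hx)).trans (cent M hM x hx x1)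
      · obtain ⟨x, hx, x1⟩ := exists_mem_ne_one' c
        exact (hV.trans (C_le_C1 hx.1)).trans (cent M hM x hx.2 x1)
    obtain ⟨g, -, hg⟩ := SetLike.not_le_iff_exists.1 fun c => nt M hM (eq_top_iff.2 c)
    refine V1 (eq_bot_iff.2 (h4 g hg ▸ le_inf VK ?_))
    rw [← cj_eq_self (hn (mem_top g))]; exact cj_mono VK
  refine absurd (solv_of_burnside hT fun g hg => ?_) hs
  obtain ⟨M, hM, le⟩ := exists_MS ((abel_zpowers.solv).sup_norm hT.pi.solv (zpowers_le.2 hg.2))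
  exact C_anti (le_sup_right.trans le) (key M hM (le_sup_right.trans le) (le (le_sup_left (a := zpowers g) (mem_zpowers g))))

theorem charP_of_card {F : Type*} [Field F] [Fintype F] {n : ℕ} (h : Fintype.card F = 2 ^ n) : CharP F 2 := by
  obtain ⟨p, hp⟩ := CharP.exists F
  obtain ⟨m, hp', e⟩ := FiniteField.card F p
  have : p ∣ 2 ^ n := h ▸ e ▸ dvd_pow_self p m.ne_zero
  obtain rfl := (Nat.prime_dvd_prime_iff_eq hp' Nat.prime_two).1 (hp'.dvd_of_dvd_pow this)
  exact hp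

end H117
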