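import Cfsg.Agent.H17.Part1
import Cfsg.Agent.H21.Kegel

/-! Groups with a partition, part 1: normal partitions `NP c` (`c x` = the component of `x`), `exists_NP`, the
commuting lemmas `NP.L1`, `NP.L2`, nilpotency of components (`NP.fro_or_nil`), and the case in which the Fitting
subgroup lies in a component (`NP.caseA1`). -/

set_option autoImplicit false
set_option linter.unusedSectionVars false
set_option linter.unusedVariables false

namespace H117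
open Subgroup Cfsg H18 H1
open scoped commutatorElement MatrixGroups

variable {G : Type*} [Group G] [Finite G] {c : G → Subgroup G} {A H K M N P T V : Subgroup G}
  {a b g s t u v w x y z : G} {p q r : ℕ}

/-- a normal partition, `c x` being the component containing `x` -/
structure NP (c : G → Subgroup G) : Prop where
  mem : ∀ x, x ∈ c x
  eq : ∀ {x y}, y ∈ c x → y ≠ 1 → c y = c x
  conj : ∀ g x, c (g * x * g⁻¹) = cj g (c x)
  ne : ∀ x, c x ≠ ⊤

theorem exists_NP (S : Set (Subgroup G)) (hS2 : ∃ H ∈ S, ∃ K ∈ S, H ≠ K)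
    (hS1 : ∀ H ∈ S, H ≠ ⊥) (hpart : ∀ g : G, g ≠ 1 → ∃! H : Subgroup G, H ∈ S ∧ g ∈ H) :
    ∃ c : G → Subgroup G, NP c := by
  classical
  obtain ⟨H, hH, K, hK, hne⟩ := hS2
  have nt : ∀ X ∈ S, X ≠ ⊤ := fun X hX e => by
    have : ∀ Y ∈ S, Y = X := fun Y hY => by
      obtain ⟨y, hy, y1⟩ := exists_mem_ne_one' (hS1 Y hY)
      exact (hpart y y1).unique ⟨hY, hy⟩ ⟨hX, e ▸ mem_top y⟩
    exact hne ((this H hH).trans (this K hK).symm)
  obtain ⟨d, m0, s0⟩ : ∃ d : G → Subgroup G, (∀ x, x ∈ d x) ∧ ∀ x, d x ∈ S := by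
    refine ⟨fun x => if h : x = 1 then H else (hpart x h).exists.choose, fun x => ?_, fun x => ?_⟩
    · by_cases h : x = 1
      · simp only [h]; exact one_mem _
      · simp only [dif_neg h]; exact (hpart x h).exists.choose_spec.2
    · by_cases h : x = 1
      · simp only [dif_pos h]; exact hH
      · simp only [dif_neg h]; exact (hpart x h).exists.choose_spec.1
  have hm : ∀ x y, y ∈ ⨅ g, cj g⁻¹ (d (g * x * g⁻¹)) ↔ ∀ g, g * y * g⁻¹ ∈ d (g * x * g⁻¹) := fun x y => by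
    simp [mem_iInf, mem_cj]
  refine ⟨fun x => ⨅ g, cj g⁻¹ (d (g * x * g⁻¹)), fun x => (hm x x).2 fun g => m0 _, fun {x y} hy y1 => ?_,
    fun g x => ?_, fun x e => nt _ (s0 x) (eq_top_iff.2 fun y _ => ?_)⟩
  · refine iInf_congr fun g => congrArg _ ?_
    exact (hpart _ (mt conj_eq_one_iff'.1 y1)).unique ⟨s0 _, m0 _⟩ ⟨s0 _, (hm x y).1 hy g⟩
  · ext y
    rw [mem_cj, hm, hm]
    refine ⟨fun h k => ?_, fun h k => ?_⟩
    · simpa [mul_assoc] using h (k * g⁻¹)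
    · simpa [mul_assoc] using h (k * g)
  · simpa using (hm x y).1 (e ▸ mem_top y) 1

/-- the Hughes subgroup is proper for some prime -/
def Hug (G : Type*) [Group G] : Prop := ∃ p : ℕ, p.Prime ∧ closure {g : G | g ^ p ≠ 1} ≠ ⊤
/-- Frobenius groups -/
def Fro (G : Type*) [Group G] : Prop := ∃ H : Subgroup G, IsFrobeniusComplement H

theorem hug_of (hp : p.Prime) (hK : K ≠ ⊤) (h : ∀ g, g ∉ K → g ^ p = 1) : Hug G :=
  ⟨p, hp, fun e => hK (eq_top_iff.2 (e ▸ (closure_le K).2 fun g hg => by_contra fun c => hg (h g c)))⟩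

theorem fro_of (hK : ⊤ ≤ N(K)) (h1 : K ≠ ⊥) (h2 : K ≠ ⊤) (h : ∀ k ∈ K, k ≠ 1 → C1(k) ≤ K) : Fro G := by
  obtain ⟨H, hH⟩ := H23.exists_frob_of_cent ⟨le_top, hK⟩ h1 h2 fun k hk k1 => inf_le_right.trans (h k hk k1)
  exact ⟨H, H23.isFrobeniusComplement_of_frob hH⟩

theorem comm_of_zp (h : x * y = y * x) (ha : a ∈ zpowers x) : a * y = y * a :=
  (mem_C1.1 (C1_le_of_mem_zpowers ha (mem_C1.2 h.symm))).symm

theorem inv_of_split (h : H21.Split 2 K s) (hx : x ∈ K) : s * x * s⁻¹ = x⁻¹ := by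
  have h1 := h x hx
  have h2 := h.pow
  rw [sq] at h1 h2
  rw [H9.inv_eq_of_mul_self h2, eq_inv_iff_mul_eq_one]
  calc s * x * s * x = x⁻¹ * (x * s * (x * s)) * (s * s)⁻¹ * (s * s) * (s⁻¹ * s) * x := by group
    _ = 1 := by rw [h1, h2]; group

theorem mul_mem_C_of_inv (h1 : ∀ x ∈ K, s * x * s⁻¹ = x⁻¹) (h2 : ∀ x ∈ K, t * x * t⁻¹ = x⁻¹) : s * t ∈ C(K) :=
  mem_C.2 fun x hx => by
    have : s * t * x * (s * t)⁻¹ = x := by
      rw [show s * t * x * (s * t)⁻¹ = s * (t * x * t⁻¹) * s⁻¹ by group, h2 x hx, h1 _ (inv_mem hx), inv_inv]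
    exact (mul_inv_eq_iff_eq_mul.1 this).symm

namespace NP
variable (h : NP c)
include h

theorem c_eq (hx : w ∈ c x) (hy : w ∈ c y) (w1 : w ≠ 1) : c x = c y := (h.eq hx w1).symm.trans (h.eq hy w1)

theorem zp (hy : y ∉ c x) (hw : w ∈ zpowers y) (hw' : w ∈ c x) : w = 1 :=
  by_contra fun w1 => hy (h.c_eq (zpowers_le.2 (h.mem y) hw) hw' w1 ▸ h.mem y)

theorem not_mem_zp (hy : y ∉ c x) (hw : w ∈ zpowers y) (w1 : w ≠ 1) : w ∉ c x := fun e => w1 (h.zp hy hw e)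

theorem L0 (x1 : x ≠ 1) (e : x * y = y * x) (hy : y ∉ c x) : orderOf y = orderOf x := by
  have h1 : x * y ∉ c x := fun k => hy ((mul_mem_cancel_left (h.mem x)).1 k)
  have h2 : x * y ∉ c y := fun k => hy (h.eq ((mul_mem_cancel_right (h.mem y)).1 k) x1 ▸ h.mem y)
  have h3 : ∀ n, (x * y) ^ n = x ^ n * y ^ n := (show Commute x y from e).mul_pow
  refine Nat.dvd_antisymm (orderOf_dvd_of_pow_eq_one (h.zp h2 ?_ (pow_mem (h.mem y) _)))
    (orderOf_dvd_of_pow_eq_one (h.zp h1 ?_ (pow_mem (h.mem x) _)))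
  · have := pow_mem (mem_zpowers (x * y)) (orderOf x)
    rwa [h3, pow_orderOf_eq_one, one_mul] at this
  · have := pow_mem (mem_zpowers (x * y)) (orderOf y)
    rwa [h3, pow_orderOf_eq_one, mul_one] at this

theorem L1 (x1 : x ≠ 1) (e : x * y = y * x) (hy : y ∉ c x) : (orderOf x).Prime ∧ orderOf y = orderOf x := by
  obtain ⟨a, ha, pa⟩ := exists_prime_pow_elt x1
  have a1 : a ≠ 1 := fun k => by simp [k] at pa; exact Nat.not_prime_one pa
  have := h.L0 a1 (comm_of_zp e ha) (h.eq (zpowers_le.2 (h.mem x) ha) a1 ▸ hy)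
  exact ⟨(h.L0 x1 e hy).symm ▸ this ▸ pa, h.L0 x1 e hy⟩

theorem mem_of_ne (x1 : x ≠ 1) (e : x * y = y * x) (hy : orderOf y ≠ orderOf x) : y ∈ c x :=
  by_contra fun k => hy (h.L0 x1 e k)

theorem mem_N (hw : w ∈ c x) (w1 : w ≠ 1) (e : g * w * g⁻¹ ∈ c x) : g ∈ N(c x) := by
  rw [mem_N_iff_cj, ← h.conj]
  exact h.c_eq (h.conj g x ▸ conj_mem_cj hw) e (mt conj_eq_one_iff'.1 w1)

theorem C1_le_N (hw : w ∈ c x) (w1 : w ≠ 1) : C1(w) ≤ N(c x) := fun g hg =>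
  h.mem_N hw w1 (by rwa [conj_eq_self_of_C1 hg])

theorem N_le_N (hA : A ≤ c x) (A1 : A ≠ ⊥) : N(A) ≤ N(c x) := fun g hg => by
  obtain ⟨w, hw, w1⟩ := exists_mem_ne_one' A1
  exact h.mem_N (hA hw) w1 (hA (conj_mem_N hg hw))

theorem ti (hg : g ∉ N(c x)) : c x ⊓ cj g (c x) = ⊥ := eq_bot_iff.2 fun w hw => by_contra fun w1 => hg (by
  rw [mem_N_iff_cj, ← h.conj]; exact h.c_eq (h.conj g x ▸ hw.2) hw.1 w1)

theorem orderOf_cs (hg : g ∈ N(c x)) (hg' : g ∉ c x) : orderOf (cs (c x) g) = orderOf g :=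
  orderOf_mfun hg (by rw [mker_coset]; exact eq_bot_iff.2 fun w hw => h.zp hg' hw.1 hw.2)

theorem split (hg : g ∈ N(c x)) (hg' : g ∉ c x) (e : g ^ p ∈ c x) : H21.Split p (c x) g := fun k hk => by
  have m := mul_mem (le_N hk) hg
  refine h.zp (fun k' => hg' ((mul_mem_cancel_left hk).1 k')) (pow_mem (mem_zpowers _) p) ?_
  rw [← cs_eq_one_iff (pow_mem m p), mfun_pow m, mfun_mul (le_N hk) hg, cs_eq_one hk, one_mul, ← mfun_pow hg]
  exact cs_eq_one e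

theorem inv (hg : g ∈ N(c x)) (hg' : g ∉ c x) (e : g * g ∈ c x) : ∀ y ∈ c x, g * y * g⁻¹ = y⁻¹ := fun y hy =>
  inv_of_split (h.split hg hg' (by rwa [sq])) hy

theorem fro_or_nil : Fro G ∨ ∀ x, x ≠ 1 → Nil (c x) := by
  by_cases e : ∃ x, x ≠ 1 ∧ N(c x) ≤ c x
  · obtain ⟨x, x1, e⟩ := e
    exact Or.inl ⟨c x, ne_bot_of_mem (h.mem x) x1, h.ne x, fun g hg => h.ti fun k => hg (e k)⟩
  refine Or.inr fun x x1 => ?_
  obtain ⟨g, hg, hg'⟩ := SetLike.not_le_iff_exists.1 fun k => e ⟨x, x1, k⟩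
  obtain ⟨a, ha, pa⟩ := exists_prime_pow_elt (x := g) fun k => hg' (k ▸ one_mem _)
  have a1 : a ≠ 1 := fun k => by simp [k] at pa; exact Nat.not_prime_one pa
  have m := zpowers_le.2 hg ha
  exact H21.kegel pa m (h.split m (h.not_mem_zp hg' ha a1) (pow_orderOf_eq_one a ▸ one_mem _))

theorem L2 (hn : Nil (c x)) (hg : g ∈ N(c x)) (hg' : g ∉ c x) (hr : r.Prime) (h1 : r ∣ orderOf g)
    (h2 : r ∣ Nat.card (c x)) : orderOf g = r := by
  obtain ⟨a, ha, oa⟩ := cauchy hr (card_zpowers' (x := g) ▸ h1)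
  have a1 : a ≠ 1 := fun k => hr.one_lt.ne (by rw [← oa, k, orderOf_one])
  obtain ⟨w, hw, w1⟩ := exists_mem_ne_one' (PiGrp.meet_cent (piGrp_of_prime hr (card_zpowers'.trans oa))
    (pcore_pi (H := c x)) (norm_pcore (zpowers_le.2 (zpowers_le.2 hg ha))) (hn.pcore_hall.ne_bot_p hr h2))
  have wH := pcore_le hw.1
  have e1 : a * w = w * a := mem_C.1 hw.2 a (mem_zpowers a)
  have e2 : a * g = g * a := comm_of_zp rfl ha
  have ga : g ∈ c a := h.eq (zpowers_le.2 (h.mem g) ha) a1 ▸ h.mem g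
  by_cases k : w * g * w⁻¹ ∈ c a
  · have : w * g * w⁻¹ * g⁻¹ = 1 := by_contra fun k' => hg' (h.c_eq (mul_mem k (inv_mem ga)) (by
      rw [show w * g * w⁻¹ * g⁻¹ = w * (g * w⁻¹ * g⁻¹) by group]
      exact mul_mem wH (conj_mem_N hg (inv_mem wH))) k' ▸ ga)
    obtain ⟨p1, p2⟩ := h.L1 w1 (by rwa [mul_inv_eq_one, mul_inv_eq_iff_eq_mul] at this) (h.eq wH w1 ▸ hg')
    exact ((Nat.prime_dvd_prime_iff_eq hr (p2 ▸ p1)).1 h1).symm
  · rw [← orderOf_conj (g := w), h.L0 a1 _ k, oa]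
    calc a * (w * g * w⁻¹) = w * (a * g) * w⁻¹ := by rw [← mul_assoc, ← mul_assoc, e1]; group
      _ = w * g * (w⁻¹ * (w * a) * w⁻¹) := by rw [e2]; group
      _ = _ := by rw [← e1]; group

theorem le_fit (hn : Nil (c x)) (hV : V ≤ c x) (V1 : V ≠ ⊥) (nV : ⊤ ≤ N(V)) :
    ⊤ ≤ N(c x) ∧ c x ≤ F((⊤ : Subgroup G)) :=
  have := nV.trans (h.N_le_N hV V1)
  ⟨this, H18.le_fit ⟨le_top, this⟩ hn⟩

theorem caseA1 (hn : Nil (c x)) (F1 : F((⊤ : Subgroup G)) ≠ ⊥) (hF : F((⊤ : Subgroup G)) ≤ c x) : Hug G ∨ Fro G := by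
  have nH : ⊤ ≤ N(c x) := (h.le_fit hn hF F1 fit_nml.2).1
  have nil : ∀ N : Subgroup G, ⊤ ≤ N(N) → Nil N → N ≤ c x := fun N h1 h2 => (H18.le_fit ⟨le_top, h1⟩ h2).trans hF
  obtain ⟨f, hf, f1⟩ := exists_mem_ne_one' F1
  have CH : C(c x) ≤ c x := by
    by_contra k
    obtain ⟨y, hy, hy'⟩ := SetLike.not_le_iff_exists.1 k
    have k1 : ∀ y ∈ C(c x), y ∉ c x → ∀ w ∈ c x, w ≠ 1 → orderOf y = orderOf w := fun y hy hy' w hw w1 =>
      h.L0 w1 (mem_C.1 hy w hw) (h.eq hw w1 ▸ hy')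
    refine k (nil _ (norm_C nH) (PiGrp.nil (p := orderOf y) (piGrp_of_prime_elt fun w hw pw => ?_)))
    by_cases e : w ∈ c x
    · exact (k1 y hy hy' w e fun k => by simp [k] at pw; exact Nat.not_prime_one pw).symm
    · exact (k1 w hw e f (hF hf) f1).trans (k1 y hy hy' f (hF hf) f1).symm
  by_cases hc : ∀ k ∈ c x, k ≠ 1 → C1(k) ≤ c x
  · exact Or.inr (fro_of nH (ne_bot_of_mem (hF hf) f1) (h.ne x) hc)
  push Not at hc
  obtain ⟨k, hk, k1, hc⟩ := hc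
  obtain ⟨y, hy, hy'⟩ := SetLike.not_le_iff_exists.1 hc
  obtain ⟨pp, oy⟩ := h.L1 k1 (mem_C1.1 hy).symm (h.eq hk k1 ▸ hy')
  have pH : orderOf k ∣ Nat.card (c x) := orderOf_dvd_card hk
  generalize orderOf k = p at pp oy pH
  obtain ⟨s, M, ps, M1, eM, nM⟩ : ∃ (s : ℕ) (M : Subgroup (Coset (c x))), s.Prime ∧ M ≠ ⊥ ∧ Elem s M ∧
      ⊤ ⫽ c x ≤ N(M) := by
    rcases Nat.even_or_odd (Nat.card (⊤ ⫽ c x : Subgroup _)) with e | e
    · obtain ⟨v, hv, v2, v1⟩ := H5.exists_inv_of_even e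
      obtain ⟨u, -, rfl⟩ := (mem_quo nH).1 hv
      have m : ∀ g, g ∈ N(c x) := fun g => nH (mem_top g)
      have u1 : u ∉ c x := fun k => v1 (cs_eq_one k)
      rw [← mfun_mul (m u) (m u), cs_eq_one_iff (m _)] at v2
      refine ⟨2, zpowers (cs (c x) u), Nat.prime_two, by simpa using v1, ⟨abel_zpowers, fun a ha => ?_⟩,
        le_trans (fun g hg => ?_) C1_le_N_zpowers⟩
      · obtain ⟨n, rfl⟩ := ha
        rw [← zpow_natCast, ← zpow_mul, mul_comm, zpow_mul, zpow_natCast, sq, ← mfun_mul (m u) (m u), cs_eq_one v2,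
          one_zpow]
      · obtain ⟨g, -, rfl⟩ := (mem_quo nH).1 hg
        have := CH (mul_mem_C_of_inv (h.inv (m (g * u * g⁻¹)) (fun k => u1 (by simpa [mul_assoc] using conj_mem_N' (m g) k))
          (by simpa [mul_assoc] using conj_mem_N (m g) v2)) (h.inv (m u) u1 v2))
        have k1 := cs_eq_one this
        have k2 := cs_eq_one v2
        rw [mfun_mul (m _) (m _)] at k1 k2
        rw [mfun_conj (m _) (m _), ← k2, mul_left_inj, mul_inv_eq_iff_eq_mul] at k1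
        exact mem_C1.2 k1
    · obtain ⟨s, M, ps, -, M1, eM, nM, -⟩ := (H1.solv_of_odd e).exists_elem_norm
        (fun k => h.ne x (eq_top_iff.2 ((quo_eq_bot_iff nH).1 k))) le_N
      exact ⟨s, M, ps, M1, eM, nM⟩
  have nN : qpre (c x) M ⊴ ⊤ := nml_qpre ⟨le_top, nH⟩ ⟨le_quo_N.trans (mim_mono le_top), nM⟩
  have N1 : ¬ qpre (c x) M ≤ c x := fun k => M1 (by rw [← quo_qpre (U := M)]; exact quo_eq_bot k)
  have HN : c x ≤ qpre (c x) M := le_qpre
  have hN : ∀ n ∈ qpre (c x) M, n ^ s ∈ c x := fun n hn => by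
    rw [← cs_eq_one_iff (nH (mem_top _)), mfun_pow (nH (mem_top _))]; exact eM.pow _ (mem_mpre.1 hn).2
  generalize qpre (c x) M = N at nN N1 HN hN
  have := nN.normal
  have key : ∀ y, y ∉ c x → (orderOf y).Prime → orderOf y ≠ s → p = orderOf y ∨ p = s → False := fun y hy py ys e => by
    have cop := (Nat.coprime_primes py ps).2 ys
    have yN : y ∉ N := fun k => ys ((Nat.prime_dvd_prime_iff_eq py ps).1 (orderOf_dvd_of_pow_eq_one
      (h.zp hy (pow_mem (mem_zpowers y) s) (hN y k))))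
    obtain ⟨n, hn', e1⟩ : ∃ n ∈ N, (n * y) ^ orderOf y ≠ 1 := by
      by_contra! k
      exact N1 (nil N nN.2 (H21.kegel py (nN.2 (mem_top y)) k))
    have q1 : ((n * y : G) : G ⧸ N) = y := by rw [QuotientGroup.mk_mul, (QuotientGroup.eq_one_iff n).2 hn', one_mul]
    have g1 : n * y ∉ c x := fun k => yN ((mul_mem_cancel_left hn').1 (HN k))
    have e2 : (n * y) ^ s ≠ 1 := fun k => yN ((QuotientGroup.eq_one_iff y).1 (by
      have k1 : (y : G ⧸ N) ^ s = 1 := by rw [← q1, ← QuotientGroup.mk_pow, k, QuotientGroup.mk_one]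
      have k2 : (y : G ⧸ N) ^ orderOf y = 1 := by rw [← QuotientGroup.mk_pow, pow_orderOf_eq_one, QuotientGroup.mk_one]
      exact orderOf_eq_one_iff.1 (Nat.eq_one_of_dvd_coprimes cop (orderOf_dvd_of_pow_eq_one k2)
        (orderOf_dvd_of_pow_eq_one k1))))
    have e3 : orderOf (n * y) ∣ orderOf y * s := orderOf_dvd_of_pow_eq_one (h.zp g1 (pow_mem (mem_zpowers _) _) (by
      rw [pow_mul]
      refine hN _ ((QuotientGroup.eq_one_iff _).1 ?_)
      rw [QuotientGroup.mk_pow, q1, ← QuotientGroup.mk_pow, pow_orderOf_eq_one, QuotientGroup.mk_one]))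
    have e4 : p ∣ orderOf (n * y) := by_contra fun k => by
      have cp := ((Nat.Prime.coprime_iff_not_dvd pp).2 k).symm
      rcases e with e | e
      · exact e2 (orderOf_dvd_iff_pow_eq_one.1 ((e ▸ cp).dvd_of_dvd_mul_left e3))
      · exact e1 (orderOf_dvd_iff_pow_eq_one.1 ((e ▸ cp).dvd_of_dvd_mul_right e3))
    have e5 := h.L2 hn (nH (mem_top _)) g1 pp e4 pH
    rcases e with e | e
    · exact e1 (by rw [← e, ← e5, pow_orderOf_eq_one])
    · exact e2 (by rw [← e, ← e5, pow_orderOf_eq_one])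
  refine Or.inl (hug_of pp (h.ne x) fun z hz => ?_)
  by_cases e : p ∣ orderOf z
  · rw [← h.L2 hn (nH (mem_top _)) hz pp e pH, pow_orderOf_eq_one]
  obtain ⟨a, ha, pa⟩ := exists_prime_pow_elt (x := z) fun k => hz (k ▸ one_mem _)
  by_cases e' : p = s
  · refine (key a (h.not_mem_zp hz ha fun k => by simp [k] at pa; exact Nat.not_prime_one pa) pa (fun k => e ?_)
      (Or.inr e')).elim
    rw [e', ← k]; exact orderOf_dvd_of_mem_zpowers ha
  · exact (key y hy' (oy ▸ pp) (oy ▸ e') (Or.inl oy.symm)).elim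

end NP
end H117
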