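import Cfsg.Agent.H17.Part2
import Cfsg.Agent.H22.QW
import Cfsg.Agent.H22.Misc2
import Cfsg.Agent.H10.Small

/-! Groups with a partition, part 2: the Fitting subgroup is non-trivial and lies in no component
(`NP.caseA2`: Hughes subgroup proper, Frobenius group, or `S₄`). -/

set_option autoImplicit false
set_option linter.unusedSectionVars false
set_option linter.unusedVariables false

namespace H117
open Subgroup Cfsg H18 H1
open scoped commutatorElement MatrixGroups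

variable {G : Type*} [Group G] [Finite G] {c : G → Subgroup G} {A H K M N P Q T V : Subgroup G}
  {a b g s t u v w x y z : G} {p q r : ℕ}

theorem ne_one_of_prime (h : (orderOf a).Prime) : a ≠ 1 := fun k => by simp [k] at h; exact Nat.not_prime_one h

theorem piElt_of_ne (ha : (orderOf a).Prime) (h : orderOf a ≠ p) : PiElt {p}ᶜ a := (piNat_prime ha).2 h

theorem exists_inverted (hO : O[{2}]((⊤ : Subgroup G)) = ⊥) (v2 : v * v = 1) (v1 : v ≠ 1) :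
    ∃ y : G, (orderOf y).Prime ∧ orderOf y ≠ 2 ∧ v * y * v⁻¹ = y⁻¹ := by
  by_contra! k
  have := Fact.mk Nat.prime_two
  have := H9.isPGroup_normalClosure_of_pairs (p := 2) (x := v) fun g => by
    have : PiElt {2} (v * (g * v * g⁻¹)) := piGrp_zpowers.1 (piGrp_of_prime_elt fun y hy p => by_contra fun e => by
      obtain ⟨n, rfl⟩ := hy
      exact k _ p e (H9.conj_zpow_of_inverts (H9.left_inverts v2 (H9.conj_sq v2 g)) n))
    obtain ⟨k, hk⟩ := this.eq_pow (orderOf_pos _).ne'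
    exact H9.isPGroup_closure_pair v2 (H9.conj_sq v2 g) (k := k) (hk ▸ pow_orderOf_eq_one _)
  exact v1 (eq_one_of_eq_bot hO (le_pcore nml_top (piGrp_of_isPGroup Nat.prime_two this) (subset_normalClosure rfl)))

theorem norm_mul (hV : Abel V) (hw : w ∈ N(V)) (ha : a ∈ V) (hb : b ∈ V) (n : ℕ) :
    (a * b * w) ^ n = (a * w) ^ n * (w ^ n)⁻¹ * (b * w) ^ n := by
  have k : ∀ b ∈ V, ∀ n : ℕ, (b * w) ^ n * (w ^ n)⁻¹ ∈ V := fun b hb n => by
    induction n with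
    | zero => simp
    | succ n ih =>
      rw [show (b * w) ^ (n + 1) * (w ^ (n + 1))⁻¹ = (b * w) ^ n * (w ^ n)⁻¹ * (w ^ n * b * (w ^ n)⁻¹) by
        rw [pow_succ, pow_succ]; group]
      exact mul_mem ih (conj_mem_N (pow_mem hw n) hb)
  induction n with
  | zero => simp
  | succ n ih =>
    have e := comm_of_cent hV (k b hb n) (conj_mem_N (pow_mem hw n) ha)
    rw [pow_succ, ih, pow_succ, pow_succ, pow_succ]
    generalize (a * w) ^ n = X, (b * w) ^ n = Y, w ^ n = Z at e ⊢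
    calc X * Z⁻¹ * Y * (a * b * w) = X * Z⁻¹ * (Y * Z⁻¹ * (Z * a * Z⁻¹)) * Z * b * w := by group
      _ = _ := by rw [e]; group

/-- the set-up of case A2 -/
structure A2 (c : G → Subgroup G) (P : Subgroup G) (p : ℕ) : Prop extends NP c where
  nil : ∀ x, x ≠ 1 → Nil (c x)
  pp : p.Prime
  pi : PiGrp {p} P
  nP : ⊤ ≤ N(P)
  P1 : P ≠ ⊥
  max : ∀ N : Subgroup G, ⊤ ≤ N(N) → Nil N → N ≤ P
  nc : ∀ x, ¬ P ≤ c x

namespace A2
variable (h : A2 c P p)
include h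

theorem fa (hx : x ∈ P) (x1 : x ≠ 1) (pa : (orderOf a).Prime) (ap : orderOf a ≠ p) : x * a ≠ a * x := fun e => by
  have k : ∀ u ∈ P, orderOf a ≠ orderOf u := fun u hu k => ap ((h.pi.elt hu).eq_of_dvd pa (k ▸ dvd_rfl))
  have aH : a ∈ c x := h.mem_of_ne x1 e (k x hx)
  obtain ⟨u, hu, hu'⟩ := SetLike.exists_of_lt (h.pi.nil.lt_norm (K := P ⊓ c x)
    (lt_of_le_of_ne inf_le_left fun k => h.nc x (inf_eq_left.1 k)))
  have uN : u ∈ N(c x) := h.N_le_N inf_le_right (ne_bot_of_mem ⟨hx, h.mem x⟩ x1) hu.2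
  have aO : a ∈ O[{p}ᶜ](c x) := (h.nil x x1).le_pcore (zpowers_le.2 aH) (piElt_of_ne pa ap).zpowers (mem_zpowers a)
  have e1 : u * a * u⁻¹ * a⁻¹ = 1 := eq_one_of_eq_bot (h.pi.inf_eq_bot (pcore_pi (H := c x))) ⟨by
    rw [show u * a * u⁻¹ * a⁻¹ = u * (a * u⁻¹ * a⁻¹) by group]
    exact mul_mem hu.1 (conj_mem_N (h.nP (mem_top a)) (inv_mem hu.1)),
    O[{p}ᶜ](c x).mul_mem (conj_mem_N (norm_pcore le_rfl uN) aO) (O[{p}ᶜ](c x).inv_mem aO)⟩
  rw [mul_inv_eq_one, mul_inv_eq_iff_eq_mul] at e1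
  exact hu' ⟨hu.1, h.eq aH (ne_one_of_prime pa) ▸ h.mem_of_ne (ne_one_of_prime pa) e1.symm (k u hu.1).symm⟩

theorem hC (b1 : b ≠ 1) (hb : PiElt {p} b) : PiGrp {p} C1(b) := piGrp_of_prime_elt fun a ha pa => by_contra fun ap => by
  have k : orderOf a ≠ orderOf b := fun k => ap (hb.eq_of_dvd pa (k ▸ dvd_rfl))
  obtain ⟨x, hx, x1⟩ := exists_mem_ne_one' (hb.zpowers.meet_cent h.pi (le_top.trans h.nP) h.P1)
  have e1 : b * x = x * b := mem_C.1 hx.2 b (mem_zpowers b)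
  have e2 : b * a = a * b := (mem_C1.1 ha).symm
  have m1 := h.mem_of_ne b1 e2 k
  have m2 : x * a * x⁻¹ ∈ c b := h.mem_of_ne b1 (mem_C1.1 (conj_mem_N (C1_le_N_zpowers.trans N_le_N_C
    (mem_C1.2 e1.symm)) (C_zpowers (x := b) ▸ ha) |> (C_zpowers (x := b)).le)).symm (by rwa [orderOf_conj])
  have m3 : x * a * x⁻¹ * a⁻¹ ∈ P := by
    rw [show x * a * x⁻¹ * a⁻¹ = x * (a * x⁻¹ * a⁻¹) by group]
    exact mul_mem hx.1 (conj_mem_N (h.nP (mem_top a)) (inv_mem hx.1))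
  by_cases e : x * a * x⁻¹ * a⁻¹ = 1
  · exact h.fa hx.1 x1 pa ap (by rwa [mul_inv_eq_one, mul_inv_eq_iff_eq_mul] at e)
  · exact h.fa m3 e pa ap (comm_of_cent ((h.nil b b1).cent_pi (zpowers_le.2 (mul_mem m2 (inv_mem m1)))
      (zpowers_le.2 m1) (h.pi.elt m3).zpowers (piElt_of_ne pa ap).zpowers) (mem_zpowers _) (mem_zpowers _))

theorem elt (hg : p ∣ orderOf g) : PiElt {p} g := by
  obtain ⟨b, hb, ob⟩ := cauchy h.pp (card_zpowers' (x := g) ▸ hg)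
  exact (h.hC (ne_one_of_prime (ob ▸ h.pp)) (by rw [PiElt, ob]; exact piNat_self h.pp)).elt (C1_le_of_mem_zpowers hb C1_self)

theorem CP : C(P) ≤ P := by
  obtain ⟨x, hx, x1⟩ := exists_mem_ne_one' h.P1
  exact h.max _ (norm_C h.nP) ((h.hC x1 (h.pi.elt hx)).of_le (C_le_C1 hx)).nil

theorem fpf (hQ : PiGrp {p}ᶜ Q) (b1 : b ≠ 1) (hb : PiElt {p} b) : Q ⊓ C1(b) = ⊥ :=
  hQ.inf_eq_bot' (h.hC b1 hb)

theorem exists_Q (hi : p ∣ P.index) : ∃ (q : ℕ) (Q : Subgroup G) (x : G), q.Prime ∧ q ≠ p ∧ PiGrp {q} Q ∧ Q ≠ ⊥ ∧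
    x ∈ N(Q) ∧ orderOf x = p := by
  have m : ∀ g, g ∈ N(P) := fun g => h.nP (mem_top g)
  have et : (⊤ : Subgroup G) ⫽ P = ⊤ := eq_top_iff.2 (quo_N.ge.trans (mim_mono le_top))
  have hO : O[{p}]((⊤ : Subgroup (Coset P))) = ⊥ := by
    rw [← et, ← quo_pcore h.nP h.pi]; exact quo_eq_bot (h.max _ pcore_nml.2 pcore_pi.nil)
  have hc : p ∣ Nat.card (⊤ : Subgroup (Coset P)) := by rwa [← et, card_quo h.nP, relIndex_top_right]
  obtain ⟨y, -, oy⟩ := cauchy h.pp hc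
  obtain ⟨q, U, hq, qp, hU, U1, hy⟩ : ∃ (q : ℕ) (U : Subgroup (Coset P)), q.Prime ∧ q ≠ p ∧ PiGrp {q} U ∧ U ≠ ⊥ ∧
      y ∈ N(U) := by
    by_cases p2 : p = 2
    · subst p2
      obtain ⟨a, pa, a2, e⟩ := exists_inverted hO (H9.orderOf_eq_two.1 oy).1 (H9.orderOf_eq_two.1 oy).2
      refine ⟨_, zpowers a, pa, a2, piGrp_of_prime pa card_zpowers', by simpa using ne_one_of_prime pa, ?_⟩
      rw [mem_N_iff_cj, cj_zpowers, e, zpowers_inv]
    have ho : ¬ 2 ∣ Nat.card (⊤ : Subgroup G) := fun k => by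
      obtain ⟨t, -, ot⟩ := cauchy Nat.prime_two k
      have iv : ∀ t : G, orderOf t = 2 → ∀ x ∈ P, t * x * t⁻¹ = x⁻¹ := fun t ot =>
        H22.inverts_of_fpf (H9.mul_self_of_orderOf ot) (m t) fun x hx e => by_contra fun x1 =>
          h.fa hx x1 (ot ▸ Nat.prime_two) (ot ▸ Ne.symm p2) (mul_inv_eq_iff_eq_mul.1 e).symm
      obtain ⟨b, -, rfl⟩ := (mem_quo h.nP).1 (et ▸ mem_top y)
      have k1 := cs_eq_one (h.CP (mul_mem_C_of_inv (iv _ (orderOf_conj (g := b) ▸ ot)) (iv t ot)))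
      have k2 : cs P t * cs P t = 1 := by rw [← mfun_mul (m _) (m _), H9.mul_self_of_orderOf ot, mfun_one]
      rw [mfun_mul (m _) (m _), mfun_conj (m _) (m _), ← k2, mul_left_inj, mul_inv_eq_iff_eq_mul] at k1
      have o2 : orderOf (cs P t) = 2 := H9.orderOf_eq_two.2 ⟨k2, fun k => p2
        ((h.pi.elt ((cs_eq_one_iff (m t)).1 k)).eq_of_dvd Nat.prime_two (ot ▸ dvd_rfl)).symm⟩
      have d := orderOf_mfun_dvd (f := coset P) (m (b * t))
      rw [mfun_mul (m _) (m _), (show Commute _ _ from k1).orderOf_mul_eq_mul_orderOf_of_coprime (by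
        rw [oy, o2]; exact (Nat.coprime_primes h.pp Nat.prime_two).2 p2), oy, o2] at d
      exact p2 ((h.elt ((dvd_mul_right _ _).trans d)).eq_of_dvd Nat.prime_two ((dvd_mul_left _ _).trans d)).symm
    obtain ⟨q, U, hq, -, U1, hU, nU, -⟩ := Solv.exists_elem_norm (K := (⊤ : Subgroup (Coset P))) (A := ⊤)
      (et ▸ (solv_of_two_not_dvd ho).mim) (ne_bot_of_prime_dvd h.pp hc) le_N
    exact ⟨q, U, hq, fun k => U1 (eq_bot_iff.2 (hO ▸ le_pcore ⟨le_top, nU⟩ (k ▸ hU.pi hq))), hU.pi hq, U1,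
      nU (mem_top y)⟩
  obtain ⟨g, -, rfl⟩ := (mem_quo h.nP).1 (et ▸ mem_top y)
  obtain ⟨Q, hQ⟩ := exists_sylow hq (qpre P U)
  have gN : g ∈ N(qpre P U) := norm_mpre (zpowers_le.2 (m g)) (by rw [mim_zpowers (m g)]; exact zpowers_le.2 hy)
    (mem_zpowers g)
  obtain ⟨k, hk, n, hn, rfl⟩ := frattini_elt hq hQ gN
  have pn : p ∣ orderOf n := by_contra fun e => by
    have k1 : cs P k ∈ U := (mem_mpre.1 hk).2
    have k2 : PiGrp {p}ᶜ (U ⊔ zpowers (cs P n)) := PiGrp.sup_norm' (hU.p'_of_ne qp)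
      (PiElt.mfun ((piNat_compl_iff h.pp).2 e) (m n)).zpowers (zpowers_le.2 (by
        rw [mfun_mul (m _) (m _)] at hy; exact (mul_mem_cancel_left (le_N k1)).1 hy))
    have k3 := k2.elt (mul_mem_sup' k1 (mem_zpowers _))
    rw [← mfun_mul (m _) (m _), PiElt, oy] at k3
    exact (piNat_compl_iff h.pp).1 k3 dvd_rfl
  obtain ⟨x, hx, ox⟩ := cauchy h.pp (card_zpowers' (x := n) ▸ pn)
  refine ⟨q, Q, x, hq, qp, hQ.pi, hQ.ne_bot_p hq ?_, zpowers_le.2 hn hx, ox⟩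
  rw [card_qpre]; exact (hU.dvd_card U1).mul_left _

theorem final (hq : q.Prime) (qp : q ≠ p) (hQ : PiGrp {q} Q) (Q1 : Q ≠ ⊥) (xN : x ∈ N(Q)) (ox : orderOf x = p)
    (hV : ∀ v ∈ Z(P), v ^ p = 1) : Nonempty (G ≃* Equiv.Perm (Fin 4)) := by
  have hQ' : PiGrp {p}ᶜ Q := hQ.p'_of_ne qp
  have px : PiElt {p} x := by rw [PiElt, ox]; exact piNat_self h.pp
  have x1 : x ≠ 1 := ne_one_of_prime (ox ▸ h.pp)
  have fx := h.fpf hQ' x1 px
  obtain ⟨y, hy, y1⟩ := exists_mem_ne_one' Q1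
  have m : ∀ g, g ∈ N(P) := fun g => h.nP (mem_top g)
  have PQ : P ⊓ Q = ⊥ := h.pi.inf_eq_bot hQ'
  have cx : ∀ y ∈ Q, y * x * y⁻¹ * x⁻¹ ∈ Q := fun y hy => by
    rw [show y * x * y⁻¹ * x⁻¹ = y * (x * y⁻¹ * x⁻¹) by group]; exact mul_mem hy (conj_mem_N xN (inv_mem hy))
  have cy : y * x * y⁻¹ * x⁻¹ ∉ P := fun k => y1 (eq_one_of_eq_bot fx ⟨hy, mem_C1.2 (by
    have := eq_one_of_eq_bot PQ ⟨k, cx y hy⟩
    rwa [mul_inv_eq_one, mul_inv_eq_iff_eq_mul] at this)⟩)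
  have xP : x ∉ P := fun k => cy (mul_mem (conj_mem_N (m y) k) (inv_mem k))
  have nV : ⊤ ≤ N(Z(P)) := norm_Z h.nP
  have V1 : Z(P) ≠ ⊥ := h.pi.nil.Z_ne_bot h.P1
  have aV : Abel Z(P) := abel_Z
  have VP : Z(P) ≤ P := inf_le_left
  have PV : P ≤ C(Z(P)) := Z_cent
  have ZV : Abel P → P ≤ Z(P) := fun k => k.Z_eq.ge
  generalize Z(P) = V at hV nV V1 aV VP PV ZV
  have pV := h.pi.of_le VP
  have n : ∀ g, g ∈ N(V) := fun g => nV (mem_top g)
  obtain ⟨v, hv, hw⟩ : ∃ v ∈ V, (v * x) ^ p ≠ 1 := by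
    by_contra! k
    have : Nil (V ⊔ Q) := H21.kegel h.pp (norm_sup inf_le_left inf_le_right
      (show x ∈ N(V) ⊓ N(Q) from ⟨n x, xN⟩)) fun u hu => by
      obtain ⟨a, ha, b, hb, rfl⟩ := (mem_sup_of_norm' (le_top.trans nV)).1 hu
      obtain ⟨d, hd, e⟩ := H22.exists_conj_eq_of_fpf xN (fun k hk e => eq_one_of_eq_bot fx ⟨hk, mem_C1.2 e.symm⟩) hb
      rw [mul_assoc, ← e, show a * (d * x * d⁻¹) = d * (d⁻¹ * a * d * x) * d⁻¹ by group, conj_pow,
        k _ (conj_mem_N' (n d) ha), mul_one, mul_inv_cancel]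
    obtain ⟨v, hv, v1⟩ := exists_mem_ne_one' V1
    exact y1 (eq_one_of_eq_bot (h.fpf hQ' v1 (pV.elt hv))
      ⟨hy, C_le_C1 hv (cent_symm (this.cent_pi le_sup_left le_sup_right pV hQ') hy)⟩)
  have wV : (v * x) ^ p ∈ V := by
    rw [← cs_eq_one_iff (n _), mfun_pow (n _), mfun_mul (n _) (n _), cs_eq_one hv, one_mul, ← mfun_pow (n _), ← ox,
      pow_orderOf_eq_one, mfun_one]
  have cw : y * (v * x) * y⁻¹ * (v * x)⁻¹ ∉ P := fun k => cy (by
    have := mul_mem (mul_mem (inv_mem (conj_mem_N (m y) (VP hv))) k) (VP hv)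
    simpa [mul_assoc] using this)
  have cw' : y * (v * x) * y⁻¹ * (v * x)⁻¹ ∈ P ⊔ Q := by
    have := mul_mem (mul_mem_sup' (conj_mem_N (m y) (VP hv)) (cx y hy)) (inv_mem (mem_sup_left (T := Q) (VP hv)))
    simpa [mul_assoc] using this
  have wP : v * x ∉ P := fun k => xP ((mul_mem_cancel_left (VP hv)).1 k)
  generalize v * x = w at hw wV cw cw' wP
  have w1 : w ≠ 1 := fun k => wP (k ▸ one_mem _)
  have wW : w ^ p ∈ c w := pow_mem (h.mem w) p
  have pW : PiGrp {p} (c w) := piGrp_of_prime_elt fun a ha pa => by_contra fun ap =>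
    h.fa (VP wV) hw pa ap (comm_of_cent ((h.nil w w1).cent_pi (zpowers_le.2 wW)
      (zpowers_le.2 ha) (pV.elt wV).zpowers (piElt_of_ne pa ap).zpowers) (mem_zpowers _) (mem_zpowers _))
  have VW : ¬ V ≤ c w := fun k => wP (h.max _ (h.le_fit (h.nil w w1) k V1 nV).1 (h.nil w w1) (h.mem w))
  have VN : V ≤ N(c w) := (aV.trans (C_le_C1 wV)).trans (h.C1_le_N wW hw)
  have two : ∀ a ∈ V, ∀ b ∈ V, a ∉ c w → b ∉ c w → a * b ∈ c w := fun a ha b hb ha' hb' => by_contra fun k => by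
    have sp : ∀ a ∈ V, a ∉ c w → (a * w) ^ p = 1 := fun a ha ha' => by
      rw [show a * w = a * (w * a) * a⁻¹ by group, conj_pow,
        h.split (VN ha) ha' (hV a ha ▸ one_mem _) w (h.mem w), mul_one, mul_inv_cancel]
    have := norm_mul aV (n w) ha hb p
    rw [sp _ (mul_mem ha hb) k, sp a ha ha', sp b hb hb', one_mul, mul_one, eq_comm, inv_eq_one] at this
    exact hw this
  obtain ⟨b, hb, hb'⟩ := SetLike.not_le_iff_exists.1 VW
  have p2 : p = 2 := by_contra fun k => by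
    obtain ⟨j, hj⟩ := h.pp.odd_of_ne_two k
    have := hV b hb
    rw [hj, pow_succ, pow_mul, sq] at this
    exact hb' ((mul_mem_cancel_left (pow_mem (two b hb b hb hb' hb') j)).1 (this ▸ one_mem _))
  subst p2
  have i2 : (c w).relIndex V = 2 := by
    refine index_eq_two_iff.2 ⟨⟨b, hb⟩, fun a => ?_⟩
    simp only [mem_subgroupOf, coe_mul]
    by_cases k : (a : G) ∈ c w
    · exact Or.inr ⟨k, fun k' => hb' ((mul_mem_cancel_left k).1 k')⟩
    · exact Or.inl ⟨two a a.2 b hb k hb', k⟩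
  have ti : (c w ⊓ V) ⊓ cj y (c w ⊓ V) = ⊥ := by
    refine eq_bot_iff.2 ((inf_le_inf inf_le_left (cj_mono inf_le_left)).trans (h.ti fun k => cw ?_).le)
    exact (hall_of_sup h.pi hQ' (Or.inr (le_top.trans h.nP))).mem_of_nml (le_top.trans h.nP) cw'
      (pW.elt (mul_mem (conj_mem_N k (h.mem w)) (inv_mem (h.mem w))))
  have c1 := card_mul_le (A := c w ⊓ V) (B := cj y (c w ⊓ V)) (H := V) inf_le_right (cj_le_of_mem_N inf_le_right (n y))
  have c2 := card_mul_relIndex' (A := c w) (B := V)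
  have c3 := one_lt_card (H := c w ⊓ V) (ne_bot_of_mem ⟨wW, wV⟩ hw)
  rw [ti, card_bot, card_cj, one_mul, ← c2, i2] at c1
  have c4 : Nat.card (c w ⊓ V : Subgroup G) = 2 := le_antisymm (Nat.le_of_mul_le_mul_left c1 card_pos') c3
  rw [c4, i2] at c2
  have e2 : ∀ u ∈ P, u * u = 1 := fun u hu => by_contra fun k => by
    have u1 : u ≠ 1 := fun k' => k (by rw [k', one_mul])
    have : ∀ v ∈ V, v ∈ c u := fun v hv => by_contra fun k' => k (by
      obtain ⟨k1, k2⟩ := h.L1 u1 (mem_C.1 (PV hu) v hv).symm k'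
      exact H9.mul_self_of_orderOf ((h.pi.elt hu).eq_of_dvd k1 dvd_rfl))
    exact hb' (h.c_eq (this _ wV) wW hw ▸ this b hb)
  obtain rfl : V = P := le_antisymm VP (ZV (H5.abel_of_inverted (t := 1) (one_mul 1) fun u hu => by
    rw [one_mul, mul_one, H9.inv_eq_of_mul_self (e2 u hu)]))
  have el : ∀ u ∈ V, u = 1 ∨ u = w ^ 2 ∨ u = b ∨ u = w ^ 2 * b := fun u hu => by
    have k : ∀ u ∈ V, u ∈ c w → u = 1 ∨ u = w ^ 2 := fun u hu hu' => by
      obtain ⟨t, -, ht⟩ := (Nat.card_eq_two_iff' (1 : (c w ⊓ V : Subgroup G))).1 c4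
      by_cases u1 : u = 1
      · exact Or.inl u1
      · exact Or.inr (congrArg Subtype.val ((ht ⟨u, hu', hu⟩ fun k => u1 (congrArg Subtype.val k)).trans
          (ht ⟨w ^ 2, wW, wV⟩ fun k => hw (congrArg Subtype.val k)).symm))
    by_cases k' : u ∈ c w
    · rcases k u hu k' with e | e
      exacts [Or.inl e, Or.inr (Or.inl e)]
    · have bi := H9.inv_eq_of_mul_self (e2 b hb)
      rcases k _ (mul_mem hu hb) (two u hu b hb k' hb') with e | e
      · exact Or.inr (Or.inr (Or.inl (by rw [← bi]; exact eq_inv_of_mul_eq_one_left e)))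
      · exact Or.inr (Or.inr (Or.inr (by rw [← e, mul_assoc, e2 b hb, mul_one])))
  have six : V.relIndex ⊤ ∣ 6 := by
    refine H22.relIndex_dvd_six (Z := ⊥) (a := w ^ 2) (b := b) (c := w ^ 2 * b) (by simp) (fun g _ u hu => ?_)
      fun g _ k1 k2 => h.CP (mem_C.2 fun u hu => ?_)
    · have : u ∈ V ∧ u ≠ 1 := by
        simp only [List.mem_cons, List.not_mem_nil, or_false] at hu
        rcases hu with rfl | rfl | rfl
        exacts [⟨wV, hw⟩, ⟨hb, fun k => hb' (k ▸ one_mem _)⟩,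
          ⟨mul_mem wV hb, fun k => hb' ((mul_mem_cancel_left wW).1 (k ▸ one_mem _))⟩]
      refine ⟨_, ?_, by rw [inv_mul_cancel]; exact one_mem _⟩
      simpa using (el _ (conj_mem_N (m g) this.1)).resolve_left (mt conj_eq_one_iff'.1 this.2)
    · rw [mem_bot, inv_mul_eq_one, eq_comm, mul_inv_eq_iff_eq_mul] at k1 k2
      rcases el u hu with rfl | rfl | rfl | rfl
      exacts [by simp, k1.symm, k2.symm, by rw [mul_assoc, ← k2, ← mul_assoc, ← k1, mul_assoc]]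
  have d1 : 2 ∣ V.relIndex ⊤ := by_contra fun k => xP ((⟨le_top, pV, (piNat_compl_iff Nat.prime_two).2 k⟩ :
    Hall {2} V ⊤).mem_of_nml nV (mem_top x) px)
  have d2 : q ∣ V.relIndex ⊤ := by
    have := card_dvd (le_top : V ⊔ Q ≤ ⊤)
    rw [← H18.card_mul_relIndex (le_top : V ≤ ⊤), Nrm2.card_sup_of_disj (Or.inr (le_top.trans nV)) PQ] at this
    exact (hQ.dvd_card Q1).trans (Nat.dvd_of_mul_dvd_mul_left card_pos' this)
  have q3 : q = 3 := (Nat.prime_dvd_prime_iff_eq hq Nat.prime_three).1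
    (((Nat.coprime_primes hq Nat.prime_two).2 qp).dvd_of_dvd_mul_left (d2.trans six))
  subst q3
  refine H10.equiv_S4_of_no_order_six ?_ fun g hg => ?_
  · rw [← card_top, ← H18.card_mul_relIndex (le_top : V ≤ ⊤), ← c2,
      Nat.dvd_antisymm six ((by norm_num : Nat.Coprime 2 3).mul_dvd_of_dvd_of_dvd d1 d2)]
  · exact absurd ((h.elt (g := g) (hg ▸ by norm_num)).eq_of_dvd Nat.prime_three (hg ▸ by norm_num)) (by norm_num)

end A2

theorem NP.caseA2 (h : NP c) (hn : ∀ x, x ≠ 1 → Nil (c x)) (F1 : F((⊤ : Subgroup G)) ≠ ⊥)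
    (nc : ∀ x, ¬ F((⊤ : Subgroup G)) ≤ c x) : Nonempty (G ≃* Equiv.Perm (Fin 4)) ∨ Hug G ∨ Fro G := by
  have nP : ⊤ ≤ N(F((⊤ : Subgroup G))) := fit_nml.2
  have max : ∀ N : Subgroup G, ⊤ ≤ N(N) → Nil N → N ≤ F((⊤ : Subgroup G)) := fun N h1 h2 => H18.le_fit ⟨le_top, h1⟩ h2
  have nil : Nil F((⊤ : Subgroup G)) := fit_nil
  generalize F((⊤ : Subgroup G)) = P at F1 nc nP max nil
  have k : ∀ z ∈ Z(P), z ≠ 1 → (orderOf z).Prime ∧ ∀ y ∈ P, y ∉ c z → orderOf y = orderOf z := fun z hz z1 => by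
    obtain ⟨y, hy, hy'⟩ := SetLike.not_le_iff_exists.1 (nc z)
    exact ⟨(h.L1 z1 (mem_C.1 hz.2 y hy).symm hy').1, fun y hy hy' => h.L0 z1 (mem_C.1 hz.2 y hy).symm hy'⟩
  obtain ⟨z, hz, z1⟩ := exists_mem_ne_one' (nil.Z_ne_bot F1)
  obtain ⟨pp, k1⟩ := k z hz z1
  obtain ⟨y, hy, hy'⟩ := SetLike.not_le_iff_exists.1 (nc z)
  have pi : PiGrp {orderOf z} P := piGrp_of_prime_elt fun a ha pa => by_contra fun ap => by
    have py : PiElt {orderOf z} y := by rw [PiElt, k1 y hy hy']; exact piNat_self pp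
    have e := comm_of_cent (nil.cent_pi (zpowers_le.2 hy) (zpowers_le.2 ha) py.zpowers (piElt_of_ne pa ap).zpowers)
      (mem_zpowers _) (mem_zpowers _)
    exact hy' (h.c_eq (h.mem_of_ne (fun k : y = 1 => hy' (k ▸ one_mem _)) e (k1 y hy hy' ▸ ap))
      (by_contra fun k => ap (k1 a ha k)) (ne_one_of_prime pa) ▸ h.mem y)
  by_cases PT : P = ⊤
  · exact Or.inr (Or.inl (hug_of pp (h.ne z) fun g hg => by rw [← k1 g (PT ▸ mem_top g) hg, pow_orderOf_eq_one]))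
  have H : A2 c P (orderOf z) := ⟨h, hn, pp, pi, nP, F1, max, nc⟩
  by_cases hi : orderOf z ∣ P.index
  · obtain ⟨q, Q, x, hq, qp, hQ, Q1, xN, ox⟩ := H.exists_Q hi
    refine Or.inl (H.final hq qp hQ Q1 xN ox fun v hv => ?_)
    by_cases v1 : v = 1
    · rw [v1, one_pow]
    · rw [← (pi.elt hv.1).eq_of_dvd (k v hv v1).1 dvd_rfl, pow_orderOf_eq_one]
  · refine Or.inr (Or.inr (fro_of nP F1 PT fun u hu u1 => ?_))
    exact (⟨le_top, pi, (piNat_compl_iff pp).2 (by rwa [relIndex_top_right])⟩ : Hall _ P ⊤).le_of_nml nP le_top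
      (H.hC u1 (pi.elt hu))

end H117
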