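import Cfsg.Agent.H17.TW
import Cfsg.Prelude.Def_HallClasses

/-! Pronormality of overgroups of Sylow subgroups: `SP p H` (all subgroups of `p'`-index in `H` are pronormal in `H`),
`sp_iff`, `sp_quo_iff`, the extension theorem `sp_ext`. -/

set_option autoImplicit false
set_option linter.unusedSectionVars false

namespace H17

open Subgroup Cfsg

variable {G : Type*} [Group G] [Finite G] {p : ℕ} [Fact p.Prime]

/-- `K` is pronormal in `H`. -/
def PN (H K : Subgroup G) : Prop := ∀ g ∈ H, ∃ x ∈ K ⊔ cj g K, cj g K = cj x K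

/-- all overgroups of Sylow `p`-subgroups of `H` are pronormal in `H`. -/
def SP (p : ℕ) (H : Subgroup G) : Prop := ∀ S K : Subgroup G, IsSyl p S H → S ≤ K → K ≤ H → PN H K

/-- the statement form of `SP`. -/
def SPt (p : ℕ) (G : Type*) [Group G] : Prop :=
  ∀ K : Subgroup G, (∃ P : Sylow p G, (P : Subgroup G) ≤ K) → IsPronormal K

theorem map_cj' {G' : Type*} [Group G'] (f : G →* G') (g : G) (K : Subgroup G) :
    (cj g K).map f = cj (f g) (K.map f) := by
  simp only [cj, map_map]; congr 1; ext x; simp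

theorem PN.map {G' : Type*} [Group G'] (f : G →* G') {H K : Subgroup G} (h : PN H K) :
    PN (H.map f) (K.map f) := by
  rintro _ ⟨g, hg, rfl⟩
  obtain ⟨x, hx, e⟩ := h g hg
  refine ⟨f x, ?_, by rw [← map_cj', e, map_cj']⟩
  rw [← map_cj', ← Subgroup.map_sup]
  exact mem_map_of_mem f hx

theorem PN.of_map {G' : Type*} [Group G'] (f : G →* G') {H K : Subgroup G} (hk : f.ker ≤ K)
    (h : PN (H.map f) (K.map f)) : PN H K := fun g hg => by
  obtain ⟨y, hy, e⟩ := h _ (mem_map_of_mem f hg)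
  rw [← map_cj', ← Subgroup.map_sup] at hy
  obtain ⟨x, hx, rfl⟩ := hy
  have hk' : ∀ z, f.ker ≤ cj z K := fun z => by simpa [cj_eq_of_normal] using cj_mono z hk
  refine ⟨x, hx, ?_⟩
  rw [← map_cj', ← map_cj'] at e
  rw [← comap_map_eq_self (hk' g), e, comap_map_eq_self (hk' x)]

theorem pn_top_iff {K : Subgroup G} : PN ⊤ K ↔ IsPronormal K := ⟨fun h g => h g trivial, fun h g _ => h g⟩

theorem spt_iff : SPt p G ↔ SP p (⊤ : Subgroup G) :=
  ⟨fun h _ K hS hK _ => pn_top_iff.2 (h K (hS.exists_sylow_top.imp fun _ e => e.le.trans hK)),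
    fun h K ⟨P, hP⟩ => pn_top_iff.1 (h P K (isSyl_sylow P) hP le_top)⟩

theorem SP.map {G' : Type*} [Group G'] [Finite G'] (f : G →* G') {H : Subgroup G} (h : SP p H) :
    SP p (H.map f) := fun S K hS h1 h2 => by
  obtain ⟨T, hT⟩ := exists_isSyl p H
  obtain ⟨_, ⟨g, hg, rfl⟩, e⟩ := (hT.map f).exists_cj_eq hS
  have h3 := (h (cj g T) (K.comap f ⊓ H) (hT.cj_of_mem_normalizer (le_normalizer hg)) (le_inf
    (map_le_iff_le_comap.1 (by rw [map_cj', e]; exact h1))
    (hT.cj_of_mem_normalizer (le_normalizer hg)).le) inf_le_right).map f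
  have e2 : (K.comap f ⊓ H).map f = K := le_antisymm (map_le_iff_le_comap.2 inf_le_left) fun y hy => by
    obtain ⟨x, hx, rfl⟩ := h2 hy
    exact ⟨x, ⟨hy, hx⟩, rfl⟩
  rwa [e2] at h3

theorem SP.of_map {G' : Type*} [Group G'] [Finite G'] (f : G →* G') {H : Subgroup G} (hk : IsPGroup p f.ker)
    (hH : f.ker ≤ H) (h : SP p (H.map f)) : SP p H := fun _ _ hS h1 h2 =>
  (h _ _ (hS.map f) (map_mono h1) (map_mono h2)).of_map f
    ((hS.le_of_normalizer hk hH le_normalizer_of_normal).trans h1)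

theorem sp_iff {H : Subgroup G} : SPt p H ↔ SP p H := by
  rw [spt_iff]
  refine ⟨fun h => by simpa [← MonoidHom.range_eq_map] using h.map H.subtype, fun h => .of_map H.subtype ?_ le_top ?_⟩
  · rw [ker_subtype]; exact IsPGroup.of_bot
  · simpa [← MonoidHom.range_eq_map] using h

theorem SPt.quo (h : SPt p G) (N : Subgroup G) [N.Normal] : SPt p (G ⧸ N) := by
  have := (spt_iff.1 h).map (QuotientGroup.mk' N)
  rw [map_top_of_surjective _ (QuotientGroup.mk'_surjective N)] at this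
  exact spt_iff.2 this

theorem sp_quo_iff {H T : Subgroup G} [(T.subgroupOf H).Normal] (hT : IsPGroup p T) :
    SPt p (H ⧸ T.subgroupOf H) ↔ SP p H := by
  refine ⟨fun h => sp_iff.1 (spt_iff.2 (.of_map (QuotientGroup.mk' (T.subgroupOf H)) ?_ le_top ?_)),
    fun h => (sp_iff.2 h).quo _⟩
  · rw [QuotientGroup.ker_mk']; exact hT.comap_subtype
  · rw [map_top_of_surjective _ (QuotientGroup.mk'_surjective _)]; exact spt_iff.1 h

theorem PN.of_cj {K : Subgroup G} (a : G) (h : PN ⊤ (cj a K)) : PN ⊤ K := by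
  have := h.map (MulAut.conj a⁻¹).toMonoidHom
  change PN (cj a⁻¹ ⊤) (cj a⁻¹ (cj a K)) at this
  rwa [cj_inv_cj, cj_eq_of_normal] at this

theorem pn_trans {K L : Subgroup G} {y g : G} (hy : y ∈ K ⊔ L) (e : L = cj y (cj g K))
    (h : ∃ z ∈ K ⊔ cj g K, cj g K = cj z K) : ∃ x ∈ K ⊔ L, L = cj x K := by
  obtain ⟨z, hz, e2⟩ := h
  refine ⟨y * z, mul_mem hy ((sup_le le_sup_left ?_ : K ⊔ cj g K ≤ K ⊔ L) hz), by rw [cj_mul, ← e2, e]⟩
  have := cj_mono y⁻¹ (le_sup_right : L ≤ K ⊔ L)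
  rwa [cj_eq_of_mem (inv_mem hy), e, cj_inv_cj, ← e] at this

theorem sp_normalizer {A T : Subgroup G} [A.Normal] (hT : IsSyl p T A) (h : SP p (⊤ : Subgroup G)) :
    SP p (normalizer (T : Set G)) := fun S K hS h1 _ g _ => by
  obtain ⟨P, hP, h2⟩ := exists_isSyl_ge hT.pgroup (le_top : T ≤ ⊤)
  have e : P ⊓ A = T := hT.eq_of_le hP.pgroup.to_inf_left (le_inf h2 hT.le) inf_le_right
  have h3 : P ≤ normalizer (T : Set G) := e ▸ le_normalizer_inf le_normalizer le_normalizer_of_normal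
  exact h S K (hS.trans le_top (by simpa using hP.not_dvd_relIndex h3)) h1 le_top g trivial

theorem pn_A {A T S K : Subgroup G} [A.Normal] (hA : SP p A) (hT : IsSyl p T A)
    (hN : SP p (normalizer (T : Set G))) (hS : IsSyl p S ⊤) (hSK : S ≤ K) (hTS : T ≤ S) : PN A K := by
  intro a ha
  set B := K ⊓ A
  have hTB : T ≤ B := le_inf (hTS.trans hSK) hT.le
  have hKB : K ≤ normalizer (B : Set G) := le_normalizer_inf le_normalizer le_normalizer_of_normal
  obtain ⟨y, hy, e⟩ := hA T B hT hTB inf_le_right a ha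
  have h1 : a⁻¹ * y ∈ normalizer (B : Set G) := by rw [mem_normalizer_iff_cj, cj_mul, ← e, cj_inv_cj]
  obtain ⟨b, hb, hn⟩ := (hT.mono hTB inf_le_right).frattini_mem (inv_mem h1)
  set n := b * (a⁻¹ * y)⁻¹
  have hnB : n ∈ normalizer (B : Set G) := mul_mem (le_normalizer hb) (inv_mem h1)
  have hy' : y ∈ K ⊔ cj a K := sup_le_sup inf_le_left (cj_mono a inf_le_left) hy
  refine pn_trans (y := y * b⁻¹) (g := n) (mul_mem hy' (inv_mem (mem_sup_left hb.1)))
    (by rw [← cj_mul]; congr 1; simp only [n]; group) ?_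
  have eS : S ⊓ A = T := hT.eq_of_le hS.pgroup.to_inf_left (le_inf hTS hT.le) inf_le_right
  have h3 : S ≤ normalizer (T : Set G) := eS ▸ le_normalizer_inf le_normalizer le_normalizer_of_normal
  obtain ⟨w, hw, e2⟩ := hN S (K ⊓ normalizer (T : Set G)) (hS.mono h3 le_top) (le_inf hSK h3) inf_le_right n hn
  have hwB : w ∈ normalizer (B : Set G) := by
    refine sup_le (inf_le_left.trans hKB) ?_ hw
    have := cj_mono n ((inf_le_left : K ⊓ normalizer (T : Set G) ≤ K).trans hKB)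
    rwa [cj_normalizer, mem_normalizer_iff_cj.1 hnB] at this
  refine ⟨w, sup_le_sup inf_le_left (cj_mono n inf_le_left) hw, ?_⟩
  have e3 := (hT.mono hTB inf_le_right).frattini inf_le_left hKB
  rw [e3, cj_sup, cj_sup, e2, mem_normalizer_iff_cj.1 hnB, mem_normalizer_iff_cj.1 hwB]

theorem sp_ext {A T : Subgroup G} [A.Normal] (hA : SP p A) (hQ : SPt p (G ⧸ A)) (hT : IsSyl p T A)
    (hN : SP p (normalizer (T : Set G)))
    (hn : ∀ S K, IsSyl p S ⊤ → S ≤ K → normalizer ((K ⊔ A : Subgroup G) : Set G) ≤ A ⊔ normalizer (K : Set G)) :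
    SP p (⊤ : Subgroup G) := by
  have key : ∀ S K : Subgroup G, IsSyl p S ⊤ → S ≤ K → T ≤ S → PN ⊤ K := fun S K hS hSK hTS g _ => by
    have hs : (⊤ : Subgroup G).map (QuotientGroup.mk' A) = ⊤ := map_top_of_surjective _ (QuotientGroup.mk'_surjective A)
    obtain ⟨_, hy, e⟩ := spt_iff.1 hQ _ _ (hs ▸ hS.map (QuotientGroup.mk' A)) (map_mono hSK) le_top
      (QuotientGroup.mk' A g) trivial
    rw [← map_cj', ← Subgroup.map_sup] at hy
    obtain ⟨y, hy, rfl⟩ := hy
    rw [← map_cj', ← map_cj'] at e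
    have e2 := congrArg (comap (QuotientGroup.mk' A)) e
    rw [comap_map_eq, comap_map_eq, QuotientGroup.ker_mk'] at e2
    have h1 : y⁻¹ * g ∈ normalizer ((K ⊔ A : Subgroup G) : Set G) := by
      rw [mem_normalizer_iff_cj, cj_mul, cj_sup g, cj_eq_of_normal g A, e2, cj_sup, cj_inv_cj, cj_eq_of_normal _ A]
    obtain ⟨a, ha, n, hn', e3⟩ := mem_sup_of_normal_left.1 (hn S K hS hSK h1)
    refine pn_trans (g := a) hy ?_ (pn_A hA hT hN hS hSK hTS a ha)
    have e4 : cj a K = cj (y⁻¹ * g) K := by rw [← e3, cj_mul, mem_normalizer_iff_cj.1 hn']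
    rw [e4, ← cj_mul, mul_inv_cancel_left]
  intro S K hS hSK _
  obtain ⟨a, -, e⟩ := (hS.inf_normal le_top (le_normalizer_of_normal (H := A))).exists_cj_eq hT
  exact (key _ _ (hS.cj_of_mem_normalizer (by simp)) (cj_mono a hSK) (e ▸ cj_mono a inf_le_left)).of_cj a

theorem normalizer_map_iff {A K : Subgroup G} [A.Normal] :
    (normalizer (K : Set G)).map (QuotientGroup.mk' A) =
      normalizer ((K.map (QuotientGroup.mk' A) : Subgroup (G ⧸ A)) : Set (G ⧸ A)) ↔
    normalizer ((K ⊔ A : Subgroup G) : Set G) ≤ A ⊔ normalizer (K : Set G) := by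
  have e : (normalizer ((K.map (QuotientGroup.mk' A) : Subgroup (G ⧸ A)) : Set (G ⧸ A))).comap
      (QuotientGroup.mk' A) = normalizer ((K ⊔ A : Subgroup G) : Set G) := by
    rw [comap_normalizer_eq_of_surjective _ (QuotientGroup.mk'_surjective A), comap_map_eq, QuotientGroup.ker_mk']
  rw [← (comap_injective (QuotientGroup.mk'_surjective A)).eq_iff, e, comap_map_eq, QuotientGroup.ker_mk', sup_comm]
  exact ⟨fun h => h.ge, fun h => le_antisymm (sup_le (le_sup_right.trans le_normalizer)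
    (le_normalizer_sup le_rfl le_normalizer_of_normal)) h⟩

theorem SP.norm_sup {A S K : Subgroup G} [A.Normal] (h : SP p (⊤ : Subgroup G)) (hS : IsSyl p S ⊤) (hSK : S ≤ K) :
    normalizer ((K ⊔ A : Subgroup G) : Set G) ≤ A ⊔ normalizer (K : Set G) := fun g hg => by
  obtain ⟨x, hx, e⟩ := h S K hS hSK le_top g trivial
  have h1 : x ∈ K ⊔ A := by
    refine (sup_le le_sup_left ?_ : K ⊔ cj g K ≤ K ⊔ A) hx
    rw [← mem_normalizer_iff_cj.1 hg]; exact cj_mono g le_sup_left
  have h2 : x⁻¹ * g ∈ normalizer (K : Set G) := by rw [mem_normalizer_iff_cj, cj_mul, e, cj_inv_cj]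
  simpa using mul_mem (sup_le (le_normalizer.trans le_sup_right) le_sup_left h1 :
    x ∈ A ⊔ normalizer (K : Set G)) (mem_sup_right h2)

theorem abnormal {S K : Subgroup G} (h : ∀ P : Sylow p G, normalizer ((P : Subgroup G) : Set G) = P)
    (hS : IsSyl p S ⊤) (hSK : S ≤ K) (g : G) : g ∈ K ⊔ cj g K := by
  obtain ⟨x, hx, e⟩ := (hS.mono (hSK.trans le_sup_left) le_top).exists_cj_eq
    ((hS.cj_of_mem_normalizer (g := g) (by simp)).mono ((cj_mono g hSK).trans le_sup_right) le_top)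
  have h2 : x⁻¹ * g ∈ normalizer (S : Set G) := by rw [mem_normalizer_iff_cj, cj_mul, ← e, cj_inv_cj]
  obtain ⟨P, rfl⟩ := hS.exists_sylow_top
  rw [h P] at h2
  simpa using mul_mem hx (mem_sup_left (hSK h2))

end H17
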