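import Cfsg.Agent.H17.DJ2
import Cfsg.Agent.H17.Mann
import Cfsg.Agent.S4160

/-! Centreless groups with three non-trivial class sizes, part 1: relative forms of Camina's and Mann's lemmas
(`solv_of_cam`, `mann_rel`), maximal centralizers with a unique larger multiple class size (`TY G m d`). -/

set_option autoImplicit false
set_option linter.unusedSectionVars false
set_option linter.unusedVariables false

namespace H117
open Subgroup Cfsg H18 H1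
open scoped commutatorElement

variable {G : Type*} [Group G] [Finite G] {A B D H K L M N P Q T U V Y : Subgroup G}
  {a b c g g' s t u v w x y z : G} {p q r k m n d : ℕ} {π : Set ℕ}

theorem C1_sub (x : L) : C1(x).index = C1((x : G)).relIndex L := by
  rw [relIndex]; congr 1; ext y; simp [mem_C1, mem_subgroupOf, Subtype.ext_iff]

theorem solv_of_abel_idx (hp : p.Prime) (hA : Abel A) (h : PiNat {p} (A.relIndex L)) : Solv L :=
  Cfsg.Agent.S4034.solv2 hp L ⟨A.subgroupOf L, by rw [← mim_id]; exact hA.mim, h⟩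

theorem solv_of_two (hp : p.Prime) (hq : q.Prime) (h : ∀ v ∈ L, PiElt {p, q}ᶜ v → L ≤ C1(v)) : Solv L := by
  refine solv_of_quo nml_Z.norm (H21.solv_paqb hp hq ((piGrp_quo_iff nml_Z.norm).2 fun t pt ht => by_contra fun e => ?_))
    abel_Z.solv
  obtain ⟨u, hu, pu, u1⟩ := (exists_nc pt nml_Z).1 ht
  exact u1 ⟨hu, le_C1_iff.1 (h u hu (pu.of_p e))⟩

theorem solv_of_cam (pp : p.Prime) (h : ∀ v ∈ L, PiElt {p}ᶜ v → ¬ L ≤ C1(v) → C1(v).relIndex L = k) : Solv L := by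
  rcases cam1 pp h with ⟨A, h1, h2⟩ | ⟨q, pq, -, h1⟩
  · exact solv_of_abel_idx pp h1 h2.idx.of_compl_compl
  · exact solv_of_two pp pq h1

theorem mann_rel (hV : V ⊴ L) (hA : Abel V) (ht : t ∈ V) (hx : x ∈ L) (e : ¬ L ≤ C1(x)) :
    C1(⁅t, x⁆).relIndex L < C1(x).relIndex L := by
  have := hV.subgroupOf_normal
  have := mann (G := L) (K := V.subgroupOf L) (t := ⟨t, hV.le ht⟩) (x := ⟨x, hx⟩) (by rw [← mim_id]; exact hA.mim) ht
    (by rw [C1_sub]; exact mt relIndex_eq_one_iff.1 e)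
  rwa [C1_sub, C1_sub] at this

theorem exists_pcentral (hp : p.Prime) (hv : v ∈ L) (pv : PiElt {p} v) (h : p ∣ Nat.card L) :
    ∃ z ∈ L, z ∈ C1(v) ∧ z ≠ 1 ∧ PiElt {p} z ∧ ¬ p ∣ C1(z).relIndex L := by
  obtain ⟨P, hP, hv'⟩ := exists_sylow_le hp pv.zpowers (zpowers_le.2 hv)
  obtain ⟨z, hz, z1⟩ := exists_mem_ne_one' (hP.pi.nil.Z_ne_bot (hP.ne_bot_p hp h))
  exact ⟨z, hP.le hz.1, C_le_C1 (hv' (mem_zpowers v)) hz.2, z1, hP.pi.elt hz.1,
    (piNat_compl_iff hp).1 (hP.idx_of_le (le_C1_iff.2 hz.2))⟩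

theorem exists_dvd_idx (hZ : C((⊤ : Subgroup G)) = ⊥) (hp : p.Prime) (h : p ∣ Nat.card G) : ∃ g : G, p ∣ C1(g).index := by
  by_contra! k
  obtain ⟨P, hP⟩ := exists_sylow hp (⊤ : Subgroup G)
  refine hP.ne_bot_p hp (card_top (G := G) ▸ h) (eq_bot_iff.2 (hZ ▸ cent_symm (eq_of_forall_cj le_top fun x _ => ?_).ge))
  obtain ⟨S, hS, le⟩ := exists_sylow_le_of_not_dvd hp (K := C1(x)) (L := ⊤) le_top (by rw [relIndex_top_right]; exact k x)
  obtain ⟨g, hg, rfl⟩ := sylow_conj hp hP hS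
  exact ⟨g, hg, by rw [cj_C]; exact le_C1_iff.1 le⟩

theorem hall_of_pnil (h : ∀ p ∈ π, p.Prime → HasNormalPComplement p G) : Hall πᶜ O[πᶜ]((⊤ : Subgroup G)) ⊤ := by
  refine hall_of_sylows le_top pcore_pi fun t pt ht _ => ?_
  obtain ⟨T, hT⟩ := exists_sylow pt (⊤ : Subgroup G)
  refine ⟨T, hT, le_trans ?_ (le_pcore (K := ⨅ r : {r // r ∈ π ∧ r.Prime}, O[{(r : ℕ)}ᶜ]((⊤ : Subgroup G)))
    ⟨le_top, norm_iInf fun r => pcore_nml.norm⟩ fun s ps hs => (Set.mem_compl_iff _ _).2 fun hm => ?_)⟩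
  · exact le_iInf fun r => ((hasNormalPComplement_top_iff' r.2.2).1 (h r r.2.1 r.2.2)).le_pcore le_top
      (hT.pi.p'_of_ne fun e => ht (e ▸ r.2.1))
  · exact (piNat_compl_iff ps).1 (pcore_pi.of_le (iInf_le _ (⟨s, hm, ps⟩ : {r // r ∈ π ∧ r.Prime}))) hs

theorem solv_of_sup (hN : Hall πᶜ N ⊤) (nN : ⊤ ≤ N(N)) (sN : Solv N) (sD : Solv D) (h : PiNat πᶜ D.index) :
    Solv (⊤ : Subgroup G) := by
  rw [← hN.sup_of_idx (K := D) le_top (by rwa [relIndex_top_right]), sup_comm]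
  exact sD.sup_norm sN (le_top.trans nN)

theorem exists_nc_rel (hq : q.Prime) (hx : x ∈ L) (e : C1(x).relIndex L = C1(w).relIndex L) (hw : w ∈ L)
    (pw : PiElt {q} w) (w1 : ¬ L ≤ C1(w)) : ∃ u ∈ L ⊓ C1(x), PiElt {q} u ∧ ¬ L ≤ C1(u) := by
  have n : ∀ x ∈ L, Z(L) ⊴ L ⊓ C1(x) := fun x hx => nml_Z.of_le (inf_le_inf_left _ (C_le_C1 hx)) inf_le_left
  have t : ∀ x ∈ L, Z(L).relIndex (L ⊓ C1(x)) * C1(x).relIndex L = Z(L).relIndex L := fun x hx => by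
    rw [← relIndex_inf_left (A := C1(x))]; exact relIndex_tower (n x hx).le inf_le_left
  have k := (exists_nc hq (n w hw)).2 ⟨w, ⟨hw, C1_self⟩, pw, fun k => w1 (le_C1_iff.2 k.2)⟩
  have e' := t x hx
  rw [← t w hw, e] at e'
  obtain ⟨u, hu, pu, u1⟩ := (exists_nc hq (n x hx)).1 (Nat.eq_of_mul_eq_mul_right relIndex_pos e' ▸ k)
  exact ⟨u, hu, pu, fun k => u1 ⟨hu.1, le_C1_iff.1 k⟩⟩

structure TY (G : Type*) [Group G] (m d : ℕ) : Prop where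
  up : ∀ g : G, g ≠ 1 → m ∣ C1(g).index → C1(g).index = m ∨ C1(g).index = m * d
  dn : ∀ g : G, g ≠ 1 → C1(g).index ∣ m → C1(g).index = m

namespace TY
variable (h : TY G m d)
include h

theorem max (ex : C1(x).index = m) (g1 : g ≠ 1) (le : C1(x) ≤ C1(g)) : C1(g) = C1(x) :=
  (eq_of_index le (by rw [h.dn g g1 (ex ▸ index_dvd_of_le le), ex])).symm

theorem rel (ex : C1(x).index = m) (x1 : x ≠ 1) (px : PiElt π x) (hv : v ∈ C1(x)) (pv : PiElt πᶜ v)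
    (e : ¬ C1(x) ≤ C1(v)) : C1(v).relIndex C1(x) = d := by
  have e1 := C1_mul (mem_C1.1 hv).symm px pv
  have e2 := relIndex_mul_index (e1.le.trans inf_le_left)
  have m0 : 0 < m := ex ▸ Nat.pos_of_ne_zero index_ne_zero_of_finite
  rw [ex] at e2
  rcases h.up (x * v) (not_mem_mul (K := ⊥) (mem_C1.1 hv).symm px pv x1) (e2 ▸ dvd_mul_left _ _) with k | k
  · exact (e ((eq_of_index (e1.le.trans inf_le_left) (by rw [k, ex])).ge.trans (e1.le.trans inf_le_right))).elim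
  · rw [k, e1, relIndex_inf_left, mul_comm] at e2
    exact Nat.eq_of_mul_eq_mul_left m0 e2

theorem part (ex : C1(x).index = m) (x1 : x ≠ 1) : ∃ r : ℕ, r.Prime ∧ ∃ a, a ≠ 1 ∧ PiElt {r} a ∧ C1(a) = C1(x) := by
  obtain ⟨r, pr, a, ha, pa, a1⟩ := exists_part (K := ⊥) x1
  exact ⟨r, pr, a, a1, pa, h.max ex a1 (C1_le_of_mem_zpowers ha)⟩

theorem T4 (ex : C1(x).index = m) (x1 : x ≠ 1) (hq : q.Prime) (h1 : q ∣ d) (h2 : q ∣ Nat.card C1(x)) :
    ∃ a, a ≠ 1 ∧ PiElt {q} a ∧ C1(a) = C1(x) := by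
  obtain ⟨r, pr, a, a1, pa, e⟩ := h.part ex x1
  by_cases k : r = q
  · exact ⟨a, a1, k ▸ pa, e⟩
  obtain ⟨z, hz, -, z1, pz, k'⟩ := exists_pcentral hq (one_mem C1(x)) PiElt.one h2
  refine ⟨z, z1, pz, h.max ex z1 (by_contra fun c => k' ?_)⟩
  rw [← e] at c hz ⊢
  rwa [h.rel (e ▸ ex) a1 pa hz (pz.p'_of_ne (Ne.symm k)) c]

theorem stepA (ex : C1(x).index = m) (x1 : x ≠ 1) : Abel C1(x) ∨ (∃ r : ℕ, r.Prime ∧ PiGrp {r} C1(x)) ∨
    ∃ v ∈ C1(x), ¬ C1(x) ≤ C1(v) ∧ C1(v).relIndex C1(x) = d := by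
  obtain ⟨r, pr, a, a1, pa, e⟩ := h.part ex x1
  rw [← e] at ex ⊢
  by_contra! k
  obtain ⟨k1, k2, k3⟩ := k
  have c : ∀ v ∈ C1(a), PiElt {r}ᶜ v → C1(a) ≤ C1(v) := fun v hv pv => by_contra fun e =>
    k3 v hv e (h.rel ex a1 pa hv pv e)
  obtain ⟨s, ps, hs, sr⟩ := exists_prime_not_mem (k2 r pr)
  obtain ⟨b, hb, ob⟩ := cauchy ps hs
  have pb : PiElt {s} b := by rw [PiElt, ob]; exact piNat_self ps
  have b1 : b ≠ 1 := ne_one_of_prime (ob ▸ ps)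
  have eb := h.max ex b1 (c b hb (pb.p'_of_ne sr))
  refine k1 fun v hv => le_C1_iff.1 (cent_of_parts (π := {r}) (by_contra fun e => ?_) (c _ (piPart_mem hv) piElt_piPart))
  refine k3 _ (piPart_mem hv) e ?_
  rw [← eb] at e hv ex ⊢
  exact h.rel ex b1 pb (piPart_mem hv) (piElt_piPart.p'_of_ne (Ne.symm sr)) e

end TY
end H117
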