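import Cfsg.Agent.H17.R3a

/-! Centreless groups with three non-trivial class sizes, part 2: if two centralizers are properly contained in each other,
the group is solvable (`R3.solv`). -/

set_option autoImplicit false
set_option linter.unusedSectionVars false
set_option linter.unusedVariables false

namespace H117
open Subgroup Cfsg H18 H1
open scoped commutatorElement

variable {G : Type*} [Group G] [Finite G] {A B D H K L M N P Q T U V Y : Subgroup G}
  {a b c g g' s t u v w x y z : G} {p q r k m n d : ℕ} {π : Set ℕ}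

structure R3 (m d n : ℕ) (x y : G) : Prop where
  Zb : C((⊤ : Subgroup G)) = ⊥
  idx : ∀ g : G, g ≠ 1 → C1(g).index = m ∨ C1(g).index = m * d ∨ C1(g).index = n
  x1 : x ≠ 1
  lt : C1(y) < C1(x)
  ex : C1(x).index = m
  ey : C1(y).relIndex C1(x) = d
  ns : ¬ Solv (⊤ : Subgroup G)

namespace R3
variable (h : R3 m d n x y)
include h

theorem ne1 (g1 : g ≠ 1) : C1(g).index ≠ 1 := fun k => g1 (eq_one_of_eq_bot h.Zb (C1_index_eq_one.1 k))
theorem hm : 1 < m := h.ex ▸ lt_of_le_of_ne (Nat.pos_of_ne_zero index_ne_zero_of_finite) (h.ne1 h.x1).symm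
theorem hd : 1 < d := h.ey ▸ one_lt_relIndex h.lt.not_ge
theorem dD : d ∣ Nat.card C1(x) := h.ey ▸ relIndex_dvd
theorem mG : m ∣ Nat.card G := h.ex ▸ index_dvd_card _
theorem yx : y ∈ C1(x) := h.lt.le C1_self

theorem exb (pp : p.Prime) (hp : p ∣ m) : ∃ b : G, b ≠ 1 ∧ PiElt {p} b ∧ C1(b).index = n ∧ ¬ p ∣ n := by
  obtain ⟨z, -, -, z1, pz, k⟩ := exists_pcentral pp (mem_top (1 : G)) PiElt.one (card_top (G := G) ▸ hp.trans h.mG)
  rw [relIndex_top_right] at k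
  rcases h.idx z z1 with e | e | e
  · exact (k (e ▸ hp)).elim
  · exact (k (e ▸ hp.mul_right _)).elim
  · exact ⟨z, z1, pz, e, e ▸ k⟩

theorem cop : m.Coprime n := Nat.coprime_of_dvd fun p pp hp => (h.exb pp hp).choose_spec.2.2.2

theorem hn : 1 < n := by
  obtain ⟨p, pp, hp⟩ := Nat.exists_prime_and_dvd h.hm.ne'
  obtain ⟨b, b1, -, e, -⟩ := h.exb pp hp
  exact e ▸ lt_of_le_of_ne (Nat.pos_of_ne_zero index_ne_zero_of_finite) (h.ne1 b1).symm

theorem mn : ¬ m ∣ n := fun k => h.hm.ne' (Nat.Coprime.eq_one_of_dvd h.cop k)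
theorem nm : ¬ n ∣ m := fun k => h.hn.ne' (Nat.Coprime.eq_one_of_dvd h.cop.symm k)

theorem ty1 : TY G m d := ⟨fun g g1 k => by
    rcases h.idx g g1 with e | e | e
    exacts [Or.inl e, Or.inr e, (h.mn (e ▸ k)).elim], fun g g1 k => by
    rcases h.idx g g1 with e | e | e
    · exact e
    · have := Nat.le_of_dvd (by have := h.hm; omega) (e ▸ k); have := h.hm; have := h.hd; nlinarith
    · exact (h.nm (e ▸ k)).elim⟩

theorem ty2 (e : n * k = m * d ∨ ¬ n ∣ m * d) : TY G n k := ⟨fun g g1 c => by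
    rcases h.idx g g1 with e' | e' | e'
    · exact (h.nm (e' ▸ c)).elim
    · exact Or.inr (e'.trans (e.resolve_right (not_not.2 (e' ▸ c))).symm)
    · exact Or.inl e', fun g g1 c => by
    rcases h.idx g g1 with e' | e' | e'
    · exact (h.mn (e' ▸ c)).elim
    · exact (h.mn ((dvd_mul_right m d).trans (e' ▸ c))).elim
    · exact e'⟩

theorem min (e : C1(v).index = m * d) (le : C1(w) ≤ C1(v)) : C1(w) = C1(v) := by
  have w1 : w ≠ 1 := fun k => by
    rw [k, C1_one, top_le_iff] at le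
    rw [le, index_top] at e
    have := h.hm; have := h.hd; nlinarith
  have k := index_dvd_of_le le
  rw [e] at k
  refine eq_of_index le ?_
  rcases h.ty1.up w w1 ((dvd_mul_right m d).trans k) with e' | e'
  · have := h.hm; have := h.hd; rw [e', e]; nlinarith
  · rw [e', e]

theorem three (hq : q.Prime) (hr : r.Prime) : ∃ p : ℕ, p.Prime ∧ p ≠ q ∧ p ≠ r ∧ p ∣ Nat.card G ∧ (p ∣ m ∨ p ∣ d ∨ p ∣ n) := by
  obtain ⟨p, pp, hp, k⟩ := exists_prime_not_mem (mt (H21.solv_paqb hq hr) h.ns)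
  simp only [Set.mem_insert_iff, Set.mem_singleton_iff, not_or] at k
  rw [card_top] at hp
  obtain ⟨g, hg⟩ := exists_dvd_idx h.Zb pp hp
  refine ⟨p, pp, k.1, k.2, hp, ?_⟩
  rcases h.idx g (fun e => pp.not_dvd_one (by simpa [e] using hg)) with e | e | e <;> rw [e] at hg
  · exact Or.inl hg
  · exact ((Nat.Prime.dvd_mul pp).1 hg).imp_right Or.inl
  · exact Or.inr (Or.inr hg)

theorem cent (hq : q.Prime) (h1 : q ∣ d) : ∃ a, a ≠ 1 ∧ PiElt {q} a ∧ C1(a) = C1(x) :=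
  h.ty1.T4 h.ex h.x1 hq h1 (h1.trans h.dD)

theorem rel (hq : q.Prime) (h1 : q ∣ d) : ∀ v ∈ C1(x), PiElt {q}ᶜ v → ¬ C1(x) ≤ C1(v) → C1(v).relIndex C1(x) = d := by
  obtain ⟨a, a1, pa, e⟩ := h.cent hq h1
  intro v hv pv k
  rw [← e] at hv k ⊢
  exact h.ty1.rel (e ▸ h.ex) a1 pa hv pv k

theorem solvD : Solv C1(x) := by
  obtain ⟨q, hq, h1⟩ := Nat.exists_prime_and_dvd h.hd.ne'
  exact solv_of_cam hq (h.rel hq h1)

theorem T3 : ∃ q : ℕ, q.Prime ∧ PiNat {q} d := by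
  obtain ⟨q, hq, qd⟩ := Nat.exists_prime_and_dvd h.hd.ne'
  refine ⟨q, hq, by_contra fun nq => ?_⟩
  obtain ⟨t, ht, tq, c0⟩ := (cam2 hq (h.rel hq qd)).resolve_left nq
  have pd : PiNat {q, t} d := h.ey ▸ piNat_of_cent c0 h.yx
  have td : t ∣ d := by
    obtain ⟨s, ps, hs, k⟩ := exists_prime_not_mem nq
    exact ((pd s ps hs).resolve_left k) ▸ hs
  have oth : ∀ s : ℕ, ∃ u : ℕ, u.Prime ∧ u ∣ d ∧ u ≠ s := fun s => by
    by_cases e : s = q
    exacts [⟨t, ht, td, e ▸ tq⟩, ⟨q, hq, qd, Ne.symm e⟩]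
  have pri : ∀ (s : ℕ), ∀ w ∈ C1(x), PiElt {s} w → ¬ C1(x) ≤ C1(w) → C1(w).relIndex C1(x) = d := fun s w hw pw e => by
    obtain ⟨u, pu, ud, us⟩ := oth s
    exact h.rel pu ud w hw (pw.p'_of_ne us.symm) e
  have nc : ∀ u : ℕ, u.Prime → u ∣ d → ∃ w ∈ C1(x), PiElt {u} w ∧ ¬ C1(x) ≤ C1(w) := fun u pu ud => by
    obtain ⟨w, hw, pw, w1⟩ := (exists_nc pu (nml_Z (H := C1(x)))).1
      (ud.trans (h.ey ▸ relIndex_dvd_left (inf_le_right.trans (C_le_C1 h.yx))))
    exact ⟨w, hw, pw, fun k => w1 ⟨hw, le_C1_iff.1 k⟩⟩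
  have e1 : ∀ (s : ℕ), ∀ v ∈ C1(x), PiElt {s} v → ¬ C1(x) ≤ C1(v) →
      ∃ u : ℕ, u ≠ s ∧ ∃ w ∈ C1(x), PiElt {u} w ∧ ¬ C1(x) ≤ C1(w) ∧ C1(x) ⊓ C1(v) ≤ C1(w) := fun s v hv pv e => by
    obtain ⟨u, pu, ud, us⟩ := oth s
    obtain ⟨c, c1, pc, ec⟩ := h.cent pu ud
    have cv : c ∈ C1(v) := mem_C1_comm.1 (ec.ge hv)
    have v1 : v ≠ 1 := fun k => e (by simp [k])
    have i : (C1(x) ⊓ C1(v)).index = m * d := by
      rw [← relIndex_mul_index inf_le_left, relIndex_inf_left, pri s v hv pv e, h.ex, mul_comm]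
    have fin : (∃ u : ℕ, u ≠ s ∧ ∃ a, a ≠ 1 ∧ PiElt {u} a ∧ C1(a) = C1(v)) → _ := fun ⟨u, us, a, a1, pa, ea⟩ =>
      (⟨u, us, a, ec.le (mem_C1_comm.1 (ea.ge cv)), pa, ea ▸ e, ea ▸ inf_le_right⟩ :
        ∃ u : ℕ, u ≠ s ∧ ∃ w ∈ C1(x), PiElt {u} w ∧ ¬ C1(x) ≤ C1(w) ∧ C1(x) ⊓ C1(v) ≤ C1(w))
    rcases h.idx v v1 with k | k | k
    · exact fin ⟨u, us, h.ty1.T4 k v1 pu ud ((pc.zpowers.dvd_card (by simpa using c1)).trans (card_dvd (zpowers_le.2 cv)))⟩
    · obtain ⟨w, hw, pw, w1⟩ := nc u pu ud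
      obtain ⟨z, hz, pz, z1⟩ := exists_nc_rel pu hv ((pri s v hv pv e).trans (pri u w hw pw w1).symm) hw pw w1
      have e2 := C1_mul (mem_C1.1 hz.2).symm pv (pz.p'_of_ne us)
      exact ⟨u, us, z, hz.1, pz, z1, inf_le_right.trans ((h.min k (e2.le.trans inf_le_left)).ge.trans
        (e2.le.trans inf_le_right))⟩
    · have nd : n ∣ m * d := by rw [← k, ← i]; exact index_dvd_of_le inf_le_right
      obtain ⟨d', hd'⟩ := nd
      obtain ⟨p, pp, pq, pt, pG, hp⟩ := h.three hq ht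
      have pd' : ¬ p ∣ d := fun k => by simpa [pq, pt] using pd p pp k
      have pm : p ∣ m := hp.resolve_right fun k => k.elim pd' fun k =>
        pd' (k.trans (h.cop.symm.dvd_of_dvd_mul_left ⟨d', hd'⟩))
      have pn : ¬ p ∣ n := (h.exb pp pm).choose_spec.2.2.2
      refine fin ⟨p, fun ps => e (c0 v hv (pv.of_p (by simp [← ps, pq, pt]))), (h.ty2 (Or.inl hd'.symm)).T4 k v1 pp
        (((Nat.Prime.dvd_mul pp).1 (hd' ▸ pm.mul_right d)).resolve_left pn) ?_⟩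
      rw [← (C1(v)).card_mul_index, k] at pG
      exact ((Nat.Prime.dvd_mul pp).1 pG).resolve_right pn
  have e2 : ∀ s : ℕ, O[{s}](C1(x)) ≤ C(C1(x)) := fun s => by
    have ab : Abel O[{s}](C1(x)) := fun v hv => by
      by_cases e : C1(x) ≤ C1(v)
      · exact le_C1_iff.1 (pcore_le.trans e)
      obtain ⟨u, us, w, hw, pw, w1, le⟩ := e1 s v (pcore_le hv) (pcore_pi.elt hv) e
      have k := PxQ (pcore_pi.elt hv).zpowers (PiElt.zpowers (pw.p'_of_ne us)) pcore_pi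
        (by rw [C_zpowers, zpowers_le]; exact le ⟨pcore_le hv, C1_self⟩) (le_norm (zpowers_le.2 hv))
        ((zpowers_le.2 hw).trans pcore_nml.norm)
        (by rw [C_zpowers, C_zpowers]; exact (inf_le_inf_right _ pcore_le).trans le)
      have e3 : C1(x) ⊓ C1(v) = C1(x) ⊓ C1(w) := eq_of_index (le_inf inf_le_left le) (by
        rw [← relIndex_mul_index (inf_le_left (b := C1(v))), ← relIndex_mul_index (inf_le_left (b := C1(w))),
          relIndex_inf_left, relIndex_inf_left, pri s v (pcore_le hv) (pcore_pi.elt hv) e, pri u w hw pw w1])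
      exact le_C1_iff.1 ((le_inf pcore_le (zpowers_le_C_iff.1 k)).trans (e3.ge.trans inf_le_right))
    obtain ⟨u, pu, ud, us⟩ := oth s
    obtain ⟨U, hU⟩ := exists_sylow pu C1(x)
    have k : O[{s}](C1(x)) ≤ C(U) := (cop_of_pi (hU.le.trans pcore_nml.norm) hU.pi (pcore_pi.p'_of_ne us.symm)
      (Or.inl hU.pi.solv)).cent_of_comm_cent (commutator_le.2 fun v hv w hw => C_anti hU.le (le_C1_iff.1 (by
        by_cases e : C1(x) ≤ C1(w)
        · rw [commutatorElement_eq_one_iff_mul_comm.2 (mem_C1.1 (e (pcore_le hv))), C1_one]; exact le_top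
        have m1 : ⁅v, w⁆ ∈ O[{s}](C1(x)) := comm_le_left (hU.le.trans pcore_nml.norm) (commutator_mem_commutator hv hw)
        by_contra e'
        have := mann_rel pcore_nml ab hv (hU.le hw) e
        rw [pri s _ (pcore_le m1) (pcore_pi.elt m1) e', pri u w (hU.le hw) (hU.pi.elt hw) e] at this
        exact lt_irrefl _ this)))
    refine fun v hv => le_C1_iff.1 (by_contra fun e => ?_)
    exact (piNat_compl_iff pu).1 (hU.idx_of_le (le_C1_iff.2 (k hv))) (pri s v (pcore_le hv) (pcore_pi.elt hv) e ▸ ud)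
  have f : F(C1(x)) ≤ C(C1(x)) := fit_le_of_pcores fun s _ _ => e2 s
  exact h.lt.not_ge (le_C1_iff.2 (f (cent_sub_Fitting h.solvD ⟨h.yx, cent_symm f h.yx⟩)))

theorem false : False := by
  obtain ⟨q, hq, pd⟩ := h.T3
  have rt : ∀ {H : Subgroup G}, H.relIndex ⊤ = H.index := relIndex_top_right _
  obtain ⟨p, pp, pm⟩ := Nat.exists_prime_and_dvd h.hm.ne'
  obtain ⟨b, b1, pb, eb, pn⟩ := h.exb pp pm
  have cp : ∀ {t : ℕ}, t.Prime → t ∣ m → ¬ t ∣ n := fun pt k => (h.exb pt k).choose_spec.2.2.2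
  have sN : ∀ N : Subgroup G, PiNat {q} (C1(b).relIndex N) → (Abel C1(b) ∨ ∃ r : ℕ, r.Prime ∧ PiGrp {r} C1(b)) → Solv N :=
    fun N k c => c.elim (fun c => solv_of_abel_idx hq c k) fun ⟨r, pr, c⟩ => H21.solv_paqb pr hq
      (piGrp_of_relIndex inf_le_right (c.inf_left.sub (by simp)) (by rw [relIndex_inf_right]; exact k.sub (by simp)))
  have st : ¬ n ∣ m * d → Abel C1(b) ∨ ∃ r : ℕ, r.Prime ∧ PiGrp {r} C1(b) := fun k =>
    ((h.ty2 (k := 1) (Or.inr k)).stepA eb b1).imp_right fun c => c.resolve_right fun ⟨v, _, v1, e⟩ =>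
      v1 (relIndex_eq_one_iff.1 e)
  by_cases pn' : PiNat {q} n
  · have sB := mt (sN ⊤ (by rwa [rt, eb])) h.ns
    obtain ⟨k, ek⟩ : n ∣ m * d := by_contra fun k => sB (st k)
    have ty := h.ty2 (Or.inl ek.symm)
    obtain ⟨v, hv, v1, e⟩ := (or_assoc.2 (ty.stepA eb b1)).resolve_left sB
    obtain ⟨s, ps, sp, sq, -, hs⟩ := h.three pp hq
    have sk : s ∣ k := ((Nat.Prime.dvd_mul ps).1 (ek ▸ (hs.resolve_right fun c => c.elim (fun c => sq (pd s ps c))
      fun c => sq (pn' s ps c)).mul_right d)).resolve_left fun c => sq (pn' s ps c)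
    obtain ⟨t, pt, tp, c⟩ := (cam2 pp fun v hv pv e => ty.rel eb b1 pb hv pv e).resolve_left fun c => sp (c s ps sk)
    obtain rfl : s = t := (piNat_of_cent c hv s ps (e ▸ sk)).resolve_left sp
    obtain ⟨q', pq', qn⟩ := Nat.exists_prime_and_dvd h.hn.ne'
    obtain rfl := pn'.eq_of_dvd pq' qn
    have c' : ∀ v ∈ C1(b), v ≠ 1 → PiElt {q'} v → C1(v) = C1(b) := fun v hv v1 pv => ty.max eb v1
      (c v hv (pv.of_p (by simp [sq.symm]; rintro rfl; exact pn qn)))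
    obtain ⟨q'', pq'', qd⟩ := Nat.exists_prime_and_dvd h.hd.ne'
    obtain rfl := pd.eq_of_dvd pq'' qd
    obtain ⟨a, a1, pa, ea⟩ := h.cent hq qd
    have d1 := (pa.zpowers.dvd_card (by simpa using a1)).trans (card_dvd (zpowers_le.2 (mem_C1_comm.1 (ea.ge h.yx))))
    have d2 : Nat.card C1(y) * k = Nat.card C1(b) := by
      have e1 := (C1(y)).card_mul_index
      rw [← (C1(b)).card_mul_index, eb, ← relIndex_mul_index h.lt.le, h.ey, h.ex, mul_comm d, ek, mul_comm n,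
        ← mul_assoc] at e1
      exact Nat.eq_of_mul_eq_mul_right (by have := h.hn; omega) e1
    obtain ⟨w, hw, ow⟩ := cauchy hq (d2 ▸ d1.mul_right k)
    have pw : PiElt {q''} w := by rw [PiElt, ow]; exact piNat_self hq
    obtain ⟨z, -, hz, z1, pz, k'⟩ := exists_pcentral hq (mem_top w) pw (card_top (G := G) ▸ d1.trans (card_subgroup_dvd_card _))
    rw [c' w hw (ne_one_of_prime (ow ▸ hq)) pw] at hz
    rw [rt, c' z hz z1 pz, eb] at k'
    exact k' qn
  obtain ⟨r, pr, rn, rq⟩ := exists_prime_not_mem pn'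
  have nd : ∀ r : ℕ, r.Prime → r ∣ n → r ≠ q → ¬ r ∣ m * d := fun r pr rn rq k =>
    ((Nat.Prime.dvd_mul pr).1 k).elim (fun k => cp pr k rn) fun k => rq (pd r pr k)
  have sB := st fun k => nd r pr rn rq (rn.trans k)
  refine h.ns ?_
  by_cases c : ∀ p ∈ primes m, p.Prime → HasNormalPComplement p G
  · have hN := hall_of_pnil c
    refine solv_of_sup hN pcore_nml.norm (h.solvD.of_le (hN.pi.le_of_relIndex (piNat_primes.compl_compl.of_dvd ?_)))
      (sB.elim Abel.solv fun ⟨r, _, k⟩ => k.solv) (eb ▸ piNat_of_coprime' h.cop)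
    rw [← h.ex, ← rt]; exact pcore_nml.relIndex_dvd' le_top
  push Not at c
  obtain ⟨p, hp, pp, c⟩ := c
  have hN := hall_of_pnil (G := G) (π := {r | r ∣ n ∧ r ≠ q}) fun r hr pr =>
    (Cfsg.Agent.S4160.result p r pp pr (fun k => cp pp hp.2 (k ▸ hr.1)) ⟨x, h.ex ▸ hp.2⟩ ⟨b, eb ▸ hr.1⟩ fun g k => by
      rcases h.idx g (fun e => pp.not_dvd_one ((dvd_mul_right p r).trans (by simpa [e] using k))) with e | e | e <;>
        rw [e] at k
      · exact nd r pr hr.1 hr.2 (((dvd_mul_left r p).trans k).mul_right d)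
      · exact nd r pr hr.1 hr.2 ((dvd_mul_left r p).trans k)
      · exact cp pp hp.2 ((dvd_mul_right p r).trans k)).resolve_left c
  refine solv_of_sup hN pcore_nml.norm (sN _ (fun t pt ht => by_contra fun k => ?_) sB) h.solvD
    (h.ex ▸ fun t pt ht k => cp pt ht k.1)
  exact hN.pi.relIndex t pt ht ⟨ht.trans (by rw [← eb, ← rt]; exact pcore_nml.relIndex_dvd' le_top), k⟩

end R3
end H117
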