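import Cfsg.Agent.H17.R3b
import Cfsg.Agent.S2507
import Cfsg.Agent.S2508

/-! Centreless groups with three non-trivial class sizes are solvable or `PSL₂(2^a)` (`r3_main`). -/

set_option autoImplicit false
set_option linter.unusedSectionVars false
set_option linter.unusedVariables false

namespace H117
open Subgroup Cfsg H18 H1
open scoped commutatorElement MatrixGroups

variable {G : Type*} [Group G]

def PW (G : Type*) [Group G] : Prop := ∀ (u g : G) (j : ℕ), u ^ j ≠ 1 → g * u ^ j = u ^ j * g → g * u = u * g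

theorem PW.of_equiv {G' : Type*} [Group G'] (h : PW G) (e : G' ≃* G) : PW G' := fun u g j h1 h2 =>
  e.injective (by simpa using h (e u) (e g) j (by rwa [← map_pow, e.map_ne_one_iff]) (by simpa using congrArg e h2))

theorem PW.not_sz (h : PW G) : ¬ Lie.IsoSuzuki G := by
  rintro ⟨F, _, _, m, hm, hF, ⟨e⟩⟩
  have : H13.Sz.IsSz F m := ⟨hm, hF⟩
  have c2 : (2 : F) = 0 := by
    have := FiniteField.cast_card_eq_zero F
    rw [hF] at this
    exact (pow_eq_zero_iff (n := 2 * m + 1) (by omega)).1 (by exact_mod_cast this)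
  obtain ⟨a, a0, a1⟩ : ∃ a : F, a ≠ 0 ∧ a ≠ 1 := by
    classical
    obtain ⟨a, -, ha⟩ := Finset.exists_mem_notMem_of_card_lt_card (s := ({0, 1} : Finset F)) (t := Finset.univ)
      (lt_of_le_of_lt Finset.card_le_two (by
        rw [Finset.card_univ, hF]; exact lt_of_lt_of_le (by decide) (H13.four_le (by omega))))
    exact ⟨a, by simpa using ha⟩
  have e2 : H13.Sz.u m (1 : F) 0 ^ 2 = H13.Sz.u m 0 1 := by rw [sq, H13.Sz.u_mul_u, H13.Sz.u_inj]; grind
  have k := h.of_equiv ((H13.Sz.lieEquiv F m).trans e.symm) (H13.Sz.u m 1 0) (H13.Sz.u m a 0) 2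
    (by rw [e2]; simp [H13.Sz.u_eq_one]) (by rw [e2, H13.Sz.u_mul_u, H13.Sz.u_mul_u, H13.Sz.u_inj]; simp)
  have t := H13.Sz.th_th (m := m) a
  simp only [H13.Sz.u_mul_u, H13.Sz.u_inj, map_one, zero_add, add_zero, mul_one, one_mul] at k
  rw [k.2, k.2] at t
  exact a1 (mul_left_cancel₀ a0 (by rw [mul_one, ← sq, ← t]))

theorem PW.not_pgl (h : PW G) : ¬ IsPGL2 G := by
  rintro ⟨F, _, _, h5, ho, ⟨e⟩⟩
  classical
  obtain ⟨c, hc⟩ := IsCyclic.exists_ofOrder_eq_natCard (α := Fˣ)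
  rw [Nat.card_eq_fintype_card, Fintype.card_units] at hc
  obtain ⟨j, hj⟩ := ho
  have c1 : (c : F) ^ j = -1 := by
    have : ((c : F) ^ j) ^ 2 = 1 := by
      rw [← pow_mul, ← Units.val_pow_eq_pow_val, show j * 2 = orderOf c by omega, pow_orderOf_eq_one, Units.val_one]
    refine (sq_eq_one_iff.1 this).resolve_left fun k => ?_
    have := orderOf_le_of_pow_eq_one (x := c) (n := j) (by omega) (Units.ext (by simpa using k))
    omega
  have h2 : (2 : F) ≠ 0 := H24.two_ne_zero_of_odd ⟨j, hj⟩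
  have k := h.of_equiv (G' := PGL(2, F)) e.symm (H10.aff c c.ne_zero 0) (H10.mob 0 1 1 0 (by simp)) j
    (by rw [H10.aff_zero_pow, Ne, H10.aff_eq_one_iff, c1]; grind)
    (by rw [H10.aff_zero_pow]; simp only [c1, H10.aff, H10.mob_mul, H10.mob_eq_mob_iff]; exact ⟨-1, by simp⟩)
  simp only [H10.aff, H10.mob_mul, H10.mob_eq_mob_iff] at k
  obtain ⟨u, -, -, k1, k2, -⟩ := k
  have := orderOf_le_of_pow_eq_one (x := c) (n := 2) two_pos (Units.ext (by
    rw [Units.val_pow_eq_pow_val, Units.val_one]; grind))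
  omega

theorem idx_equiv {G' : Type*} [Group G'] (e : G ≃* G') (x : G) : C1(e x).index = C1(x).index := by
  rw [← index_comap_of_surjective (f := e.toMonoidHom) _ e.surjective]
  congr 1; ext y
  simp [mem_C1, ← map_mul]

theorem three_set {S : Set ℕ} (hS : S.Finite) (h : S.ncard ≤ 3) {a b : ℕ} (ha : a ∈ S) (hb : b ∈ S) (ab : a ≠ b) :
    ∃ n, ∀ s ∈ S, s = a ∨ s = b ∨ s = n := by
  by_cases k : ∃ c ∈ S, c ≠ a ∧ c ≠ b
  · obtain ⟨c, hc, ca, cb⟩ := k
    refine ⟨c, fun s hs => ?_⟩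
    rwa [← Set.eq_of_subset_of_ncard_le (s := {a, b, c}) (by simp [Set.insert_subset_iff, *])
      (by rwa [Set.ncard_eq_three.2 ⟨a, b, c, ab, ca.symm, cb.symm, rfl⟩]) hS] at hs
  · exact ⟨0, fun s hs => by_contra fun e => k ⟨s, hs, by tauto⟩⟩

theorem r3_main [Finite G] (hZ : C((⊤ : Subgroup G)) = ⊥) (ns : ¬ Solv (⊤ : Subgroup G))
    (h : {n : ℕ | 1 < n ∧ ∃ x : G, C1(x).index = n}.ncard ≤ 3) :
    ∃ (F : Type) (_ : Field F) (_ : Fintype F), (∃ n : ℕ, 2 ≤ n ∧ Fintype.card F = 2 ^ n) ∧ Nonempty (G ≃* PSL(2, F)) := by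
  have fin : {n : ℕ | 1 < n ∧ ∃ x : G, C1(x).index = n}.Finite := (Set.finite_range fun x : G => C1(x).index).subset fun n k => k.2
  have mem : ∀ g : G, g ≠ 1 → C1(g).index ∈ {n : ℕ | 1 < n ∧ ∃ x : G, C1(x).index = n} := fun g g1 =>
    ⟨lt_of_le_of_ne (Nat.pos_of_ne_zero index_ne_zero_of_finite) fun k =>
      g1 (eq_one_of_eq_bot hZ (C1_index_eq_one.1 k.symm)), g, rfl⟩
  have fg : ∀ x y : G, x ≠ 1 → C1(y) ≤ C1(x) → C1(y) = C1(x) := fun x y x1 le => by_contra fun ne => by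
    have y1 : y ≠ 1 := fun k => ne (le_antisymm le (by simp [k]))
    obtain ⟨n, hn⟩ := three_set fin h (mem x x1) (mem y y1) fun k => ne (eq_of_index le k.ge)
    exact R3.false (n := n) ⟨hZ, fun g g1 => by rw [mul_comm, relIndex_mul_index le]; exact hn _ (mem g g1), x1,
      lt_of_le_of_ne le ne, rfl, rfl, ns⟩
  have pw : PW G := fun u g j h1 h2 => mem_C1.1 ((fg _ u h1 (C1_pow_le j)).ge (mem_C1.2 h2))
  have np : NP fun x : G => Z(C1(x)) := ⟨fun x => ⟨C1_self, le_C1_iff.1 le_rfl⟩,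
    fun {x y} hy y1 => by rw [fg y x y1 (le_C1_iff.2 hy.2)], fun g x => by rw [cj_Z, cj_C1],
    fun x k => ns (k ▸ abel_Z.solv)⟩
  rcases (np.solv_or fun x _ => abel_Z).resolve_left ns with (k | k) | ⟨F, _, _, h4, ⟨e⟩⟩ | k
  · exact k
  · exact (pw.not_sz k).elim
  swap
  · exact (pw.not_pgl k).elim
  by_cases h2 : 2 ∣ Fintype.card F
  · obtain ⟨p, _, n, pp, hn⟩ := FiniteField.card' F
    obtain rfl := (Nat.prime_dvd_prime_iff_eq Nat.prime_two pp).1 (Nat.prime_two.dvd_of_dvd_pow (hn ▸ h2))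
    refine ⟨F, _, _, ⟨n, by_contra fun k => ?_, hn⟩, ⟨e⟩⟩
    have : 2 ^ (n : ℕ) ≤ 2 ^ 1 := Nat.pow_le_pow_right two_pos (by omega)
    omega
  by_cases h5 : Fintype.card F = 5
  · have a5 : ∀ {F : Type} [Field F] [Fintype F], Fintype.card F = 4 ∨ Fintype.card F = 5 →
        Nonempty (PSL(2, F) ≃* alternatingGroup (Fin 5)) := fun {F} _ _ h => by
      have : IsSimpleGroup PSL(2, F) :=
        Matrix.ProjectiveSpecialLinearGroup.rank_two_simple (F := F) (by rw [Nat.card_eq_fintype_card]; omega)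
      have c := H10.card_PSL2 (F := F)
      refine H10.equiv_A5_of_simple ?_
      rcases h with h | h <;> rw [h] at c <;> norm_num at c <;> omega
    let _ : Fintype (GaloisField 2 2) := Fintype.ofFinite _
    have c4 : Fintype.card (GaloisField 2 2) = 2 ^ 2 := by rw [← Nat.card_eq_fintype_card, GaloisField.card 2 2 two_ne_zero]
    obtain ⟨a⟩ := a5 (Or.inr h5)
    obtain ⟨b⟩ := a5 (Or.inl c4)
    exact ⟨GaloisField 2 2, _, _, ⟨2, le_rfl, c4⟩, ⟨e.trans (a.trans b.symm)⟩⟩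
  exfalso
  have h7 : 7 ≤ Fintype.card F := by omega
  have key : ∀ a b c d : ℕ, Set.range (fun g : PSL(2, F) => C1(g).index) = {1, a, b, c, d} → 1 < a → 1 < b → 1 < c → 1 < d →
      a ≠ b → a ≠ c → a ≠ d → b ≠ c → b ≠ d → c ≠ d → False := fun a b c d E a1 b1 c1 d1 ab ac ad bc bd cd => by
    have m : ∀ t ∈ ({1, a, b, c, d} : Set ℕ), 1 < t → t ∈ {n : ℕ | 1 < n ∧ ∃ x : G, C1(x).index = n} := fun t ht t1 => by
      obtain ⟨g, rfl⟩ := E.symm ▸ ht
      exact ⟨t1, e.symm g, idx_equiv e.symm g⟩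
    obtain ⟨n, hn⟩ := three_set fin h (m a (by simp) a1) (m b (by simp) b1) ab
    have := hn c (m c (by simp) c1); have := hn d (m d (by simp) d1); omega
  obtain ⟨k1, k2⟩ := Cfsg.Agent.S2508.result h2 h7
  obtain ⟨j, hj⟩ : ∃ j, Fintype.card F = 2 * j + 1 := ⟨Fintype.card F / 2, by omega⟩
  have e1 : (Fintype.card F ^ 2 - 1) / 2 = 2 * (j * j) + 2 * j := by
    rw [hj, show (2 * j + 1) ^ 2 = 2 * (2 * (j * j) + 2 * j) + 1 by ring]; omega
  have e2 : Fintype.card F * (Fintype.card F + 1) = 4 * (j * j) + 6 * j + 2 := by rw [hj]; ring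
  have e3 : Fintype.card F * (Fintype.card F - 1) = 4 * (j * j) + 2 * j := by rw [hj, Nat.add_sub_cancel]; ring
  rw [e1, e2, e3] at k1 k2
  have : j ≤ j * j := Nat.le_mul_self j
  rcases (by omega : Fintype.card F % 4 = 1 ∨ Fintype.card F % 4 = 3) with k | k
  · refine key _ _ _ _ (k1 k) ?_ ?_ ?_ ?_ ?_ ?_ ?_ ?_ ?_ ?_ <;> omega
  · refine key _ _ _ _ (k2 k) ?_ ?_ ?_ ?_ ?_ ?_ ?_ ?_ ?_ ?_ <;> omega

end H117
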