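import Cfsg.Agent.H17.FStar
import Cfsg.Agent.H26.Min
import Cfsg.Agent.H20.Model

/-! Small results: `inner_of_cocycle` (an automorphism trivial modulo an abelian normal `Z` and on a subgroup of index
prime to `|Z|` is inner), `p`-minimal groups with a component (`pmin_comp`). -/

set_option autoImplicit false
set_option linter.unusedSectionVars false
set_option linter.unusedVariables false

namespace H17
open Subgroup Cfsg
open scoped commutatorElement

variable {G : Type*} [Group G] [Finite G] {p : ℕ}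

theorem inner_of_cocycle {Z T : Subgroup G} [hn : Z.Normal] (hZ : ∀ x ∈ Z, ∀ y ∈ Z, x * y = y * x)
    (cop : (Nat.card Z).Coprime T.index) (α : G ≃* G) (h1 : ∀ g, g⁻¹ * α g ∈ Z) (h2 : ∀ t ∈ T, α t = t) :
    ∃ z, ∀ x, α x = z * x * z⁻¹ := by
  let K : Subgroup (G × G) := (⊥ : Subgroup G).prod Z
  let A := ((MonoidHom.id G).prod (MonoidHom.id G)).range
  let B := ((MonoidHom.id G).prod α.toMonoidHom).range
  let Γ : Subgroup (G × G) := MonoidHom.eqLocus ((QuotientGroup.mk' Z).comp (MonoidHom.fst G G))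
    ((QuotientGroup.mk' Z).comp (MonoidHom.snd G G))
  have mΓ : ∀ x : G × G, x ∈ Γ ↔ x.1⁻¹ * x.2 ∈ Z := fun x => QuotientGroup.eq
  have mK : ∀ x : G × G, x ∈ K ↔ x.1 = 1 ∧ x.2 ∈ Z := fun x => mem_prod
  have mA : ∀ x : G × G, x ∈ A ↔ x.2 = x.1 := fun x =>
    ⟨fun ⟨g, e⟩ => e ▸ rfl, fun e => ⟨x.1, Prod.ext rfl e.symm⟩⟩
  have mB : ∀ x : G × G, x ∈ B ↔ x.2 = α x.1 := fun x =>
    ⟨fun ⟨g, e⟩ => e ▸ rfl, fun e => ⟨x.1, Prod.ext rfl e.symm⟩⟩
  have kn : K.Normal := inferInstance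
  have cK : Nat.card K = Nat.card Z := by
    rw [Nat.card_congr (Subgroup.prodEquiv _ _).toEquiv, Nat.card_prod]; simp
  have ix : (T.comap (MonoidHom.fst G G) ⊓ Γ).relIndex Γ = T.index := by
    rw [inf_relIndex_right, relIndex_comap, ← relIndex_top_right]
    congr 1
    exact top_unique fun g _ => ⟨(g, g), (mΓ _).2 (by simp), rfl⟩
  obtain ⟨k, hk, e⟩ := H20.gaschutz_conj_rel (K := K) (U := T.comap (MonoidHom.fst G G) ⊓ Γ) (Γ := Γ) (A := A) (B := B)
    (fun x hx => ⟨show x.1 ∈ T by simp [((mK x).1 hx).1], (mΓ x).2 (by simpa [((mK x).1 hx).1] using ((mK x).1 hx).2)⟩)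
    inf_le_right (by rw [normalizer_eq_top]; exact le_top)
    (fun x hx y hy => Prod.ext (by simp [((mK x).1 hx).1, ((mK y).1 hy).1]) (hZ _ ((mK x).1 hx).2 _ ((mK y).1 hy).2))
    (by rwa [cK, ix]) (fun x hx => (mΓ x).2 (by simp [(mA x).1 hx])) (fun x hx => (mΓ x).2 ((mB x).1 hx ▸ h1 _))
    (eq_bot_iff.2 fun x hx => Prod.ext ((mK x).1 hx.2).1 (((mA x).1 hx.1).trans ((mK x).1 hx.2).1))
    (eq_bot_iff.2 fun x hx => Prod.ext ((mK x).1 hx.2).1 (by rw [(mB x).1 hx.1, ((mK x).1 hx.2).1, map_one]; rfl))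
    (fun x hx => by
      have : x = (1, x.2 * x.1⁻¹) * (x.1, x.1) := by simp
      rw [this]
      exact mul_mem_sup ((mK _).2 ⟨rfl, hn.mem_comm ((mΓ x).1 hx)⟩) ((mA _).2 rfl))
    (fun x hx => by
      have : x = (1, x.2 * (α x.1)⁻¹) * (x.1, α x.1) := by simp
      rw [this]
      refine mul_mem_sup ((mK _).2 ⟨rfl, hn.mem_comm ?_⟩) ((mB _).2 rfl)
      simpa [mul_assoc] using mul_mem (inv_mem (h1 x.1)) ((mΓ x).1 hx))
    (by
      ext x
      simp only [mem_inf, mA, mB, mem_comap, MonoidHom.coe_fst]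
      exact ⟨fun h => ⟨by rw [h2 _ h.2.1, h.1], h.2⟩, fun h => ⟨by rw [h.1, h2 _ h.2.1], h.2⟩⟩)
  refine ⟨k.2, fun x => ?_⟩
  have : k * (x, x) * k⁻¹ ∈ B := e ▸ H20.mem_cjs.2 ((mA _).2 (by simp [mul_assoc]))
  simpa [((mK k).1 hk).1] using ((mB _).1 this).symm

theorem inner_of_cent_gfit [Fact p.Prime] (hO : pPrimeCore p G = ⊥) (T : Sylow p G) (α : G ≃* G)
    (h1 : ∀ x ∈ (T : Subgroup G), α x = x) (h2 : ∀ x ∈ layer G, α x = x) : ∃ g : G, ∀ x : G, α x = g * x * g⁻¹ := by
  have hQ : oQ p (⊤ : Subgroup G) = ⊥ := (oQ_top p).trans hO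
  have e : fit (⊤ : Subgroup G) = oP p ⊤ := fit_eq_oP_of_oQ_eq_bot hQ
  have f : ∀ x ∈ generalizedFittingSubgroup G, α x = x := by
    intro x hx
    rw [← gfit_top, gfit_eq, lay_top, e] at hx
    exact (sup_le (fun y hy => h2 y hy) (fun y hy => h1 y ((isSyl_sylow T).oP_le hy)) :
      _ ≤ MonoidHom.eqLocus α.toMonoidHom (MonoidHom.id G)) hx
  have c : centralizer (generalizedFittingSubgroup G : Set G) ≤ oP p ⊤ := fun x hx =>
    e ▸ centralizer_gfit_le_fit ⊤ ⟨trivial, by rwa [gfit_top]⟩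
  refine inner_of_cocycle (Z := centralizer (generalizedFittingSubgroup G : Set G)) (T := T)
    (fun x hx y hy => hy x ((centralizer_generalizedFittingSubgroup_le (G := G)) hx))
    (coprime_card_of_pgroup ((oP_pgroup p ⊤).to_le c) T.not_dvd_index) α (fun g x hx => ?_) h1
  have := f _ (generalizedFittingSubgroup_normal.conj_mem x hx g)
  rw [map_mul, map_mul, f x hx, map_inv] at this
  calc x * (g⁻¹ * α g) = g⁻¹ * (g * x * g⁻¹) * α g := by group
    _ = g⁻¹ * α g * x := by rw [← this]; group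

theorem IsSyl.h26 [Fact p.Prime] {S H : Subgroup G} (h : IsSyl p S H) : H26.IsSyl p S H :=
  ⟨h.le, h.pgroup, fun _ a b c => (h.eq_of_le a b c).le⟩

/-- a subgroup normalized by `S`, of order prime to `p` or normal inside `M`, in a `p`-minimal group -/
theorem umax_nil [Fact p.Prime] {S M N : Subgroup G} (h : H26.UMax S M ⊤) (hS : IsSyl p S ⊤) (hO : oP p (⊤ : Subgroup G) = ⊥)
    (hn : ⊤ ≤ normalizer (N : Set G)) (k : N ≤ M ∨ ¬ p ∣ Nat.card N) : Group.IsNilpotent N := by
  have fr : ∀ (q : ℕ) [Fact q.Prime] (Q : Subgroup G), IsSyl q Q N → S ≤ normalizer (Q : Set G) → N ≤ M →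
      ⊤ ≤ normalizer (Q : Set G) := fun q _ Q hQ hs hM => by
    refine (h.eq_of_not_le hs le_top fun k => h.lt.not_ge ?_).ge
    rw [hQ.frattini le_top hn]
    exact sup_le hM (inf_le_right.trans k)
  have np : ¬ p ∣ Nat.card N := k.elim (fun k => by
    have s := hS.inf_normal le_top (le_top.trans hn)
    exact s.eq_bot_iff.1 (eq_bot_iff.2 (hO ▸ le_oP le_top (fr p _ s (le_normalizer_inf le_normalizer (le_top.trans hn)) k)
      s.pgroup))) id
  have cop := Cop.of_pgroup hS.pgroup np (le_top.trans hn)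
  by_cases hM : N ≤ M
  · refine nilpotent_of_forall_isSyl fun q _ => ?_
    obtain ⟨Q, hQ, hs⟩ := cop.exists_isSyl q
    rwa [hQ.oP_le.antisymm (le_oP hQ.le (le_top.trans (fr q Q hQ hs hM)) hQ.pgroup)]
  · by_contra nn
    refine hM (le_of_forall_syl_le fun q _ _ => ?_)
    obtain ⟨Q, hQ, hs⟩ := cop.exists_isSyl q
    refine ⟨Q, hQ, le_sup_right.trans ((h.eq_or_le (X := S ⊔ Q) le_sup_left le_top).resolve_left fun e => nn ?_)⟩
    have : N ≤ Q := by
      have := sup_inf_of_le_right hs hQ.le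
      rw [e, top_inf_eq, cop.inf_eq_bot, bot_sup_eq] at this
      exact this.le
    exact (hQ.pgroup.to_le this).isNilpotent

theorem pmin_comp [Fact p.Prime] {S M K : Subgroup G} (h : H26.UMax S M ⊤) (hS : IsSyl p S ⊤)
    (hO : oP p (⊤ : Subgroup G) = ⊥) (hK : IsComp K ⊤) :
    oUp p ⊤ = gfit (⊤ : Subgroup G) ∧ gfit (⊤ : Subgroup G) = lay ⊤ ∧ lay ⊤ = ⨆ s : S, cj (s : G) K ∧
      IsPMinimal p (K ⊔ (S ⊓ normalizer (K : Set G)) : Subgroup G) := by
  have inv : ∀ Y : Subgroup G, S ≤ normalizer ((⨆ s : S, cj (s : G) Y : Subgroup G) : Set G) := fun Y t ht =>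
    mem_normalizer_of_conj_mem fun x hx => by
      refine (iSup_le fun s => ?_ : _ ≤ (⨆ s : S, cj (s : G) Y).comap (MulAut.conj t).toMonoidHom) hx
      intro y hy
      refine (le_iSup (fun s : S => cj (s : G) Y) ⟨t * s, mul_mem ht s.2⟩) ?_
      simpa [cj_mul] using conj_mem_cj (g := t) hy
  have one : ∀ Y : Subgroup G, Y ≤ ⨆ s : S, cj (s : G) Y := fun Y => by
    simpa using le_iSup (fun s : S => cj (s : G) Y) 1
  have cK : ∀ g : G, IsComp (cj g K) ⊤ := fun g => hK.cj_of_mem_normalizer (le_normalizer trivial)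
  have nsol : ∀ N : Subgroup G, K ≤ N → ¬ Group.IsNilpotent N := fun N a b =>
    qs_not_solvable hK.qs (solvable_of_le a (solvable_of_nilpotent b))
  have top : ∀ N : Subgroup G, ⊤ ≤ normalizer (N : Set G) → K ≤ N → N ⊔ S = ⊤ := fun N a b =>
    h.eq_of_not_le le_sup_right le_top fun k => nsol N b (umax_nil h hS hO a (Or.inl (le_sup_left.trans k)))
  have tE := top _ (le_normalizer_lay ⊤) hK.le_lay
  set L := ⨆ s : S, cj (s : G) K with hL
  have LE : L ≤ lay ⊤ := iSup_le fun s => (cK s).le_lay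
  have nL : ⊤ ≤ normalizer (L : Set G) := tE ▸ sup_le (le_normalizer_iSup fun s => (cK s).lay_le_normalizer) (inv K)
  have res : ∀ N : Subgroup G, S ≤ normalizer (N : Set G) → N ⊔ S = ⊤ → oUp p ⊤ ≤ N := fun N a b => by
    have n : ⊤ ≤ normalizer (N : Set G) := b ▸ sup_le le_normalizer a
    refine oUp_le_iff.2 fun g _ hg => (Subn.of_normal le_top n).mem_of_coprime trivial ?_
    rw [← b, sup_comm]
    exact ((coprime_card_of_pgroup hS.pgroup hg).coprime_dvd_left (by
      rw [relIndex_sup_of_le_normalizer a]; exact relIndex_dvd_card _ _))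
  have oL := res L (inv K) (top L nL (one K))
  have Eo : lay (⊤ : Subgroup G) ≤ oUp p ⊤ := (oUp_eq_self_of_perfect (p := p) (lay_perfect ⊤)).ge.trans (oUp_mono p le_top)
  have go : gfit (⊤ : Subgroup G) ≤ oUp p ⊤ := gfit_eq (⊤ : Subgroup G) ▸ sup_le Eo (le_oUp le_top (not_dvd_fit hO))
  refine ⟨((oL.trans LE).trans (lay_le_gfit _)).antisymm go, (go.trans (oL.trans LE)).antisymm (lay_le_gfit _),
    (Eo.trans oL).antisymm LE, ?_⟩
  have sK := hS.inf_subn hK.subn
  have tn : S ⊓ normalizer (K : Set G) ≤ normalizer (K : Set G) := inf_le_right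
  have sT : IsSyl p (S ⊓ normalizer (K : Set G)) (K ⊔ S ⊓ normalizer (K : Set G)) := by
    refine isSyl_of_max le_sup_right (hS.pgroup.to_le inf_le_left) fun P hP a b => ?_
    have pn : P ≤ normalizer (K : Set G) := b.trans (sup_le le_normalizer tn)
    have e : P ⊓ K = S ⊓ K := sK.eq_of_le (hP.to_le inf_le_left)
      (le_inf ((le_inf inf_le_left (inf_le_right.trans le_normalizer)).trans a) inf_le_right) inf_le_right
    have := sup_inf_of_le_left tn a
    rw [sup_comm, inf_eq_right.2 b, inf_comm K, e] at this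
    exact this.le.trans (sup_le le_rfl (le_inf inf_le_left (inf_le_right.trans le_normalizer)))
  have KM : ¬ K ≤ M := fun k => nsol L (one K) (umax_nil h hS hO nL (Or.inl (iSup_le fun s =>
    (cj_mono _ k).trans (cj_eq_of_mem (h.le s.2)).le)))
  have um : H26.UMax (S ⊓ normalizer (K : Set G)) (M ⊓ (K ⊔ S ⊓ normalizer (K : Set G))) (K ⊔ S ⊓ normalizer (K : Set G)) := by
    refine ⟨le_inf (inf_le_left.trans h.le) le_sup_right, lt_of_le_of_ne inf_le_right fun e =>
      KM (le_sup_left.trans (e.ge.trans inf_le_left)), fun Y a b => le_inf ?_ b.le⟩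
    have e := sup_inf_of_le_left tn a
    rw [sup_comm, inf_eq_right.2 b.le] at e
    refine e.le.trans (sup_le (inf_le_left.trans h.le) ((one _).trans (le_sup_left.trans
      ((h.eq_or_le (le_sup_right (b := S)) le_top).resolve_left fun t => b.not_ge ?_))))
    refine sup_le ?_ a
    refine (eq_of_perfect_of_le_sup_center hK.perfect (inf_le_left (b := Y)) ?_).ge.trans inf_le_right
    refine (hK.le_lay.trans (Eo.trans (res _ (inv _) t))).trans (iSup_le fun s => ?_)
    rcases (cK s).eq_or_commutator hK with c | c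
    · have sn : (s : G) ∈ normalizer (K : Set G) := mem_normalizer_iff_cj.2 c
      rw [cj_inf, c, cj_eq_of_mem (a ⟨s.2, sn⟩)]
      exact le_sup_left
    · exact ((cj_mono _ inf_le_left).trans (le_centralizer_of_commutator_eq_bot c)).trans le_sup_right
  refine (H26.isPMinimal_iff sT.h26).2 ⟨um.ncl_eq_of_isSyl sT.h26 fun n => ?_, _, um⟩
  have n2 : K ≤ normalizer ((S ⊓ K : Subgroup G) : Set G) := by
    have : S ⊓ K = S ⊓ normalizer (K : Set G) ⊓ K := by rw [inf_assoc, inf_eq_right.2 (le_normalizer (H := K))]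
    rw [this]
    exact le_normalizer_inf (le_sup_left.trans n) le_normalizer
  have np : ¬ p ∣ Nat.card K := sK.eq_bot_iff.1 (by
    rcases qs_normal hK.qs inf_le_right n2 with c | c
    · exact absurd (c ▸ sK.pgroup.isNilpotent) (nsol K le_rfl)
    · exact sK.eq_bot_of_perfect_of_central hK.perfect (le_centralizer_of_commutator_eq_bot c))
  refine nsol (oQ p ⊤) (hK.subn.le_oQ np) (umax_nil h hS hO (le_normalizer_oQ p ⊤) (Or.inr (oQ_not_dvd p ⊤)))

end H17
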