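import Cfsg.Agent.H17.Gen
import Cfsg.Agent.H5.SuzA
import Cfsg.Agent.H9.Dihedral

/-! The Thompson dihedral lemma (`tdl`): eigen-elements `Eig A x` of an elementary abelian 2-group acting on a group of
odd order generate it (`exists_eig`); a faithful invariant abelian subgroup (`exists_abel_faith`). -/

set_option autoImplicit false
set_option linter.unusedSectionVars false
set_option linter.unusedVariables false

namespace H117
open Subgroup Cfsg H18 H1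
open scoped commutatorElement

variable {G : Type*} [Group G] [Finite G] {A B K L M X : Subgroup G} {a b x y : G}

/-- every element of `A` centralizes or inverts `x` -/
def Eig (A : Subgroup G) (x : G) : Prop := ∀ a ∈ A, a ∈ C1(x) ∨ a * x * a⁻¹ = x⁻¹

theorem Eig.norm (h : Eig A x) : A ≤ N(zpowers x) := fun a ha => mem_N_iff_cj.2 (by
  rw [cj_zpowers]
  rcases h a ha with e | e
  · rw [conj_eq_self_of_C1 e]
  · rw [e, zpowers_inv])

theorem Eig.mul (h : Eig A x) (ha : a ∈ A) (hb : b ∈ A) (a1 : a ∉ C1(x)) (b1 : b ∉ C1(x)) : a * b ∈ C1(x) := by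
  have e1 := (h a ha).resolve_left a1
  have e2 := (h b hb).resolve_left b1
  have : a * b * x * (a * b)⁻¹ = x := by
    calc _ = a * (b * x * b⁻¹) * a⁻¹ := by group
      _ = (a * x * a⁻¹)⁻¹ := by rw [e2]; group
      _ = x := by rw [e1, inv_inv]
  exact mem_C1.2 (mul_inv_eq_iff_eq_mul.1 this)

theorem zp_two (t2 : a * a = 1) (h : x ∈ zpowers a) : x = 1 ∨ x = a := by
  obtain ⟨n, rfl⟩ := h
  rcases Int.even_or_odd' n with ⟨m, rfl | rfl⟩ <;> simp [zpow_add, zpow_mul, sq, t2]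

theorem exists_eig (hA : Elem 2 A) (h : Cop A K) (ho : Odd (Nat.card K)) (hX : ¬ K ≤ X) : ∃ x ∈ K, x ∉ X ∧ Eig A x := by
  by_cases h0 : A = ⊥
  · obtain ⟨x, hx, x1⟩ := SetLike.not_le_iff_exists.1 hX
    exact ⟨x, hx, x1, fun a ha => Or.inl (by rw [h0, mem_bot] at ha; rw [ha]; exact one_mem _)⟩
  obtain ⟨B, hB, n⟩ := H17.exists_hyp_not_le Nat.prime_two hA h0 h hX
  obtain ⟨x, hx, x1⟩ := SetLike.not_le_iff_exists.1 n
  obtain ⟨a, ha, a1⟩ := SetLike.exists_of_lt (hB.lt Nat.prime_two)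
  have a2 : a * a = 1 := by rw [← pow_two, hA.pow a ha]
  have ai : a⁻¹ = a := inv_eq_of_mul_eq_one_right a2
  have nn : A ≤ N(K ⊓ C(B)) := norm_inf h.norm (norm_C (hA.abel.norm hB.le))
  obtain ⟨v, hv, k, hk, e1, e2, rfl⟩ := H5.exists_cent_mul_inv (X := K ⊓ C(B)) a2
    (ho.of_dvd_nat (card_dvd_of_le inf_le_left)) (fun z hz => by simpa [ai] using conj_mem nn ha hz) hx
  have key : ∀ w ∈ K ⊓ C(B), (a ∈ C1(w) ∨ a * w * a⁻¹ = w⁻¹) → Eig A w := fun w hw e c hc => by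
    rw [← hB.sup_elt Nat.prime_two ha a1, mem_sup_of_cent (cent_mono hA.abel hB.le (zpowers_le.2 ha))] at hc
    obtain ⟨b, hb, z, hz, rfl⟩ := hc
    have b1 : b ∈ C1(w) := mem_C1_comm.1 (C_le_C1 hb hw.2)
    rcases zp_two a2 hz with rfl | rfl
    · exact Or.inl (by simpa using b1)
    · refine e.imp (mul_mem b1) fun e => ?_
      calc _ = b * (z * w * z⁻¹) * b⁻¹ := by group
        _ = _ := by rw [e]; exact conj_eq_self_of_C1 (by rwa [C1_inv])
  by_cases c : v ∈ X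
  · exact ⟨k, hk.1, fun e => x1 (mul_mem c e), key k hk (Or.inr (by rwa [ai]))⟩
  · exact ⟨v, hv.1, c, key v hv (Or.inl (mem_C1.2 (by rw [← mul_inv_eq_iff_eq_mul, ai, e1])))⟩

theorem exists_abel_faith (hA : Elem 2 A) (h : Cop A L) (ho : Odd (Nat.card L)) (hs : Solv L) (hf : A ⊓ C(L) = ⊥) :
    ∃ M ≤ L, Abel M ∧ A ≤ N(M) ∧ A ⊓ C(M) = ⊥ := by
  have nF := norm_fit h.norm
  obtain ⟨M, ⟨h1, h2, h3⟩, mx⟩ := Set.Finite.exists_maximal (s := {M : Subgroup G | M ⊴ F(L) ∧ Abel M ∧ A ≤ N(M)})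
    (Set.toFinite _) ⟨⊥, Nml.bot, abel_bot, by simp⟩
  have c : F(L) ⊓ C(M) ≤ M := by
    by_contra n
    obtain ⟨W, ⟨w1, w2, w3, w4⟩, mn⟩ := Set.Finite.exists_minimal
      (s := {W : Subgroup G | W ⊴ F(L) ∧ W ≤ C(M) ∧ A ≤ N(W) ∧ ¬ W ≤ M}) (Set.toFinite _)
      ⟨_, h1.cent, inf_le_right, norm_inf nF (norm_C h3), n⟩
    have lt := fit_nil.comm_lt w1.le le_rfl w1.norm (fun e => w4 (e ▸ bot_le))
    have cm : ⁅W, F(L)⁆ ≤ M := by
      by_contra k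
      exact lt.not_ge (mn ⟨w1.comm Nml.rfl, lt.le.trans w2, norm_comm w3 nF, k⟩ lt.le)
    obtain ⟨x, hx, x1, ex⟩ := exists_eig hA (h.sub (w1.le.trans fit_le) w3)
      (ho.of_dvd_nat (card_dvd_of_le (w1.le.trans fit_le))) w4
    have zx : zpowers x ≤ W := zpowers_le.2 hx
    refine x1 (mx (y := M ⊔ zpowers x) ⟨⟨sup_le h1.le (zx.trans w1.le), norm_iff_comm_le'.2 ?_⟩,
      h2.sup abel_zpowers (cent_symm (zx.trans w2)), norm_sup h3 ex.norm⟩ le_sup_left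
      (le_sup_right (a := M) (mem_zpowers x)))
    exact (comm_sup_le (comm_le_left h1.norm) ((comm_mono zx le_rfl).trans cm) le_N (cent_norm (zx.trans w2))).trans
      le_sup_left
  refine ⟨M, h1.le.trans fit_le, h2, h3, eq_bot_iff.2 (hf ▸ le_inf inf_le_left (cent_symm ?_))⟩
  have cB : Cop (A ⊓ C(M)) L := h.left inf_le_left
  refine cB.cent_of_cent_fit hs ((cB.sub fit_le (inf_le_left.trans nF)).cent_of_comm_cent ?_)
  refine (le_trans (le_inf (comm_le_left (inf_le_left.trans nF)) (comm_eq_bot_iff.1 (three_subgroup ?_ ?_))) c).trans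
    (cent_symm inf_le_right)
  · rw [comm_eq_bot_iff.2 inf_le_right, commutator_bot_left]
  · exact comm_eq_bot_iff.2 ((comm_le_left h1.norm).trans (cent_symm inf_le_right))

theorem tdl_aux (hA : Elem 2 A) (h : Cop A M) (ho : Odd (Nat.card M)) (hf : A ⊓ C(M) = ⊥) (k : ℕ) :
    ∀ B ≤ A, Nat.card B = 2 ^ k → ∃ a x : Fin k → G, (∀ i, a i ∈ B ∧ x i ∈ M ∧ Eig A (x i) ∧ a i ∉ C1(x i)) ∧
      (∀ i j, i ≠ j → a j ∈ C1(x i)) ∧ B ≤ ⨆ i, zpowers (a i) ∧ ∀ b ∈ A, ∃ c ∈ B, ∀ i, b * c ∈ C1(x i) := by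
  induction k with
  | zero =>
    intro B hB e
    exact ⟨Fin.elim0, Fin.elim0, fun i => i.elim0, fun i => i.elim0, (card_eq_one.1 e).le.trans bot_le,
      fun b _ => ⟨1, one_mem _, fun i => i.elim0⟩⟩
  | succ k ih =>
    intro B hB e
    obtain ⟨y, hy, y1, ey⟩ := exists_eig (X := C(B)) hA h ho fun c => by
      rw [eq_bot_iff.2 (hf ▸ le_inf hB (cent_symm c) : B ≤ ⊥), card_bot] at e
      have := Nat.one_lt_two_pow (n := k + 1) (by omega)
      omega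
    obtain ⟨b, hb, b1⟩ := SetLike.not_le_iff_exists.1 (mt le_C1_iff.1 y1)
    have i2 : (B ⊓ C1(y)).relIndex B = 2 := by
      rw [inf_relIndex_left, relIndex, index_eq_two_iff]
      refine ⟨⟨b, hb⟩, fun z => ?_⟩
      simp only [mem_subgroupOf, Subgroup.coe_mul]
      by_cases c : (z : G) ∈ C1(y)
      · exact Or.inr ⟨c, fun k => b1 ((mul_mem_cancel_left c).1 k)⟩
      · exact Or.inl ⟨ey.mul (hB z.2) (hB hb) c b1, c⟩
    obtain ⟨a, x, h1, h2, h3, h4⟩ := ih (B ⊓ C1(y)) (inf_le_left.trans hB) (by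
      have := H18.card_mul_relIndex (inf_le_left : B ⊓ C1(y) ≤ B)
      rw [i2, e, pow_succ] at this
      omega)
    obtain ⟨c, hc, ec⟩ := h4 b (hB hb)
    have n0 : b * c ∉ C1(y) := fun k => b1 ((C1(y).mul_mem_cancel_right hc.2).1 k)
    have m0 : b * c ∈ B := B.mul_mem hb hc.1
    refine ⟨Fin.cons (b * c) a, Fin.cons y x, Fin.forall_fin_succ.2 ⟨⟨m0, hy, ey, n0⟩, fun i =>
      ⟨(h1 i).1.1, (h1 i).2⟩⟩, Fin.forall_fin_succ.2 ⟨Fin.forall_fin_succ.2 ⟨fun n => absurd rfl n, fun j _ => (h1 j).1.2⟩,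
      fun i => Fin.forall_fin_succ.2 ⟨fun _ => ec i, fun j n => h2 i j fun e => n (e ▸ rfl)⟩⟩, fun z hz => ?_, fun z hz => ?_⟩
    · have s : B ⊓ C1(y) ≤ ⨆ i, zpowers ((Fin.cons (b * c) a : Fin (k + 1) → G) i) :=
        h3.trans (iSup_le fun i => le_iSup_of_le i.succ le_rfl)
      by_cases q : z ∈ C1(y)
      · exact s ⟨hz, q⟩
      · exact (mul_mem_cancel_right (le_iSup (fun i => zpowers ((Fin.cons (b * c) a : Fin (k + 1) → G) i)) 0
          (mem_zpowers _))).1 (s ⟨B.mul_mem hz m0, ey.mul (hB hz) (hB m0) q n0⟩)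
    · by_cases q : z ∈ C1(y)
      · obtain ⟨d, hd, ed⟩ := h4 z hz
        exact ⟨d, hd.1, Fin.forall_fin_succ.2 ⟨mul_mem q hd.2, ed⟩⟩
      · obtain ⟨d, hd, ed⟩ := h4 (z * (b * c)) (A.mul_mem hz (hB m0))
        exact ⟨b * c * d, B.mul_mem m0 hd.1, Fin.forall_fin_succ.2 ⟨by
          rw [← mul_assoc]; exact mul_mem (ey.mul hz (hB m0) q n0) hd.2, fun i => by rw [← mul_assoc]; exact ed i⟩⟩

theorem tdl {d : ℕ} (hA : Elem 2 A) (hn : A ≤ N(L)) (ho : Odd (Nat.card L)) (hs : Solv L) (hf : A ⊓ C(L) = ⊥)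
    (hd : Nat.card A = 2 ^ d) : ∃ (Ai Li : Fin d → Subgroup G) (n : Fin d → ℕ), (∀ i, Ai i ≤ A ∧ Nat.card (Ai i) = 2 ∧
      Li i ≤ L ∧ Odd (n i) ∧ 3 ≤ n i ∧ Nonempty (↥(Ai i ⊔ Li i) ≃* DihedralGroup (n i))) ∧ (⨆ i, Ai i) = A ∧
      ∀ i j, i ≠ j → ∀ x ∈ Ai i ⊔ Li i, ∀ y ∈ Ai j ⊔ Li j, x * y = y * x := by
  have h : Cop A L := ⟨hn, by rw [hd]; exact (Nat.coprime_two_left.2 ho).pow_left _, Or.inr hs⟩
  obtain ⟨M, hM, m1, m2, m3⟩ := exists_abel_faith hA h ho hs hf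
  obtain ⟨a, x, h1, h2, h3, -⟩ := tdl_aux hA (h.sub hM m2) (ho.of_dvd_nat (card_dvd_of_le hM)) m3 d A le_rfl hd
  refine ⟨fun i => zpowers (a i), fun i => zpowers (x i), fun i => orderOf (x i), fun i => ?_,
    (iSup_le fun i => zpowers_le.2 (h1 i).1).antisymm h3, fun i j n => cent_iff.1 (sup_le (cent_sup ?_ ?_) (cent_sup ?_ ?_))⟩
  · obtain ⟨p1, p2, p3, p4⟩ := h1 i
    have a2 : a i * a i = 1 := by rw [← pow_two, hA.pow _ p1]
    have ox : Odd (orderOf (x i)) := ho.of_dvd_nat (L.orderOf_dvd_natCard (hM p2))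
    refine ⟨zpowers_le.2 p1, ?_, zpowers_le.2 (hM p2), ox, ?_, ?_⟩
    · rw [Nat.card_zpowers]
      exact orderOf_eq_prime (by rw [pow_two, a2]) fun e => p4 (e ▸ one_mem _)
    · have : orderOf (x i) ≠ 1 := fun e => p4 (by rw [orderOf_eq_one_iff.1 e, C1_one]; trivial)
      obtain ⟨m, e⟩ := ox
      show 3 ≤ orderOf (x i)
      omega
    · show Nonempty (↥(zpowers (a i) ⊔ zpowers (x i)) ≃* DihedralGroup (orderOf (x i)))
      rw [zpowers_eq_closure, zpowers_eq_closure, ← Subgroup.closure_union]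
      exact H9.nonempty_closure_equiv_dihedral (orderOf_pos _).ne' rfl a2 ((p3 _ p1).resolve_left p4)
        fun k => p4 (zpowers_le.2 C1_self k)
  · exact cent_mono hA.abel (zpowers_le.2 (h1 i).1) (zpowers_le.2 (h1 j).1)
  · exact zpowers_le.2 (C_zpowers.ge (h2 j i n.symm))
  · exact cent_symm (zpowers_le.2 (C_zpowers.ge (h2 i j n)))
  · exact cent_mono m1 (zpowers_le.2 (h1 i).2.1) (zpowers_le.2 (h1 j).2.1)

end H117
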