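import Cfsg.Agent.H17.FStar
import Cfsg.Agent.H18.Basic
import Cfsg.Agent.H24.LinG

/-! `SL ι F` is quasisimple (`qs_SL`), its image `SS` in `GL ι F`, centralizers of reflections-type involutions
(`blk_of_comm`), the standard subgroup `SL(n-1, q)` of `SL(n, q)` (`std_SL`). -/

set_option autoImplicit false
set_option linter.unusedSectionVars false
set_option linter.unusedVariables false

namespace H17
open Subgroup Cfsg Matrix H24
open scoped commutatorElement MatrixGroups

variable {ι : Type*} [Fintype ι] [DecidableEq ι] {F : Type*} [Field F] [Fintype F]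

theorem qs_SL {m : ℕ} (h : 3 ≤ m ∨ (m = 2 ∧ 4 ≤ Fintype.card F)) : IsQuasisimple (SpecialLinearGroup (Fin m) F) := by
  rcases h with h | ⟨rfl, h⟩
  · exact ⟨⟨H10.commutator_SL_eq_top (by simpa using h)⟩, H10.PSL_isSimpleGroup (by simpa using h)⟩
  · obtain ⟨a, a0, a1⟩ : ∃ a : F, a ≠ 0 ∧ a ^ 2 ≠ 1 := by
      classical
      by_contra! k
      have : (Finset.univ : Finset F) ⊆ {0, 1, -1} := fun a _ => by
        by_cases c : a = 0
        · simp [c]
        · rcases sq_eq_one_iff.1 (k a c) with e | e <;> simp [e]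
      have := (Finset.card_le_card this).trans Finset.card_le_three
      rw [Finset.card_univ] at this
      omega
    exact ⟨⟨SL2.commutator_eq_top a0 a1⟩, ProjectiveSpecialLinearGroup.rank_two_simple' ⟨a, a0, a1⟩⟩

theorem two_ne_of_odd (h : Odd (Fintype.card F)) : (2 : F) ≠ 0 := fun k => by
  have := FiniteField.even_card_iff_char_two.1 ((ringChar.spec F 2).1 (by exact_mod_cast k) |>
    fun d => ((Nat.dvd_prime Nat.prime_two).1 d).resolve_left CharP.ringChar_ne_one)
  obtain ⟨a, e⟩ := h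
  omega

variable (ι F) in
/-- `SL` inside `GL` -/
abbrev SS : Subgroup (GL ι F) := (SpecialLinearGroup.toGL : SpecialLinearGroup ι F →* GL ι F).range

theorem mem_SS {g : GL ι F} : g ∈ SS ι F ↔ (g : Matrix ι ι F).det = 1 :=
  ⟨fun ⟨x, e⟩ => e ▸ x.2, fun h => ⟨⟨g, h⟩, Units.ext rfl⟩⟩

theorem SS_eq : SS ι F = (GeneralLinearGroup.det : GL ι F →* Fˣ).ker := by
  ext g
  rw [mem_SS, MonoidHom.mem_ker, Units.ext_iff]; rfl

instance : (SS ι F).Normal := SS_eq (ι := ι) (F := F) ▸ inferInstance

theorem qs_SS (h : IsQuasisimple (SpecialLinearGroup ι F)) : IsQuasisimple (SS ι F) :=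
  isQuasisimple_of_mulEquiv (MonoidHom.ofInjective fun _ _ => toGL_inj) h

theorem lay_GL (h : IsQuasisimple (SpecialLinearGroup ι F)) : lay (⊤ : Subgroup (GL ι F)) = SS ι F := by
  refine le_antisymm ((lay_perfect _).ge.trans ((commutator_mono le_top le_top).trans ?_))
    (IsComp.le_lay ⟨Subn.of_normal_top _, qs_SS h⟩)
  rw [SS_eq]
  exact Abelianization.commutator_subset_ker _

theorem scalar_of_cent {d : GL ι F} (h : d ∈ centralizer (SS ι F : Set (GL ι F))) : ∃ r : F, scalar ι r = d :=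
  mem_range_scalar_of_commute_transvectionStruct fun t => congrArg Units.val (h _ ⟨⟨t.toMatrix, by simp⟩, rfl⟩)

theorem blk_of_comm (h2 : (2 : F) ≠ 0) {g : GL (Unit ⊕ ι) F} (h : g * blk 1 (-1 : GL ι F) = blk 1 (-1 : GL ι F) * g) : ∃ c d, g = blk c d := by
  have e := congrArg Units.val h
  have hd := (GeneralLinearGroup.det g).ne_zero
  rw [GeneralLinearGroup.val_det_apply] at hd
  rw [Units.val_mul, Units.val_mul, coe_blk] at e
  have k : ∀ x : F, -x = x → x = 0 := fun x hx => (mul_eq_zero.1 (by rw [two_mul]; nth_rw 1 [← hx]; exact neg_add_cancel x)).resolve_left h2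
  obtain ⟨a, b, c, d, eg⟩ : ∃ a b c d, (g : Matrix (Unit ⊕ ι) (Unit ⊕ ι) F) = fromBlocks a b c d :=
    ⟨_, _, _, _, (fromBlocks_toBlocks _).symm⟩
  rw [eg] at e hd
  simp only [fromBlocks_multiply, fromBlocks_inj] at e
  obtain rfl : b = 0 := by ext i j; exact k _ (by simpa using congrFun (congrFun e.2.1 i) j)
  obtain rfl : c = 0 := by ext i j; exact k _ (by simpa using (congrFun (congrFun e.2.2.1 i) j).symm)
  rw [det_fromBlocks_zero₂₁, mul_ne_zero_iff] at hd
  refine ⟨Units.mk0 (a () ()) (by simpa using hd.1), GeneralLinearGroup.mkOfDetNeZero d hd.2, Units.ext ?_⟩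
  rw [eg, coe_blk]
  congr 1
  ext i j
  simp

theorem std_of_hom {G : Type*} [Group G] [Finite G] {t : G} [Nonempty ι] (h2 : (2 : F) ≠ 0) (φ : GL ι F →* G)
    (inj : Function.Injective φ) (hr : φ.range = centralizer {t}) (ht : φ (-1) = t) (hs : -1 ∈ SS ι F)
    (qs : IsQuasisimple (SpecialLinearGroup ι F)) : IsStandardSubgroup (lay (centralizer ({t} : Set G))) := by
  have nL := normalizer_le_lay (centralizer ({t} : Set G))
  have e : lay (centralizer ({t} : Set G)) = (SS ι F).map φ := by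
    rw [← hr, MonoidHom.range_eq_map, ← map_lay_eq_of_injective φ inj, lay_GL qs]
  rw [e] at nL ⊢
  have tL : t ∈ (SS ι F).map φ := ⟨_, hs, ht⟩
  have q := (qs_map_injective_iff inj).2 (qs_SS qs)
  have t1 : t ≠ 1 := fun k => by
    obtain ⟨i⟩ := ‹Nonempty ι›
    have := congrArg (fun x : GL ι F => (x : Matrix ι ι F) i i) (inj ((ht.trans k).trans φ.map_one.symm))
    exact h2 (by simpa [neg_eq_iff_add_eq_zero, one_add_one_eq_two] using this)
  have t2 : orderOf t = 2 := orderOf_eq_prime (by rw [← ht, ← map_pow]; simp) t1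
  have sc : ∀ s ∈ centralizer ((SS ι F).map φ : Set G), ∃ d : GL ι F, φ d = s ∧ ∃ r : F, scalar ι r = d := fun s hs => by
    obtain ⟨d, rfl⟩ := hr.ge (centralizer_le_centralizer_singleton tL hs)
    exact ⟨d, rfl, scalar_of_cent fun x hx => inj (by rw [map_mul, map_mul]; exact hs _ ⟨x, hx, rfl⟩)⟩
  have tK : t ∈ centralizer ((SS ι F).map φ : Set G) := by
    rintro _ ⟨x, -, rfl⟩
    rw [← ht, ← map_mul, ← map_mul]; simp
  have uq : ∀ s ∈ centralizer ((SS ι F).map φ : Set G), orderOf s = 2 → s = t := fun s hs o => by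
    obtain ⟨d, rfl, r, er⟩ := sc s hs
    rw [orderOf_injective φ inj] at o
    have := congrArg Units.val (o ▸ pow_orderOf_eq_one d : d ^ 2 = 1)
    rw [Units.val_pow_eq_pow_val, ← er, ← map_pow, Units.val_one, ← (scalar ι).map_one, scalar_inj] at this
    rcases sq_eq_one_iff.1 this with rfl | rfl
    · rw [show d = 1 from Units.ext (by simp [← er]), orderOf_one] at o; omega
    · rw [← ht, show d = -1 from Units.ext (by rw [← er, map_neg, map_one]; rfl)]
  have nK : ∀ g, t ∈ cj g (centralizer ((SS ι F).map φ : Set G)) → g ∈ normalizer ((SS ι F).map φ : Set G) := fun g hg => by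
    have := uq _ (mem_cj.1 hg) (by simpa [t2] using H18.orderOf_conj (g := g⁻¹) (x := t))
    exact nL (le_normalizer (mem_centralizer_singleton_iff.2 (by rw [← mul_inv_eq_iff_eq_mul]; nth_rw 1 [← this]; group)))
  refine ⟨q, ⟨even_iff_two_dvd.2 (t2 ▸ orderOf_dvd_card_of_mem tK), fun g hg => Nat.not_even_iff_odd.1 fun ev => hg ?_⟩,
    fun g _ c => ?_, le_antisymm (normalizer_le_normalizer_centralizer _) fun g hg => nK g ?_⟩
  · obtain ⟨s, hs, o⟩ := exists_orderOf_eq_of_dvd (even_iff_two_dvd.1 ev)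
    exact normalizer_le_normalizer_centralizer _ (nK g (uq s hs.1 o ▸ hs.2))
  · refine qs_not_le_centralizer (qs_cj q g) fun x hx y hy => ?_
    obtain ⟨d, rfl, r, er⟩ := sc x (le_centralizer_of_commutator_eq_bot' c hx)
    obtain ⟨d', rfl, -⟩ := sc y (le_centralizer_of_commutator_eq_bot' c hy)
    rw [← map_mul, ← map_mul]
    congr 1
    exact Units.ext (by rw [Units.val_mul, Units.val_mul, ← er]; exact (scalar_commute r (Commute.all r) _).symm)
  · rwa [mem_normalizer_iff_cj.1 hg]

theorem emb_inj : Function.Injective (emb : GL ι F →* SpecialLinearGroup (Unit ⊕ ι) F) := fun a b h =>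
  Units.ext (fromBlocks_inj.1 (congrArg Subtype.val h)).2.2.2

theorem toGL_emb_neg (h : -1 ∈ SS ι F) : SpecialLinearGroup.toGL (emb (-1 : GL ι F)) = blk 1 (-1 : GL ι F) := by
  rw [toGL_emb, show GeneralLinearGroup.det (-1 : GL ι F) = 1 from SS_eq.le h, inv_one]

theorem range_emb (h2 : (2 : F) ≠ 0) (h : -1 ∈ SS ι F) : (emb : GL ι F →* _).range = centralizer {emb (-1 : GL ι F)} := by
  refine le_antisymm ?_ fun g hg => ?_
  · rintro _ ⟨x, rfl⟩
    exact mem_centralizer_singleton_iff.2 (by rw [← map_mul, ← map_mul]; simp)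
  · obtain ⟨c, d, e⟩ := blk_of_comm (g := SpecialLinearGroup.toGL g) h2 (by
      rw [← toGL_emb_neg h, ← map_mul, ← map_mul, mem_centralizer_singleton_iff.1 hg])
    refine ⟨d, toGL_inj ?_⟩
    have := det_blk c d
    rw [← e, coe_toGL', g.2] at this
    rw [toGL_emb, e, inv_eq_of_mul_eq_one_left (Units.ext this.symm : c * GeneralLinearGroup.det d = 1)]

theorem even_card_SS (h2 : (2 : F) ≠ 0) [Nontrivial ι] : 2 ∣ Nat.card (SS ι F) := by
  obtain ⟨i, j, n⟩ := exists_pair_ne ι
  let v : ι → F := Function.update (1 : ι → F) i (-1) * Function.update (1 : ι → F) j (-1)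
  have hd : (diagonal v).det = 1 := by
    simp [v, Finset.prod_mul_distrib, Finset.prod_update_of_mem]
  have o : orderOf (SpecialLinearGroup.toGL (⟨diagonal v, hd⟩ : SpecialLinearGroup ι F)) = 2 := by
    refine orderOf_eq_prime (Units.ext ?_) fun k => h2 ?_
    · rw [pow_two, Units.val_mul]
      show diagonal v * diagonal v = 1
      rw [diagonal_mul_diagonal, ← diagonal_one]
      congr 1
      ext x
      by_cases a : x = i <;> by_cases b : x = j <;> simp [v, Function.update, a, b, n, n.symm]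
    · have : diagonal v i i = (1 : Matrix ι ι F) i i := congrArg (fun x : GL ι F => (x : Matrix ι ι F) i i) k
      simpa [v, n, neg_eq_iff_add_eq_zero, one_add_one_eq_two] using this
  exact o ▸ orderOf_dvd_card_of_mem ⟨_, rfl⟩

end H17
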