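import Cfsg.Agent.H3.U3
import Cfsg.Agent.H1.Cores

/-! Automorphism groups of the 2-groups with coordinates `(a, b) (a', b') = (a + a', b + b' + σ a * a')`:
`H17.CD` (coordinates), `CD.aut` (order of `Aut` and of `O₂(Aut)` when all automorphisms are semilinear),
`H17.semi_u3`, `H17.semi_sz` (semilinearity for the unitary and the Suzuki case). -/

set_option autoImplicit false

namespace H17

open Subgroup Cfsg

variable {F : Type*} [Field F] {T : Type*} [Group T]

structure CD (σ : F ≃+* F) (D : F → Prop) (f z : T → F) : Prop where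
  mul_f : ∀ x y, f (x * y) = f x + f y
  mul_z : ∀ x y, z (x * y) = z x + z y + σ (f x) * f y
  inj : ∀ x y, f x = f y → z x = z y → x = y
  f_surj : ∀ a, ∃ x, f x = a
  z_surj : ∀ t, D t → ∃ a, f a = 0 ∧ z a = t
  root : ∀ a, f a = 0 → ∃ x, x * x = a
  lift : ∀ c ≠ 0, ∀ φ : F ≃+* F, ∀ x, ∃ y, f y = c * φ (f x) ∧ z y = c * σ c * φ (z x)
  dN : ∀ a, D (σ a * a)

def Semi (σ : F ≃+* F) (D : F → Prop) : Prop := ∀ r τ : F → F, (∀ x y, r (x + y) = r x + r y) → Function.Injective r →
  (∀ s t, D s → D t → τ (s + t) = τ s + τ t) → (∀ x, σ (r x) * r x = τ (σ x * x)) → r 1 = 1 → ∃ φ : F ≃+* F, ∀ x, r x = φ x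

namespace CD
variable {σ : F ≃+* F} {D : F → Prop} {f z : T → F} (h : CD σ D f z)
include h

theorem f_one : f 1 = 0 := by simpa using h.mul_f 1 1
theorem z_one : z 1 = 0 := by simpa [h.f_one] using h.mul_z 1 1
theorem cent {a : T} (ha : f a = 0) (x : T) : x * a = a * x :=
  h.inj _ _ (by rw [h.mul_f, h.mul_f, add_comm]) (by simp [h.mul_z, ha, add_comm])

variable [CharP F 2]
theorem f_sq (x : T) : f (x * x) = 0 := by rw [h.mul_f, CharTwo.add_self_eq_zero]
theorem z_sq (x : T) : z (x * x) = σ (f x) * f x := by rw [h.mul_z, CharTwo.add_self_eq_zero, zero_add]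
theorem sq_eq_one {x : T} : x * x = 1 ↔ f x = 0 :=
  ⟨fun e => by simpa [e, h.z_one] using (h.z_sq x).symm, fun e => h.inj _ _ ((h.f_sq x).trans h.f_one.symm)
    (by rw [h.z_sq, e, mul_zero, h.z_one])⟩
theorem f_inv (x : T) : f x⁻¹ = f x := CharTwo.add_eq_zero.1 (by rw [← h.mul_f, inv_mul_cancel, h.f_one])
theorem f_aut (e : MulAut T) {x y : T} (hx : f x = f y) : f (e x) = f (e y) := by
  have : f (e (x * y⁻¹)) = 0 := h.sq_eq_one.1 (by
    rw [← map_mul, h.sq_eq_one.2 (by rw [h.mul_f, h.f_inv, hx, CharTwo.add_self_eq_zero]), map_one])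
  rwa [map_mul, map_inv, h.mul_f, h.f_inv, CharTwo.add_eq_zero] at this

variable [Finite F] [Finite T]

omit [CharP F 2] in
theorem exists_aut {c : F} (hc : c ≠ 0) (φ : F ≃+* F) :
    ∃ e : MulAut T, ∀ x, f (e x) = c * φ (f x) ∧ z (e x) = c * σ c * φ (z x) := by
  choose s h1 h2 using h.lift c hc φ
  have hc' : c * σ c ≠ 0 := mul_ne_zero hc ((map_ne_zero σ).2 hc)
  have cm : ∀ x, σ (φ x) = φ (σ x) := fun x => DFunLike.congr_fun (H25.ringAut_comm σ φ) x
  exact ⟨MulEquiv.ofBijective (MonoidHom.mk' s fun x y => h.inj _ _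
    (by rw [h.mul_f, h1, h1, h1, h.mul_f, map_add, mul_add])
    (by rw [h.mul_z, h1, h1, h2, h2, h2, h.mul_z, map_mul, map_add, map_add, map_mul, cm]; ring))
    (Finite.injective_iff_bijective.1 fun x y e => h.inj _ _
      (φ.injective (mul_left_cancel₀ hc ((h1 x).symm.trans ((congrArg f e).trans (h1 y)))))
      (φ.injective (mul_left_cancel₀ hc' ((h2 x).symm.trans ((congrArg z e).trans (h2 y)))))), fun x => ⟨h1 x, h2 x⟩⟩

theorem semi (hs : Semi σ D) (e : MulAut T) : ∃ c ≠ 0, ∃ φ : F ≃+* F, ∀ x, f (e x) = c * φ (f x) := by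
  choose s hs' using h.f_surj
  have c0 : f (e (s 1)) ≠ 0 := fun h0 => one_ne_zero ((hs' 1).symm.trans (h.sq_eq_one.1
    (e.injective (by rw [map_mul, h.sq_eq_one.2 h0, map_one]))))
  obtain ⟨m, hm⟩ := h.exists_aut (inv_ne_zero c0) 1
  classical
  let c : F → T := fun b => if hb : ∃ a, f a = 0 ∧ z a = b then hb.choose else 1
  have c2 : ∀ x, f x = 0 → c (z x) = x := fun x hx => by
    have hb : ∃ a, f a = 0 ∧ z a = z x := ⟨x, hx, rfl⟩
    simp only [c, dif_pos hb]
    exact h.inj _ _ (hb.choose_spec.1.trans hx.symm) hb.choose_spec.2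
  have hc : ∀ x, f x = 0 → f ((m * e) x) = 0 := fun x hx => by rw [h.f_aut _ (hx.trans h.f_one.symm), map_one, h.f_one]
  obtain ⟨φ, hφ⟩ := hs (fun a => f ((m * e) (s a))) (fun t => z ((m * e) (c t))) (fun x y => by
      rw [← h.mul_f, ← map_mul]; exact h.f_aut _ (by rw [h.mul_f, hs', hs', hs']))
    (fun x y e1 => by simpa [hs'] using h.f_aut (m * e)⁻¹ e1) (fun x y hx hy => by
      obtain ⟨a, a1, rfl⟩ := h.z_surj x hx
      obtain ⟨b, b1, rfl⟩ := h.z_surj y hy
      have := c2 (a * b) (by rw [h.mul_f, a1, b1, add_zero])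
      rw [h.mul_z, b1, mul_zero, add_zero] at this
      rw [this, c2 a a1, c2 b b1, map_mul, h.mul_z, hc b b1, mul_zero, add_zero]) (fun x => by
      have := c2 _ (h.f_sq (s x))
      rw [h.z_sq, hs'] at this
      rw [this, map_mul, h.z_sq]) (by rw [MulAut.mul_apply, (hm _).1]; exact inv_mul_cancel₀ c0)
  refine ⟨_, c0, φ, fun x => ?_⟩
  rw [← hφ, h.f_aut _ (hs' (f x)), MulAut.mul_apply, (hm _).1, mul_inv_cancel_left₀ c0]; rfl

theorem aut [Fintype F] {m q : ℕ} (hF : Fintype.card F = 2 ^ m) (hq : Nat.card {a // f a = 0} = q) (hs : Semi σ D) :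
    IsElementaryAbelian 2 (pCore 2 (MulAut T)) ∧ Nat.card (pCore 2 (MulAut T)) = q ^ m ∧
      Nat.card (MulAut T) = q ^ m * (m * (2 ^ m - 1)) := by
  choose s hs' using h.f_surj
  let _ : MulAction (MulAut T) F :=
    { smul e a := f (e (s a)), one_smul := hs', mul_smul := fun e e' a => h.f_aut e (hs' _).symm }
  have sm : ∀ (e : MulAut T) x, e • f x = f (e x) := fun e x => h.f_aut e (hs' _)
  let ρ := MulAction.toPermHom (MulAut T) F
  have mK : ∀ e, e ∈ ρ.ker ↔ ∀ x, f (e x) = f x := fun e => ⟨fun he x => (sm e x).symm.trans (Equiv.congr_fun he _),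
    fun he => Equiv.ext fun a => (he _).trans (hs' a)⟩
  have k1 : ∀ e ∈ ρ.ker, ∀ x, ∃ a, f a = 0 ∧ e x = x * a := fun e he x =>
    ⟨x⁻¹ * e x, by rw [h.mul_f, h.f_inv, (mK e).1 he, CharTwo.add_self_eq_zero], by simp⟩
  have k2 : ∀ e ∈ ρ.ker, ∀ a, f a = 0 → e a = a := fun e he a ha => by
    obtain ⟨x, rfl⟩ := h.root a ha
    obtain ⟨b, b1, b2⟩ := k1 e he x
    rw [map_mul, b2, mul_assoc, ← mul_assoc b, ← h.cent b1, mul_assoc, h.sq_eq_one.2 b1, mul_one]
  have k3 : ∀ e ∈ ρ.ker, e ^ 2 = 1 := fun e he => MulEquiv.ext fun x => by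
    obtain ⟨b, b1, b2⟩ := k1 e he x
    rw [sq, MulAut.mul_apply, b2, map_mul, b2, k2 e he b b1, mul_assoc, h.sq_eq_one.2 b1, mul_one]; rfl
  have two : ∀ (c : F) (e : MulAut T), e ∈ pCore 2 (MulAut T) → (∀ x, f (e x) = c * f x) → c = 1 := fun c e he h1 => by
    obtain ⟨k, hk⟩ := H1.pCore_isPGroup 2 _ ⟨e, he⟩
    have : ∀ (n : ℕ) x, f ((e ^ n) x) = c ^ n * f x := fun n x => by
      induction n with
      | zero => simp
      | succ n ih => rw [pow_succ', MulAut.mul_apply, h1, ih, pow_succ', mul_assoc]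
    have := this (2 ^ k) (s 1)
    rw [show e ^ 2 ^ k = 1 from congrArg Subtype.val hk, MulAut.one_apply, hs', mul_one] at this
    rw [← sub_eq_zero, ← pow_eq_zero_iff (pow_ne_zero k two_ne_zero), sub_pow_char_pow, ← this, one_pow, sub_self]
  have hK : pCore 2 (MulAut T) = ρ.ker := le_antisymm (fun e he => by
    obtain ⟨c, c0, φ, h1⟩ := h.semi hs e
    obtain rfl : φ = 1 := RingEquiv.ext fun d => by
      by_cases d0 : d = 0
      · simp [d0]
      obtain ⟨n, hn⟩ := h.exists_aut d0 1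
      have d1 := (map_ne_zero φ).2 d0
      have := two (d / φ d) (n * e * n⁻¹ * e⁻¹) (mul_mem (Normal.conj_mem inferInstance e he _) (inv_mem he)) fun x => by
        obtain ⟨x, rfl⟩ := (e * n).surjective x
        simp only [MulAut.mul_apply, MulAut.inv_apply_self, h1, (hn _).1, map_mul, RingAut.one_apply]
        field_simp
      exact ((div_eq_one_iff_eq d1).1 this).symm
    exact (mK e).2 fun x => by rw [h1, two c e he h1, one_mul]; rfl)
    (H1.le_pCore fun e => ⟨1, Subtype.ext (k3 e e.2)⟩)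
  have cK : Nat.card ρ.ker = q ^ m := by
    let Z : Subgroup T := (MonoidHom.mk' (fun x => Multiplicative.ofAdd (f x)) h.mul_f).ker
    have mZ : ∀ a : Z, f a = 0 := fun a => a.2
    let _ : CommGroup Z := { (inferInstance : Group Z) with mul_comm := fun a b => Subtype.ext (h.cent (mZ b) a) }
    let _ : Module (ZMod 2) (Additive Z) := AddCommGroup.zmodModule fun a => by
      rw [two_nsmul]; exact Subtype.ext (h.sq_eq_one.2 (mZ a))
    let _ := ZMod.algebra F 2
    have e1 : ∀ (g : F →+ Additive Z) x, x * (g (f x)).toMul.1 * (g (f (x * (g (f x)).toMul.1))).toMul.1 = x := fun g x => by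
      rw [h.mul_f, mZ, add_zero, mul_assoc, h.sq_eq_one.2 (mZ _), mul_one]
    let Ψ : (F →+ Additive Z) → ρ.ker := fun g => ⟨⟨⟨fun x => x * (g (f x)).toMul.1, fun x => x * (g (f x)).toMul.1,
      e1 g, e1 g⟩, fun x y => by
        simp only [h.mul_f, map_add, toMul_add, coe_mul]
        rw [mul_assoc, mul_assoc, ← mul_assoc y, h.cent (mZ _) y, mul_assoc]⟩, (mK _).2 fun x => by
          change f (x * _) = _
          rw [h.mul_f, mZ, add_zero]⟩
    have bij : Function.Bijective Ψ := ⟨fun g g' e => AddMonoidHom.ext fun a => Subtype.ext (mul_left_cancel (a := s a) (by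
      have : s a * (g (f (s a))).toMul.1 = s a * (g' (f (s a))).toMul.1 := congrArg (fun e : ρ.ker => e.1 (s a)) e
      rwa [hs'] at this)), fun e => by
      choose t t1 t2 using k1 e.1 e.2
      have t3 : ∀ x y, f x = f y → t x = t y := fun x y hx => by
        obtain ⟨a, rfl⟩ : ∃ a, y = x * a := ⟨x⁻¹ * y, by simp⟩
        have a0 : f a = 0 := by simpa [h.mul_f] using hx
        have := t2 (x * a)
        rw [map_mul, t2, k2 e.1 e.2 a a0, mul_assoc, mul_assoc, mul_right_inj, h.cent a0, mul_right_inj] at this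
        exact this
      refine ⟨.mk' (fun a => .ofMul ⟨t (s a), t1 _⟩) fun a b => Subtype.ext ?_, Subtype.ext (MulEquiv.ext fun x => ?_)⟩
      · have := t2 (s a * s b)
        rw [map_mul, t2, t2, mul_assoc, mul_assoc, mul_right_inj, ← mul_assoc, ← h.cent (t1 _), mul_assoc, mul_right_inj,
          t3 (s a * s b) (s (a + b)) (by rw [h.mul_f, hs', hs', hs'])] at this
        exact this.symm
      · exact (congrArg (x * ·) (t3 _ _ (hs' _))).trans (t2 x).symm⟩
    have fr : Module.finrank (ZMod 2) F = m := by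
      have := Module.natCard_eq_pow_finrank (K := ZMod 2) (V := F)
      rw [Nat.card_eq_fintype_card, hF, Nat.card_zmod] at this
      exact (Nat.pow_right_injective le_rfl this).symm
    rw [← Nat.card_eq_of_bijective Ψ bij, Nat.card_congr (AddMonoidHom.toZModLinearMapEquiv 2).toEquiv,
      ← Nat.card_congr ((Module.finBasisOfFinrankEq (ZMod 2) F fr).constr ℕ).toEquiv, Nat.card_fun, Nat.card_fin, ← hq]
    rfl
  have cR : Nat.card ρ.range = m * (2 ^ m - 1) := by
    choose g hg using fun x : (F ≃+* F) × Fˣ => h.exists_aut x.2.ne_zero x.1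
    have hg' : ∀ x a, ρ (g x) a = x.2 * x.1 a := fun x a => ((hg x _).1).trans (by rw [hs'])
    refine (Nat.card_eq_of_bijective (fun x => (⟨ρ (g x), g x, rfl⟩ : ρ.range)) ⟨fun x y e => ?_, ?_⟩).symm.trans (by
      rw [Nat.card_prod, H25.card_ringAut hF, Nat.card_units, Nat.card_eq_fintype_card, hF])
    · have e := fun a => (hg' x a).symm.trans ((congrArg (fun e : ρ.range => e.1 a) e).trans (hg' y a))
      have e1 : x.2 = y.2 := Units.ext (by simpa using e 1)
      exact Prod.ext (RingEquiv.ext fun a => mul_left_cancel₀ y.2.ne_zero (e1 ▸ e a)) e1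
    · rintro ⟨_, e, rfl⟩
      obtain ⟨c, c0, φ, h1⟩ := h.semi hs e
      exact ⟨(φ, .mk0 c c0), Subtype.ext (Equiv.ext fun a => (hg' _ a).trans ((h1 (s a)).trans (by rw [hs']; rfl)).symm)⟩
  refine ⟨hK ▸ ⟨⟨⟨fun a b => Subtype.ext ?_⟩⟩, k3⟩, hK ▸ cK, by rw [← card_mul_index ρ.ker, index_ker, cK, cR]⟩
  have i : ∀ z ∈ ρ.ker, z⁻¹ = z := fun z hz => inv_eq_of_mul_eq_one_right (by rw [← sq, k3 z hz])
  rw [coe_mul, ← i _ (mul_mem a.2 b.2), mul_inv_rev, i _ a.2, i _ b.2, coe_mul]
end CD

variable [Finite F] [CharP F 2] {σ : F ≃+* F}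

open H3 in
theorem semi_u3 (inv : ∀ a, σ (σ a) = a) (ne : σ ≠ 1) : Semi σ fun t => σ t = t := by
  intro r τ ra ri τa hN r1
  have hB : ∀ x y, σ (r x) * r y + σ (r y) * r x = τ (σ x * y + σ y * x) := fun x y => by
    have := hN (x + y)
    rw [ra, map_add, map_add, show (σ x + σ y) * (x + y) = σ x * x + (σ y * y + (σ x * y + σ y * x)) by ring,
      τa _ _ (by simp [inv, mul_comm]) (by simp [inv, mul_comm, add_comm]),
      τa _ _ (by simp [inv, mul_comm]) (by simp [inv, mul_comm, add_comm]), ← hN, ← hN] at this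
    linear_combination this
  have τ0 : τ 0 = 0 := by simpa using τa 0 0 (map_zero σ) (map_zero σ)
  have h1 : ∀ x, r x + σ (r x) = τ (x + σ x) := fun x => by simpa [r1] using hB 1 x
  have rf : ∀ t, σ t = t → σ (r t) = r t := fun t ht => (CharTwo.add_eq_zero.1 (by
    rw [h1, ht, CharTwo.add_self_eq_zero, τ0])).symm
  obtain ⟨α, hα⟩ := exists_trace_one inv ne
  have τ1 : τ 1 = 1 := by simpa [r1] using (hN 1).symm
  have h2 : ∀ s t, σ s = s → σ t = t → τ (t * s) = r t * τ s := fun s t hs ht => by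
    have e := hB t (α * s)
    have e' := h1 (α * s)
    rw [map_mul, hs, ← add_mul, hα, one_mul] at e'
    rw [rf t ht, ht, map_mul, hs, show t * (α * s) + σ α * s * t = t * s by linear_combination (t * s) * hα] at e
    rw [← e, ← e']; ring
  have h3 : ∀ t, σ t = t → τ t = r t := fun t ht => by simpa [τ1] using h2 1 t (map_one σ) ht
  let θ : H25.fixF σ ≃+* H25.fixF σ :=
    { Equiv.ofBijective (fun t : H25.fixF σ => (⟨r t, H25.mem_fixF.2 (rf _ (H25.mem_fixF.1 t.2))⟩ : H25.fixF σ))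
        (Finite.injective_iff_bijective.1 fun a b e => Subtype.ext (ri (congrArg Subtype.val e))) with
      map_add' := fun s t => Subtype.ext (ra _ _)
      map_mul' := fun s t => Subtype.ext (by
        have hs := H25.mem_fixF.1 s.2
        have ht := H25.mem_fixF.1 t.2
        show r (s.1 * t.1) = r s.1 * r t.1
        rw [← h3 _ (by rw [map_mul, hs, ht]), h2 _ _ ht hs, h3 _ ht]) }
  obtain ⟨k, hk⟩ := H25.exists_eq_pow 2 θ
  let ψ := frob F ^ k
  have hψ : ∀ t, σ t = t → ψ t = r t := fun t ht => by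
    have e := congrArg Subtype.val (hk ⟨t, H25.mem_fixF.2 ht⟩)
    refine Eq.trans ?_ e.symm
    show (frob F ^ k) t = t ^ 2 ^ k
    clear e hk ψ
    induction k with
    | zero => simp
    | succ k ih => rw [pow_succ 2, pow_mul, ← ih, pow_succ' (frob F), RingAut.mul_apply, frob_apply, pow_two]
  have hc : ∀ x, σ (ψ x) = ψ (σ x) := fun x => DFunLike.congr_fun (H25.ringAut_comm σ ψ) x
  have h4 : ∀ x, r x = ψ x ∨ r x = (σ * ψ) x := fun x => by
    have e1 := h1 x
    have e2 := hN x
    have f1 : σ (x + σ x) = x + σ x := by rw [map_add, inv, add_comm]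
    have f2 : σ (σ x * x) = σ x * x := by rw [map_mul, inv, mul_comm]
    rw [h3 _ f1, ← hψ _ f1, map_add, ← hc] at e1
    rw [h3 _ f2, ← hψ _ f2, map_mul, ← hc] at e2
    have : (r x - ψ x) * (r x - σ (ψ x)) = 0 := by linear_combination (r x) * e1 - e2
    exact (mul_eq_zero.1 this).imp sub_eq_zero.1 sub_eq_zero.1
  by_contra hne
  push Not at hne
  obtain ⟨x, hx⟩ := hne ψ
  obtain ⟨y, hy⟩ := hne (σ * ψ)
  rcases h4 (x + y) with e | e <;> rw [ra, map_add] at e
  · exact hx (add_right_cancel (e.trans (by rw [(h4 y).resolve_right hy])))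
  · exact hy (add_left_cancel (e.trans (by rw [(h4 x).resolve_left hx])))

theorem cd_u3 {f z : T → F} (h : H3.U3D σ f z) : CD σ (fun t => σ t = t) f z :=
  ⟨h.mul_f, h.mul_z, h.inj, h.f_surj, fun _ => h.z_surj, fun a ha => by
    obtain ⟨c, hc⟩ := (H3.frob F).surjective (z a)
    rw [H3.frob_apply] at hc
    have c1 : σ c = c := H3.sq_inj (by rw [← map_mul, hc, h.fix ha])
    obtain ⟨x, rfl⟩ := h.f_surj c
    exact ⟨x, h.inj _ _ ((h.f_sq x).trans ha.symm) (by rw [h.z_sq, c1, hc])⟩, fun c _ φ x => h.surj _ _ (by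
      have cm : ∀ x, σ (φ x) = φ (σ x) := fun x => DFunLike.congr_fun (H25.ringAut_comm σ φ) x
      have := congrArg φ (h.cond x)
      simp only [map_mul, map_add, h.inv, cm] at this ⊢
      linear_combination (c * σ c) * this), fun a => by simp [h.inv, mul_comm]⟩

open H3 Finset in
theorem semi_sz (h4 : σ * σ * (σ * σ) ≠ 1) : Semi σ fun _ => True := by
  classical
  intro r τ ra _ τa hN r1
  obtain ⟨a, ha⟩ := add_repr (AddMonoidHom.mk' r ra)
  obtain ⟨b, hb⟩ := add_repr (AddMonoidHom.mk' τ fun s t => τa s t trivial trivial)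
  simp only [AddMonoidHom.mk'_apply] at ha hb
  have cm := H25.ringAut_comm (F := F)
  let c : (F ≃+* F) → (F ≃+* F) → F := fun p q => σ (a (σ⁻¹ * p)) * a q + if p = σ * q then b q else 0
  have Q : ∀ x, ∑ p, ∑ q, c p q * (p x * q x) = 0 := fun x => by
    simp only [c, add_mul, sum_add_distrib, ite_mul, zero_mul]
    rw [CharTwo.add_eq_zero, sum_comm (f := fun p q => if p = σ * q then _ else _)]
    simp only [sum_ite_eq', mem_univ, if_true]
    calc _ = σ (r x) * r x := by
          rw [ha, map_sum, sum_mul_sum, ← Equiv.sum_comp (Equiv.mulLeft σ)]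
          refine sum_congr rfl fun p _ => sum_congr rfl fun q _ => ?_
          simp only [Equiv.coe_mulLeft, inv_mul_cancel_left, map_mul, RingAut.mul_apply]; ring
      _ = _ := by
          rw [hN, hb]
          exact sum_congr rfl fun q _ => by rw [map_mul, cm σ q, RingAut.mul_apply]
  have S : ∀ p q, c p q = c q p := fun p q => CharTwo.add_eq_zero.1 (ded_bil (fun p q => c p q + c q p) (fun x y => by
    have := Q (x + y)
    simp only [map_add, add_mul, mul_add, sum_add_distrib, Q, zero_add, add_zero] at this ⊢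
    rw [sum_comm (f := fun p q => c q p * _), add_comm]
    simpa only [mul_comm] using this) p q)
  have Dg : ∀ p, c p p = 0 := fun p => by
    have := ded_all (fun p => c ((frob F)⁻¹ * p) ((frob F)⁻¹ * p)) (fun x => by
      have := Q x
      rw [← sum_product', ← diag_union_offDiag, sum_union (disjoint_diag_offDiag _), sum_diag,
        sum_involution (s := offDiag _) (fun x _ => x.swap) (fun p _ => by
          rw [CharTwo.add_eq_zero, S, mul_comm (p.1 x)]; rfl) (fun p hp _ e => (mem_offDiag.1 hp).2.2 (congrArg Prod.snd e))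
          (fun p hp => by simpa [eq_comm] using hp) (fun _ _ => rfl), add_zero] at this
      rw [← Equiv.sum_comp (Equiv.mulLeft (frob F)), ← this]
      exact sum_congr rfl fun p _ => by simp [frob_apply]) (frob F * p)
    simpa using this
  have s1 : σ ≠ 1 := fun e => h4 (by simp [e])
  have D : ∀ p, a p ≠ 0 → a (σ⁻¹ * p) = 0 ∧ a (σ * p) = 0 := fun p hp => by
    have e1 := Dg p
    have e2 := Dg (σ * p)
    simp only [c, if_neg (fun e => s1 (right_eq_mul.1 e)), add_zero, inv_mul_cancel_left, mul_eq_zero, map_eq_zero, hp,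
      or_false, false_or] at e1 e2
    exact ⟨e1, e2⟩
  have O : ∀ p q, p ≠ σ * q → q ≠ σ * p → σ (a (σ⁻¹ * p)) * a q = σ (a (σ⁻¹ * q)) * a p := fun p q h1 h2 => by
    simpa only [c, if_neg h1, if_neg h2, add_zero] using S p q
  obtain ⟨u, hu⟩ : ∃ u, a u ≠ 0 := by
    by_contra! h
    simp [ha, h] at r1
  have k : ∀ v ≠ u, a v = 0 := fun v hv => by
    by_cases e : u = σ * (σ * v)
    · have := O (σ * u) v (fun e => hv (mul_left_cancel e).symm) fun e' => h4 (by
        rw [e, ← mul_assoc, ← mul_assoc, ← mul_assoc, right_eq_mul] at e'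
        rw [← mul_assoc, e'])
      simpa [(D u hu).2, hu] using this
    · simpa [(D u hu).1, hu] using O (σ * v) u (fun e => hv (mul_left_cancel e)) e
  have k2 : ∀ x, r x = a u * u x := fun x => by
    rw [ha, sum_eq_single u (fun v _ h => by rw [k v h, zero_mul]) (by simp)]
  exact ⟨u, fun x => by rw [k2, show a u = 1 by simpa [r1] using (k2 1).symm, one_mul]⟩

end H17
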