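import Cfsg.Agent.S3703
import Cfsg.Agent.H13.Hig3

/-! Groups in which no prime divides three element orders (`H3`), part 1: Mazurov's lemma in ambient form (`mz`),
the CIT case (`sz_core`, `fm`). -/

set_option autoImplicit false
set_option linter.unusedSectionVars false
set_option linter.unusedVariables false

namespace H17.TO
open Subgroup Cfsg H18 H1 H13 Finset
open scoped commutatorElement MatrixGroups

variable {G X : Type*} [Group G] [Finite G] [Group X] [Finite X] {A F P Q T : Subgroup G} {h : G} {m n p r : ℕ}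

/-- no prime divides three distinct element orders -/
def H3 (G : Type*) [Group G] : Prop := ∀ p a b c : ℕ, p.Prime → Sp G a → Sp G b → Sp G c → a ≠ b → b ≠ c → a ≠ c →
  p ∣ a → p ∣ b → p ∣ c → False

theorem H3.len (k : H3 G) (hn : Sp G n) : n.primeFactorsList.length ≤ 2 := by
  by_contra c
  have e := Nat.prod_primeFactorsList hn.pos.ne'
  have pr := fun a => Nat.prime_of_mem_primeFactorsList (n := n) (p := a)
  obtain ⟨p, q, r, l, hl⟩ : ∃ p q r l, n.primeFactorsList = p :: q :: r :: l := by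
    rcases hx : n.primeFactorsList with _ | ⟨p, _ | ⟨q, _ | ⟨r, l⟩⟩⟩ <;> simp [hx] at c
    exact ⟨_, _, _, _, rfl⟩
  rw [hl] at e pr
  simp only [List.prod_cons] at e
  have hp := pr p (by simp)
  have hq := (pr q (by simp)).one_lt
  have hr := (pr r (by simp)).one_lt
  have := hp.pos
  have h1 : p < p * q := by nlinarith
  have h2 : p * q < p * q * r := by nlinarith
  exact k p p (p * q) (p * q * r) hp (hn.of_dvd ⟨_, e.symm⟩) (hn.of_dvd ⟨r * l.prod, by rw [← e]; ring⟩)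
    (hn.of_dvd ⟨l.prod, by rw [← e]; ring⟩) h1.ne h2.ne (h1.trans h2).ne dvd_rfl (dvd_mul_right _ _)
    (Dvd.intro (q * r) (by ring))

theorem H3.not_eight (k : H3 G) : ¬ Sp G 8 := fun c =>
  k 2 2 4 8 Nat.prime_two (c.of_dvd (by norm_num)) (c.of_dvd (by norm_num)) c (by norm_num) (by norm_num) (by norm_num)
    (by norm_num) (by norm_num) (by norm_num)

/-- Mazurov's lemma -/
theorem mz (hp : p.Prime) (hP : PiGrp {p} P) (nP : F ≤ N(P)) (cF : (Nat.card F).Coprime (Nat.card P)) (h3 : h ∈ N(P))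
    (h4 : h ∈ N(F)) (hf : ∀ i, 0 < i → i < m + 1 → ∀ f ∈ F, h ^ i * f = f * h ^ i → f = 1)
    (k : ∀ x ∈ P, (x * h) ^ (m + 1) = 1) : F ≤ C(P) := by
  have := Fact.mk hp
  let ρ : N(P) →* Module.End ℤ (Additive (Abelianization P)) :=
    { toFun g := (Abelianization.map (P.normalizerMonoidHom g).toMonoidHom).toAdditive.toIntLinearMap
      map_one' := by rw [map_one]; ext ⟨a⟩; rfl
      map_mul' a b := by rw [map_mul]; ext ⟨a⟩; rfl }
  have h6 : ∀ x : P, ∀ j, ∃ hj : (x * h) ^ j * (h ^ j)⁻¹ ∈ P, Additive.ofMul (Abelianization.of ⟨_, hj⟩) =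
      (∑ i ∈ range j, ρ (⟨h, h3⟩ ^ i)) (.ofMul (Abelianization.of x)) := fun x j => by
    induction j with
    | zero => exact ⟨by simp, by simp; rfl⟩
    | succ j ih =>
      obtain ⟨hj, e⟩ := ih
      have e1 : (x * h) ^ (j + 1) * (h ^ (j + 1))⁻¹ = (x * h) ^ j * (h ^ j)⁻¹ * (h ^ j * x * (h ^ j)⁻¹) := by
        rw [pow_succ, pow_succ]; group
      refine ⟨e1 ▸ mul_mem hj ((mem_normalizer_iff.1 (pow_mem h3 j) _).1 x.2), ?_⟩
      rw [sum_range_succ, LinearMap.add_apply, ← e]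
      exact congrArg (fun y => Additive.ofMul (Abelianization.of y)) (Subtype.ext e1 : _ = _ * P.normalizerMonoidHom
        (⟨h, h3⟩ ^ j) x)
  have h7 := fun g hg => Cfsg.Agent.S3703.core ρ (F.subgroupOf _) (h := ⟨h, h3⟩) (m := m) (g := g)
    (mem_normalizer_iff.2 fun x => mem_normalizer_iff.1 h4 x)
    (fun i i0 i1 f hf' e => Subtype.ext (hf i i0 i1 _ hf' (congrArg Subtype.val e))) ?_ hg
  · refine H1.le_centralizer_of_frattini nP (cF.coprime_dvd_right (card_subgroup_dvd_card _))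
      (le_trans (commutator_le.2 fun x hx f hf => ?_) (H3.commutator_le_map_subtype_frattini hP.isPGroup))
    have e := LinearMap.congr_fun (h7 ⟨f, nP hf⟩ hf) (.ofMul (Abelianization.of ⟨x⁻¹, inv_mem hx⟩))
    rw [LinearMap.smul_apply, LinearMap.smul_apply, Nat.card_congr (subgroupOfEquivOfLe nP).toEquiv] at e
    have e := QuotientGroup.eq.1 (((cF.symm.coprime_dvd_left (card_quotient_dvd_card (commutator P))).pow_left_bijective
      (G := Abelianization P)).1 (Additive.ofMul.injective e)).symm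
    rw [← map_subtype_commutator]
    exact ⟨_, e, by simp [commutatorElement_def, mul_assoc]⟩
  · ext ⟨x⟩
    obtain ⟨hj, e⟩ := h6 x (m + 1)
    refine e.symm.trans (congrArg (fun y => Additive.ofMul (Abelianization.of y)) (Subtype.ext ?_ : _ = (1 : P)))
    have k1 := k 1 (one_mem _)
    rw [one_mul] at k1
    simp [k1, k x x.2]

open Sz in
theorem sz_four (e : Lie.IsoSuzuki X) : ∃ B : Subgroup X, Odd (Nat.card B) ∧ B ≠ ⊥ ∧ ∃ c ∈ N(B), orderOf c = 4 ∧
    PiNat {2}ᶜ (Nat.card B) := by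
  obtain ⟨K, _, _, m, hm, hK, ⟨e⟩⟩ := e
  have : IsSz K m := ⟨hm, hK⟩
  let f := (lieEquiv K m).trans e.symm
  obtain ⟨c, hc, c4, c2⟩ := (ell_t1 (F := K) (m := m)).exists_order_four
  have k : Nat.card ((T1 K m).map f.toMonoidHom) = 2 ^ (2 * m + 1) + 2 ^ (m + 1) + 1 := by
    rw [card_map_of_injective f.injective, card_T1, hK]
  have ho : Odd (Nat.card ((T1 K m).map f.toMonoidHom)) := by
    rw [k]; exact (((Nat.even_pow' (by omega)).2 even_two).add ((Nat.even_pow' (by omega)).2 even_two)).add_one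
  refine ⟨_, ho, fun b => ?_, f c, le_normalizer_map _ ⟨c, hc, rfl⟩, ?_,
    (piNat_compl_iff Nat.prime_two).2 ho.not_two_dvd_nat⟩
  · rw [b, card_bot] at k
    have := Nat.two_pow_pos (m + 1)
    omega
  · rw [MulEquiv.orderOf_eq]
    have := Fact.mk Nat.prime_two
    exact orderOf_eq_prime_pow (p := 2) (n := 1) (by simpa [sq] using c2) c4

theorem sz_core (hG : CIT G) (k : ¬ Sp G 8) [Q.Normal] (hQ : PiGrp {2} Q) (e : Lie.IsoSuzuki (G ⧸ Q)) : Q = ⊥ := by
  by_contra Q1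
  obtain ⟨B, ho, B1, c, hc, c4, hB⟩ := sz_four e
  obtain ⟨c, rfl⟩ := QuotientGroup.mk'_surjective Q c
  have hNF : Q ≤ B.comap (QuotientGroup.mk' Q) := fun x hx => by
    rw [mem_comap, QuotientGroup.mk'_apply, (QuotientGroup.eq_one_iff _).2 hx]; exact one_mem _
  have hr : Q.relIndex (B.comap (QuotientGroup.mk' Q)) = Nat.card B := by
    nth_rewrite 1 [← QuotientGroup.ker_mk' Q]
    rw [relIndex_ker, map_comap_eq_self_of_surjective (QuotientGroup.mk'_surjective Q)]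
  obtain ⟨F, hF⟩ := exists_sd ⟨hNF, norm_of_normal⟩ (hr ▸ hQ.coprime hB)
  have eF : Nat.card F = Nat.card B := by rw [← hF.relIndex, hr]
  have cF : (Nat.card F).Coprime (Nat.card Q) := eF ▸ hB.coprime' hQ
  obtain ⟨n, hn, h1⟩ := H1.exists_mul_of_mem_normalizer_sup (g := c) hF.norm cF (.inr hQ.solv)
    (hF.sup ▸ mem_normalizer_iff.2 fun x => by simpa using mem_normalizer_iff.1 hc (QuotientGroup.mk' Q x))
  have h5 : ∀ x ∈ Q, orderOf (QuotientGroup.mk' Q (x * (n * c))) = 4 := fun x hx => by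
    rw [← c4]; simp [(QuotientGroup.eq_one_iff _).2 hn, (QuotientGroup.eq_one_iff _).2 hx]
  have h6 : ∀ x ∈ Q, (x * (n * c)) ^ (3 + 1) = 1 := fun x hx => by
    by_contra c1
    have i1 : (x * (n * c)) ^ 4 ∈ Q := (QuotientGroup.eq_one_iff _).1 (by
      rw [← QuotientGroup.mk'_apply, map_pow, ← h5 x hx]; exact pow_orderOf_eq_one _)
    obtain ⟨d, hd⟩ : 4 ∣ orderOf (x * (n * c)) := h5 x hx ▸ orderOf_map_dvd _ _
    have h2 : orderOf ((x * (n * c)) ^ 4) = d := by
      rw [orderOf_pow_of_dvd (by omega) ⟨d, hd⟩, hd, Nat.mul_div_cancel_left _ (by omega)]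
    obtain ⟨q, hq, q1, rfl⟩ := (hQ.elt i1).exists_mem c1
    exact k (Sp.of_dvd ⟨_, hd⟩ (Nat.mul_dvd_mul_left 4 (h2 ▸ q1)))
  have oF : Odd (Nat.card F) := eF ▸ ho
  have := mz (m := 3) Nat.prime_two hQ hF.norm cF (norm_of_normal (mem_top _)) h1 (fun i i0 i1 f hf e => ?_) h6
  · obtain ⟨x, hx, x1⟩ := exists_mem_ne_one' Q1
    obtain ⟨f, hf, f1⟩ := exists_mem_ne_one' (H := F) fun b => B1 (card_eq_one.1 (by rw [← eF, b, card_bot]))
    exact f1 (hG.eq_one (oF.of_dvd_nat (orderOf_dvd_card hf)) (hQ.elt hx) x1 (this hf x hx).symm)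
  · have h7 := h6 1 (one_mem _)
    have h8 := h5 1 (one_mem _)
    rw [one_mul] at h7 h8
    refine hG.eq_one (oF.of_dvd_nat (orderOf_dvd_card hf)) (PiElt.pow' ?_ i) (fun b => ?_) e.symm
    · exact (piNat_pow_self Nat.prime_two 2).of_dvd (orderOf_dvd_of_pow_eq_one h7)
    · exact pow_ne_one_of_lt_orderOf (x := QuotientGroup.mk' Q (n * c)) i0.ne' (h8 ▸ i1) (by rw [← map_pow, b, map_one])

theorem fm (k : ¬ Sp G 8) (e : IsFM G) : ∃ (F : Type) (_ : Field F) (_ : Fintype F),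
    (Fintype.card F = 7 ∨ Fintype.card F = 9) ∧ Nonempty (G ≃* PSL(2, F)) := by
  obtain ⟨F, _, _, h7, h9 | hp, ⟨j, hk⟩, ⟨e⟩⟩ := e
  · exact ⟨F, _, _, by omega, ⟨e⟩⟩
  have sp := (sp_congr e).trans (sp_psl_odd (n := 8) hp dvd_rfl (by omega) (hp.odd_of_ne_two (by omega)))
  refine ⟨F, inferInstance, inferInstance, ?_, ⟨e⟩⟩
  by_cases hj : j ≤ 3
  · interval_cases j <;> omega
  obtain ⟨i, rfl⟩ := Nat.exists_eq_add_of_le (show 4 ≤ j by omega)
  rw [pow_add] at hk
  exact absurd (sp.2 (by omega)) k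

end H17.TO
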