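import Cfsg.Agent.H17.TO1
import Cfsg.Agent.H17.Part1
import Cfsg.Agent.H1.Solv2
import Cfsg.Agent.H25.GWK
import Cfsg.Agent.S4593

/-! Groups in which no prime divides three element orders, part 2: the case of an element of order `2 r` (`W`):
no outer automorphisms (`W.top`), trivial odd core (`W.core`). -/

set_option autoImplicit false
set_option linter.unusedSectionVars false
set_option linter.unusedVariables false

namespace H17.TO
open Subgroup Cfsg H18 H1 H13
open scoped commutatorElement MatrixGroups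

variable {G X : Type*} [Group G] [Finite G] [Group X] [Finite X] {A F P Q T : Subgroup G} {h t x : G} {m n p r : ℕ}

/-- the only even orders are `2, 2 r`, the only orders divisible by `r` are `r, 2 r` -/
structure W (G : Type*) [Group G] (r : ℕ) : Prop where
  pr : r.Prime
  ne : r ≠ 2
  two : ∀ n, Sp G n → 2 ∣ n → n = 2 ∨ n = 2 * r
  rr : ∀ n, Sp G n → r ∣ n → n = r ∨ n = 2 * r

theorem H3.w (k : H3 G) (hr : r.Prime) (ne : r ≠ 2) (s : Sp G (2 * r)) : W G r := by
  have := hr.two_le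
  refine ⟨hr, ne, fun n hn d => ?_, fun n hn d => ?_⟩ <;> by_contra c <;> push Not at c
  · exact k 2 2 n (2 * r) Nat.prime_two (s.of_dvd (dvd_mul_right _ _)) hn s c.1.symm c.2 (by omega) dvd_rfl d
      (dvd_mul_right _ _)
  · exact k r r n (2 * r) hr (s.of_dvd (dvd_mul_left _ _)) hn s c.1.symm c.2 (by omega) dvd_rfl d (dvd_mul_left _ _)

namespace W
variable (k : W G r)
include k

theorem mono (s : ∀ n, Sp X n → Sp G n) : W X r := ⟨k.pr, k.ne, fun n a => k.two n (s n a), fun n a => k.rr n (s n a)⟩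

theorem odd : Odd r := k.pr.odd_of_ne_two k.ne

theorem sq (hx : PiElt {2} x) : x * x = 1 := by
  by_cases h1 : x = 1
  · simp [h1]
  obtain ⟨q, hq, q1, rfl⟩ := hx.exists_mem h1
  obtain e | e := k.two _ ⟨x, rfl⟩ q1
  · rw [← pow_two, ← e]; exact pow_orderOf_eq_one x
  · exact absurd (hx r k.pr (e ▸ dvd_mul_left _ _)) k.ne

theorem abel (hT : PiGrp {2} T) : Abel T := fun a ha b hb => by
  have h1 := k.sq (hT.elt ha)
  have h2 := k.sq (hT.elt hb)
  have h3 := k.sq (hT.elt (mul_mem ha hb))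
  calc b * a = a * a * (b * a) * (b * b) := by rw [h1, h2]; simp
    _ = a * (a * b * (a * b)) * b := by group
    _ = _ := by rw [h3]; simp

theorem ord (ht : orderOf t = 2) (e : t * x = x * t) (ho : Odd (orderOf x)) (h1 : x ≠ 1) : orderOf x = r := by
  have s := sp_mul e (by rw [ht]; exact Nat.coprime_two_left.2 ho)
  rw [ht] at s
  have := k.two _ s (dvd_mul_right _ _)
  have := mt orderOf_eq_one_iff.1 h1
  omega

theorem cent (ht : orderOf t = 2) : Solv C1(t) :=
  solv_of_two_primes Nat.prime_two k.pr (piGrp_of_prime_elt fun x hx hp => by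
    by_cases h2 : orderOf x = 2
    · exact Or.inl h2
    · exact Or.inr (k.ord ht (mem_C1.1 hx).symm (hp.odd_of_ne_two h2) fun b => by simp [b, Nat.not_prime_one] at hp))

/-- an element commuting with an element of order `r` is a `{2, r}`-element -/
theorem ord' (ht : orderOf t = r) (e : t * x = x * t) (hp : (orderOf x).Prime) : orderOf x ∈ ({2, r} : Set ℕ) := by
  by_cases h2 : orderOf x = r
  · exact Or.inr h2
  have s := sp_mul e (by rw [ht]; exact (Nat.coprime_primes k.pr hp).2 (Ne.symm h2))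
  rw [ht] at s
  have := hp.one_lt
  have := k.pr.pos
  obtain e | e := k.rr _ s (dvd_mul_right _ _)
  · nlinarith
  · exact Or.inl (by nlinarith)

theorem inv_mem {N : Subgroup G} [N.Normal] [IsSimpleGroup N] (hs : ¬ Solv N) (hC : C(N) = ⊥) (h2 : x * x = 1) :
    x ∈ N := by
  have x2 : PiElt {2} x := piElt_of_pow_eq_one Nat.prime_two (by rwa [pow_two])
  obtain ⟨T, hT, le⟩ := exists_sylow_le Nat.prime_two x2.zpowers le_top
  obtain ⟨S, hS⟩ := (hT.inf_nml' (K := N) ⟨le_top, norm_of_normal⟩).exists_sylow Nat.prime_two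
  have ab := k.abel hT.pi
  have m : ∀ y ∈ (S : Subgroup N), (y : G) ∈ T := fun y hy => (hS.le ⟨y, hy, rfl⟩).2
  obtain ⟨g, hg⟩ := Cfsg.Agent.S4593.result (G := N)
    ((IsSimpleGroup.eq_bot_or_eq_top_of_normal (center N) inferInstance).resolve_right fun c => hs
      (Group.isSolvable_of_comm fun a b => (mem_center_iff.1 (c ▸ mem_top b) a)))
    ((IsSimpleGroup.eq_bot_or_eq_top_of_normal _ inferInstance).resolve_right fun c => hs
      (solv_of_odd (Nat.coprime_two_right.1 (pPrimeCore_eq_top_iff.1 c)))) S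
    ⟨⟨fun a b => Subtype.ext (Subtype.ext (ab (m _ b.2) _ (m _ a.2)))⟩⟩ (MulAut.conjNormal x)
    (let ⟨j, _, e⟩ := (Nat.dvd_prime_pow Nat.prime_two (m := 1)).1
      (orderOf_dvd_of_pow_eq_one (by rw [← map_pow, pow_one, pow_two, h2, map_one])); ⟨j, e⟩)
    fun y hy => Subtype.ext (by
      rw [MulAut.conjNormal_apply, ← ab (le (mem_zpowers x)) _ (m y hy), mul_inv_cancel_right])
  have : (g : G)⁻¹ * x ∈ C(N) := fun y hy => by
    have := congrArg Subtype.val (hg ⟨y, hy⟩)
    simp only [MulAut.conjNormal_apply, Subgroup.coe_mul, Subgroup.coe_inv] at this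
    calc y * ((g : G)⁻¹ * x) = (g : G)⁻¹ * (g * y * (g : G)⁻¹) * x := by group
      _ = _ := by rw [← this]; group
  rw [hC, mem_bot, inv_mul_eq_one] at this
  exact this ▸ g.2

theorem mem_of_sq {N : Subgroup G} (hN : ∀ x : G, x * x = 1 → x ∈ N) (h2 : x * x ∈ N) : x ∈ N := by
  obtain ⟨m, ⟨j, hm⟩, e⟩ : ∃ m, Odd m ∧ x ^ m * x ^ m = 1 := by
    rcases Nat.even_or_odd (orderOf x) with ho | ho
    · obtain e | e := k.two _ ⟨x, rfl⟩ ho.two_dvd
      · exact ⟨1, odd_one, by rw [← pow_add, ← two_mul, mul_one, ← e, pow_orderOf_eq_one]⟩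
      · exact ⟨r, k.odd, by rw [← pow_add, ← two_mul, ← e, pow_orderOf_eq_one]⟩
    · exact ⟨_, ho, by simp⟩
  have := mul_mem (N.inv_mem (pow_mem h2 j)) (hN _ e)
  rwa [hm, pow_succ, pow_mul, pow_two, inv_mul_cancel_left] at this

end W

section Aut
open H25 SemidirectProduct Matrix
variable {K : Type*} [Field K] [Fintype K]

theorem fld {Y : Subgroup (MulAut PSL(2, K))} (hY : Inn PSL(2, K) ≤ Y) {a : MulAut PSL(2, K)} (ha : a ∈ Y)
    (h2 : a * a ∉ Inn PSL(2, K)) : ∃ τ : K ≃+* K, (orderOf τ).Prime ∧ pslGamma (Fin 2) K (inr τ) ∈ Y ∧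
      pslGamma (Fin 2) K (inr τ) ∉ Inn PSL(2, K) := by
  classical
  obtain ⟨γ, rfl⟩ := pslGamma_surj (ι := Fin 2) (F := K) (by simp) a
  obtain ⟨σ, hσ⟩ := exists_sigma (F := K)
  have e : pslGamma (Fin 2) K γ * pslGamma (Fin 2) K γ =
      pslDiag (Fin 2) K (γ * γ).left * pslGamma (Fin 2) K (inr (γ * γ).right) := by
    rw [← pslGamma_inl, ← map_mul, ← map_mul, inl_left_mul_inr_right]
  have hi : pslDiag (Fin 2) K (γ * γ).left ∈ Inn PSL(2, K) := by
    rw [pslDiag_mem_inn, Fintype.card_fin]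
    set d := GeneralLinearGroup.det γ.left
    have e1 : ((GeneralLinearGroup.det (γ * γ).left : Kˣ) : K) = d * γ.right d := by
      rw [mul_left, map_mul, Units.val_mul]
      congr 1
      simp [d, det_fin_two]
    have : IsSquare ((d : K) * γ.right d) := by
      by_cases hd : IsSquare (d : K)
      · exact hd.mul (hd.map γ.right)
      · have hd' : ¬ IsSquare (γ.right d) := fun c => hd (by simpa using c.map γ.right.symm)
        rw [← quadraticChar_neg_one_iff_not_isSquare] at hd hd'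
        rw [← quadraticChar_one_iff_isSquare (by simp), map_mul, hd, hd']; rfl
    obtain ⟨c, hc⟩ := this
    exact ⟨Units.mk0 c fun b => by simp [b] at hc, Units.ext (e1.trans (hc.trans (by simp [sq])))⟩
  have h3 : pslGamma (Fin 2) K (inr (γ * γ).right) ∈ Y := by
    have := mul_mem (inv_mem (hY hi)) (mul_mem ha ha)
    rwa [e, inv_mul_cancel_left] at this
  obtain ⟨τ, ⟨j, rfl⟩, hp⟩ := exists_prime_pow_elt (x := (γ * γ).right) fun c => h2 (by simpa [e, c] using hi)
  refine ⟨_, hp, by simpa only [map_zpow] using zpow_mem h3 j, fun c => hp.ne_one ?_⟩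
  obtain ⟨g, hg⟩ := inn_le_range_pslDiag c
  have := (hσ (inl g)).symm.trans ((congrArg σ hg).trans (hσ _))
  rw [orderOf_eq_one_iff]
  exact this.symm

theorem fixed (K : Type*) [Field K] [Fintype K] : ∃ w c : PSL(2, K), orderOf w = 2 ∧ orderOf c = 3 ∧
    ∀ τ : K ≃+* K, pslGamma (Fin 2) K (inr τ) w = w ∧ pslGamma (Fin 2) K (inr τ) c = c := by
  let w : SL(2, K) := ⟨!![0, -1; 1, 0], by simp [det_fin_two]⟩
  let c : SL(2, K) := ⟨!![0, -1; 1, -1], by simp [det_fin_two]⟩
  have ne : ∀ s : SL(2, K), s.1 1 0 = 1 → H10.π K s ≠ 1 := fun s hs b => by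
    obtain e | e := (H10.π_eq_iff _ _).1 (b.trans (map_one _).symm) <;> simp [e] at hs
  have := Fact.mk Nat.prime_two
  have := Fact.mk Nat.prime_three
  refine ⟨H10.π K w, H10.π K c, orderOf_eq_prime ?_ (ne w rfl), orderOf_eq_prime ?_ (ne c rfl), fun τ => ⟨?_, ?_⟩⟩
  · rw [pow_two, ← map_mul, ← map_one (H10.π K), H10.π_eq_iff]
    refine Or.inr (Subtype.ext (show w.1 * w.1 = -1 from ?_))
    ext i j; fin_cases i <;> fin_cases j <;> simp [w]
  · rw [pow_three, ← map_mul, ← map_mul, ← map_one (H10.π K), H10.π_eq_iff]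
    refine Or.inl (Subtype.ext (show c.1 * (c.1 * c.1) = 1 from ?_))
    ext i j; fin_cases i <;> fin_cases j <;> simp [c]
  · exact (semilinear_iff 1 τ _).2 (pslGamma_inr τ) w w (by ext i j; fin_cases i <;> fin_cases j <;> simp [w])
  · exact (semilinear_iff 1 τ _).2 (pslGamma_inr τ) c c (by ext i j; fin_cases i <;> fin_cases j <;> simp [c])

end Aut
end H17.TO
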