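import Cfsg.Agent.H17.TO2
import Cfsg.Agent.S3188

/-! Groups in which no prime divides three element orders, part 3: `W.top`, `W.core`, `W.main`. -/

set_option autoImplicit false
set_option linter.unusedSectionVars false
set_option linter.unusedVariables false

namespace H17.TO
open Subgroup Cfsg H18 H1 H13
open scoped commutatorElement MatrixGroups

variable {G X : Type*} [Group G] [Finite G] [Group X] [Finite X] {A F P Q T : Subgroup G} {h t x : G} {m n p r : ℕ}
  {K : Type*} [Field K] [Fintype K]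

/-- admissible field orders -/
def Qq (q : ℕ) : Prop := ((q % 8 = 3 ∨ q % 8 = 5) ∧ 5 ≤ q) ∨ ∃ n : ℕ, 2 ≤ n ∧ q = 2 ^ n

theorem Qq.four {q : ℕ} (h : Qq q) : 4 ≤ q := by
  obtain h | ⟨n, hn, rfl⟩ := h
  exacts [by omega, four_le hn]

theorem not_cube (k : W PSL(2, K) 3) (hq : Qq (Fintype.card K)) (e : m ^ 3 = Fintype.card K) : False := by
  have h4 := hq.four
  have h8 : Fintype.card K = 8 ∨ 27 ≤ Fintype.card K := by
    rw [← e] at h4 ⊢
    by_cases h3 : 3 ≤ m
    · exact Or.inr (Nat.pow_le_pow_left h3 3)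
    · interval_cases m <;> omega
  have a := sp_psl_plus (F := K)
  have b := sp_psl_minus h4
  obtain hq | ⟨n, hn, hq⟩ := hq
  · rw [gcd_odd (Nat.odd_iff.2 (by omega))] at a b
    have a := k.two _ a
    have b := k.two _ b
    omega
  · obtain ⟨j, rfl⟩ := Nat.exists_eq_add_one_of_ne_zero (show n ≠ 0 by omega)
    rw [gcd_even hq, Nat.div_one] at a b
    have a := k.rr _ a
    have b := k.rr _ b
    have := three_dvd (j + 1)
    omega

namespace W
variable (k : W G r)
include k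

open H25 SemidirectProduct in
theorem top {N : Subgroup G} [N.Normal] (e : N ≃* PSL(2, K)) (hq : Qq (Fintype.card K)) (hC : C(N) = ⊥) : N = ⊤ := by
  have := psl_simple hq.four
  have : IsSimpleGroup N := e.isSimpleGroup
  have i2 := fun x => k.inv_mem (x := x) (N := N) (fun c => H10.not_isSolvable_PSL2 (F := K) hq.four
    (Group.isSolvable_of_surjective (f := e.toMonoidHom) e.surjective)) hC
  let ψ : G →* MulAut PSL(2, K) := (MulAut.congr e).toMonoidHom.comp MulAut.conjNormal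
  have a1 : ∀ g y, ψ g y = y → g * e.symm y = e.symm y * g := fun g y c => by
    have := congrArg Subtype.val (e.symm_apply_eq.2 c.symm : e.symm y = MulAut.conjNormal g (e.symm y))
    rw [MulAut.conjNormal_apply] at this
    exact (eq_mul_inv_iff_mul_eq.1 this).symm
  have a2 : ∀ y, ψ (e.symm y) = MulAut.conj y := fun y => by
    ext z
    show e (MulAut.conjNormal _ (e.symm z)) = y * z * y⁻¹
    rw [MulAut.conjNormal_val]; simp
  have a3 : Function.Injective ψ := (injective_iff_map_eq_one _).2 fun g c => mem_bot.1 (hC ▸ fun y hy => by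
    simpa using (a1 g (e ⟨y, hy⟩) (by rw [c]; rfl)).symm)
  have a4 : ∀ g, ψ g ∈ Inn PSL(2, K) ↔ g ∈ N := fun g =>
    ⟨fun ⟨y, c⟩ => a3 ((a2 y).trans c) ▸ (e.symm y).2, fun c => ⟨e ⟨g, c⟩, by rw [← a2]; simp⟩⟩
  refine eq_top_iff.2 fun x _ => k.mem_of_sq i2 (by_contra fun c => ?_)
  obtain ⟨τ, hp, ⟨φ, hφ⟩, h1⟩ := fld (Y := ψ.range) (fun _ ⟨y, c⟩ => ⟨_, (a2 y).trans c⟩) ⟨x, rfl⟩
    (by rwa [← map_mul, a4])
  have o : orderOf φ = orderOf τ := by rw [← orderOf_injective ψ a3, hφ, orderOf_pslGamma_inr]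
  rw [← hφ, a4] at h1
  obtain ⟨w, u, ow, ou, f⟩ := fixed K
  obtain ⟨fw, fu⟩ := f τ
  rw [← hφ] at fw fu
  have o' : ∀ y, orderOf (e.symm y : G) = orderOf y := fun y => by rw [orderOf_coe, MulEquiv.orderOf_eq]
  have o1 := k.ord ((o' w).trans ow) (a1 _ _ fw).symm ((o ▸ hp).odd_of_ne_two fun b => h1 (i2 _ (by
    rw [← pow_two, ← b, pow_orderOf_eq_one]))) fun b => h1 (b ▸ one_mem _)
  have o2 := k.ord' o1 (a1 _ _ fu) (by rw [o', ou]; exact Nat.prime_three)
  rw [o', ou] at o2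
  obtain rfl : 3 = r := o2.resolve_left (by norm_num)
  refine not_cube (k.mono fun n s => (s.of_equiv e.symm).of_injective N.subtype N.subtype_injective) hq
    (m := Nat.card (fixF τ)) ?_
  rw [← o1, o, card_fixF, Nat.card_eq_fintype_card]

theorem exists_h (hT : Hall {2} T ⊤) (hs : ¬ Solv (⊤ : Subgroup G)) :
    ∃ h ∈ N(T), h ∉ C(T) ∧ (orderOf h).Prime ∧ orderOf h ≠ 2 := by
  classical
  have ex : ∃ n, ∃ h ∈ N(T), h ∉ C(T) ∧ orderOf h = n := by
    by_contra c
    exact hs (H117.solv_of_burnside hT fun x hx => by_contra fun b => c ⟨_, x, hx.2, b, rfl⟩)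
  obtain ⟨h, hn, hc, e⟩ := Nat.find_spec ex
  have mn : ∀ d, d ∣ orderOf h → d ≠ 1 → h ^ d ∈ C(T) := fun d hd d1 => by_contra fun b => by
    refine Nat.find_min ex ?_ ⟨_, pow_mem hn d, b, rfl⟩
    have := orderOf_pos h
    have d0 : d ≠ 0 := fun b => this.ne' (Nat.eq_zero_of_zero_dvd (b ▸ hd))
    rw [← e, orderOf_pow_of_dvd d0 hd]
    exact Nat.div_lt_self this (by omega)
  have h2 : orderOf h ≠ 2 := fun b => hc (k.abel hT.pi (Hall.mem_of_norm hT (mem_top _)
    (piElt_of_pow_eq_one Nat.prime_two (b ▸ pow_orderOf_eq_one h)) hn))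
  have ho : Odd (orderOf h) := Nat.not_even_iff_odd.1 fun b => by
    have e1 := (k.two _ ⟨h, rfl⟩ b.two_dvd).resolve_left h2
    obtain ⟨j, hj⟩ := k.odd
    have := mul_mem (C(T).inv_mem (pow_mem (mn 2 b.two_dvd (by norm_num)) j))
      (mn r (e1 ▸ dvd_mul_left _ _) k.pr.ne_one)
    rw [hj, pow_succ h (2 * j), pow_mul, inv_mul_cancel_left] at this
    exact hc this
  obtain ⟨s, hp, hd⟩ := Nat.exists_prime_and_dvd (n := orderOf h) fun b => hc (orderOf_eq_one_iff.1 b ▸ one_mem _)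
  refine ⟨h, hn, hc, ?_, h2⟩
  by_cases h1 : h ^ s = 1
  · rwa [Nat.dvd_antisymm (orderOf_dvd_of_pow_eq_one h1) hd]
  obtain ⟨t, ht, ot⟩ := cauchy Nat.prime_two (hT.pi.dvd_card fun b => hc (by simp [b]))
  have := k.ord ot (mn s hd hp.ne_one t ht) (ho.of_dvd_nat (orderOf_pow_dvd s)) h1
  obtain b | b := k.rr _ ⟨h, rfl⟩ (this ▸ orderOf_pow_dvd s)
  · exact b ▸ k.pr
  · exact absurd (b ▸ dvd_mul_right _ _) ho.not_two_dvd_nat

theorem core [P.Normal] (hP : PiGrp {2}ᶜ P) [IsSimpleGroup (G ⧸ P)] (hs : ¬ Solv (⊤ : Subgroup G)) : P = ⊥ := by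
  by_contra P1
  obtain ⟨T, hT⟩ := exists_sylow Nat.prime_two (⊤ : Subgroup G)
  obtain ⟨h, hn, hc, hp, h2⟩ := k.exists_h hT hs
  have ab := k.abel hT.pi
  have hz : zpowers h ≤ N(T) := zpowers_le.2 hn
  have h2' : PiGrp {2}ᶜ (zpowers h) := (piGrp_of_prime hp card_zpowers').p'_of_ne h2
  have f0 := abel_comm_inf_cent ab hz (h2'.coprime' hT.pi)
  set F := ⁅T, zpowers h⁆
  have FT : F ≤ T := comm_le_left hz
  have F1 : F ≠ ⊥ := fun b => hc (cent_symm (commutator_eq_bot_iff_le_centralizer.1 b) (mem_zpowers h))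
  have hF : h ∈ N(F) := normalizer_commutator_ge_right _ _ (mem_zpowers h)
  have F2 := hT.pi.of_le FT
  have fx : ∀ f ∈ F, h * f = f * h → f = 1 := fun f hf e => mem_bot.1 (f0 ▸ ⟨hf, by
    rintro _ ⟨i, rfl⟩; exact (Commute.zpow_left e i).eq⟩)
  have nc : ¬ Cyc F := fun c => by
    obtain ⟨f, e⟩ := Cyc.gen c
    have hf : f ∈ F := e ▸ mem_zpowers f
    refine F1 (e ▸ zpowers_eq_bot.2 ?_)
    obtain b | b := mem_zpowers_two (k.sq (F2.elt hf)) (e ▸ (mem_normalizer_iff.1 hF f).1 hf)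
    · simpa using b
    · exact fx f hf (mul_inv_eq_iff_eq_mul.1 b)
  have oP : ∀ x ∈ P, Odd (orderOf x) := fun x hx =>
    Nat.not_even_iff_odd.1 fun b => (hP.elt hx).not_dvd' Nat.prime_two rfl b.two_dvd
  have cop : H1.Cop F P := cop_of_pi (norm_of_normal) F2 hP (Or.inl F2.solv)
  have rP : PiGrp {r} P := fun s hs hd => by
    obtain ⟨S, hS, nS⟩ := cop.exists_sylow hs
    obtain ⟨a, ha, a1, b⟩ := exists_cent_ne_bot_of_not_cyc (ab.mono FT) nc (cop.sub hS.le nS) (hS.ne_bot_p hs hd)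
    obtain ⟨x, hx, x1⟩ := exists_mem_ne_one' b
    have := Fact.mk Nat.prime_two
    have := k.ord (orderOf_eq_prime (by rw [pow_two, k.sq (F2.elt ha)]) a1) (mem_C1.1 hx.2).symm (oP x (hS.le hx.1)) x1
    exact (hS.pi.elt hx.1 r k.pr this.symm.dvd).symm
  obtain ⟨m, hm⟩ := Nat.exists_eq_add_one_of_ne_zero hp.ne_zero
  have c := mz (m := m) k.pr rP norm_of_normal cop.cop (norm_of_normal (mem_top _)) hF (fun i i0 i1 f hf e => ?_)
    fun x hx => ?_
  · obtain b | b := IsSimpleGroup.eq_bot_or_eq_top_of_normal (C(P).map (QuotientGroup.mk' P))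
      (Normal.map inferInstance _ (QuotientGroup.mk'_surjective P))
    · rw [Subgroup.map_eq_bot_iff, QuotientGroup.ker_mk'] at b
      exact F1 (F2.eq_bot (hP.of_le (c.trans b)))
    · obtain ⟨t, ht, ot⟩ := cauchy k.pr (rP.dvd_card P1)
      have := congrArg (comap (QuotientGroup.mk' P)) b
      rw [comap_map_eq, QuotientGroup.ker_mk', comap_top] at this
      exact hs (this ▸ (solv_of_two_primes Nat.prime_two k.pr (piGrp_of_prime_elt (H := C(P)) fun x hx hp =>
        k.ord' ot (hx t ht) hp)).sup_norm rP.solv norm_of_normal)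
  · refine mem_bot.1 (f0 ▸ ⟨hf, ?_⟩)
    rw [← C1_eq_of_prime (card_zpowers' (x := h) ▸ hp) (pow_mem (mem_zpowers h) i)
      (pow_ne_one_of_lt_orderOf i0.ne' (hm ▸ i1))]
    exact mem_C1.2 e.symm
  · by_contra c1
    have i1 : (x * h) ^ (m + 1) ∈ P := (QuotientGroup.eq_one_iff _).1 (by
      rw [QuotientGroup.mk_pow, QuotientGroup.mk_mul, (QuotientGroup.eq_one_iff _).2 hx, one_mul, ← QuotientGroup.mk_pow,
        ← hm, pow_orderOf_eq_one, QuotientGroup.mk_one])
    obtain ⟨q, -, q1, rfl⟩ := (rP.elt i1).exists_mem c1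
    obtain b | b := k.rr _ ⟨x * h, rfl⟩ (q1.trans (orderOf_pow_dvd _))
    · have := zpowers_eq_of_prime (card_zpowers' (x := x * h) ▸ b ▸ k.pr) (pow_mem (mem_zpowers _) (m + 1)) c1
      have := mul_mem (P.inv_mem hx) (zpowers_le.2 i1 (this ▸ mem_zpowers (x * h)))
      rw [inv_mul_cancel_left] at this
      exact F1 (F2.eq_bot (hP.of_le ((commutator_mono le_top (zpowers_le.2 this)).trans (commutator_le_right _ _))))
    · have : orderOf (x * h) ∣ (m + 1) * orderOf ((x * h) ^ (m + 1)) :=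
        orderOf_dvd_of_pow_eq_one (by rw [pow_mul, pow_orderOf_eq_one])
      exact ((hm ▸ hp.odd_of_ne_two h2).mul (oP _ i1)).not_two_dvd_nat ((b ▸ dvd_mul_right _ _ : 2 ∣ _).trans this)

theorem main (hs : ¬ Group.IsSolvable G) (s : Sp G (2 * r)) : ∃ (F : Type) (_ : Field F) (_ : Fintype F),
    5 < Fintype.card F ∧ (Fintype.card F % 8 = 3 ∨ Fintype.card F % 8 = 5) ∧ Nonempty (G ≃* PSL(2, F)) := by
  have := Fact.mk Nat.prime_two
  obtain ⟨S⟩ : Nonempty (Sylow 2 G) := inferInstance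
  obtain ⟨K, _, _, hq, N, _, ⟨e⟩, hC⟩ := (Cfsg.Agent.S3188.result S (k.abel (hall_sylow_top Nat.prime_two S).pi).comm
    fun t ht => k.cent ht).resolve_left hs
  obtain rfl := (k.mono fun n s => s.of_surjective _ (QuotientGroup.mk'_surjective (oddCore G))).top e hq hC
  replace e := topEquiv.symm.trans e
  have := psl_simple (Qq.four hq)
  have : IsSimpleGroup (G ⧸ oddCore G) := e.isSimpleGroup
  have c := k.core (P := oddCore G) ((piNat_compl_iff Nat.prime_two).2 (not_dvd_card_pPrimeCore Nat.prime_two))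
    fun c => hs (Group.isSolvable_of_surjective (f := (⊤ : Subgroup G).subtype) fun x => ⟨⟨x, trivial⟩, rfl⟩)
  replace e := ((QuotientGroup.quotientMulEquivOfEq c).trans QuotientGroup.quotientBot).symm.trans e
  replace s := s.of_equiv e
  have := k.pr.two_le
  have := k.ne
  obtain hq | ⟨n, hn, hq⟩ := hq
  · refine ⟨K, _, _, lt_of_le_of_ne hq.2 fun b => ?_, hq.1, ⟨e⟩⟩
    rw [sp_psl_odd Nat.prime_five b.dvd (by omega) (b ▸ by decide), ← b] at s
    obtain s | s | s := s <;> have := Nat.le_of_dvd (by norm_num) s <;> omega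
  · have ev : Even (2 ^ n) := (Nat.even_pow' (by omega)).2 even_two
    have := four_le hn
    obtain s | s | s := (sp_psl_even hn hq).1 s
    · have := Nat.le_of_dvd (by norm_num) s; omega
    · exact absurd ((dvd_mul_right _ _).trans s) ev.add_one.not_two_dvd_nat
    · exact absurd ((dvd_mul_right _ _).trans s) (Nat.Even.sub_odd (by omega) ev odd_one).not_two_dvd_nat

end W
end H17.TO
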