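import Cfsg.Agent.H17.Bender

/-! Thompson–Wielandt theorem for two conjugate core-free maximal subgroups `M`, `N`: `cor M B` (core of `B` in `M`),
`CF M` (normalizers of nontrivial normal subgroups of `M` lie in `M`), `tw_charP`, `tw_pgroup`, `tw_bound`
(`|M : core(core ⊓ core)|` divides `d! ((d-1)!)^d`), `oP_eq_bot_of_conj`. -/

set_option autoImplicit false
set_option linter.unusedSectionVars false

namespace H17

open Subgroup Cfsg

variable {G : Type*} [Group G] [Finite G] {p : ℕ}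

/-- the core of `B` in `M`. -/
def cor (M B : Subgroup G) : Subgroup G := (B.subgroupOf M).normalCore.map M.subtype

theorem mem_cor {M B : Subgroup G} {x : G} : x ∈ cor M B ↔ x ∈ M ∧ ∀ m ∈ M, m * x * m⁻¹ ∈ B := by
  constructor
  · rintro ⟨y, hy, rfl⟩
    exact ⟨y.2, fun m hm => hy ⟨m, hm⟩⟩
  · rintro ⟨hx, h⟩
    exact ⟨⟨x, hx⟩, fun m => h m m.2, rfl⟩

theorem cor_le (M B : Subgroup G) : cor M B ≤ M := fun _ h => (mem_cor.1 h).1

theorem cor_le' (M B : Subgroup G) : cor M B ≤ B := fun x h => by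
  simpa using (mem_cor.1 h).2 1 (one_mem _)

theorem le_normalizer_cor (M B : Subgroup G) : M ≤ normalizer (cor M B : Set G) := fun g hg =>
  mem_normalizer_of_conj_mem fun x hx => mem_cor.2 ⟨mul_mem (mul_mem hg (cor_le M B hx)) (inv_mem hg),
    fun m hm => by
      have := (mem_cor.1 hx).2 (m * g) (mul_mem hm hg)
      simpa [mul_assoc] using this⟩

theorem le_cor' {M B R : Subgroup G} (h1 : R ≤ M) (h : ∀ m ∈ M, cj m R ≤ B) : R ≤ cor M B := fun _ hx =>
  mem_cor.2 ⟨h1 hx, fun m hm => h m hm (conj_mem_cj hx)⟩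

theorem le_cor {M B R : Subgroup G} (h1 : R ≤ M) (h2 : R ≤ B) (h : M ≤ normalizer (R : Set G)) :
    R ≤ cor M B := le_cor' h1 fun m hm => by rw [mem_normalizer_iff_cj.1 (h hm)]; exact h2

theorem subn_cor (M B : Subgroup G) : Subn M (cor M B) := .of_normal (cor_le M B) (le_normalizer_cor M B)

/-- normalizers of nontrivial normal subgroups of `M` lie in `M`. -/
def CF (M : Subgroup G) : Prop :=
  ∀ N : Subgroup G, N ≠ ⊥ → N ≤ M → M ≤ normalizer (N : Set G) → normalizer (N : Set G) ≤ M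

theorem cf_of_coatom {M : Subgroup G} (h : IsCoatom M) (hc : M.normalCore = ⊥) : CF M := fun N h0 h1 h2 => by
  rcases h2.eq_or_lt with e | e
  · exact e.ge
  · have := normalizer_eq_top_iff.mp (h.2 _ e)
    exact absurd (le_bot_iff.1 (hc ▸ normal_le_normalCore.2 h1)) h0

theorem CF.cj {M : Subgroup G} (h : CF M) (g : G) : CF (cj g M) := fun N h0 h1 h2 => by
  have := h (H17.cj g⁻¹ N) (by rwa [Ne, cj_eq_bot_iff]) (by simpa [cj_inv_cj] using cj_mono g⁻¹ h1)
    (by rw [← cj_normalizer]; simpa [cj_inv_cj] using cj_mono g⁻¹ h2)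
  rw [← cj_normalizer] at this
  simpa [cj_cj_inv] using cj_mono g this

theorem CF.prim {M : Subgroup G} (h : CF M) (N : Subgroup G) : Prim M N :=
  fun _ h0 h1 _ h2 => inf_le_right.trans (h _ h0 h1 h2)

theorem Subn.eq_of_selfnorm {H K : Subgroup G} (h : Subn H K) (hK : H ⊓ normalizer (K : Set G) ≤ K) : K = H := by
  induction h with
  | refl => rfl
  | @step K L h1 h2 h3 ih =>
    have e : K = L := le_antisymm h1 ((le_inf h3.le h2).trans hK)
    subst e
    exact ih hK

theorem oUp_sup_pgroup [Fact p.Prime] {X Q : Subgroup G} (hs : Subn (X ⊔ Q) X) (hQ : IsPGroup p Q)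
    (hn : X ≤ normalizer (Q : Set G)) : oUp p (X ⊔ Q) = oUp p X := by
  refine le_antisymm (oUp_le_iff.2 fun g hg hp => subset_closure ⟨hs.mem_of_coprime hg ?_, hp⟩)
    (oUp_mono p le_sup_left)
  obtain ⟨k, hk⟩ := hQ.exists_card_eq
  have h1 := card_sup_dvd hn
  rw [← card_mul_relIndex (le_sup_left : X ≤ X ⊔ Q), hk] at h1
  exact Nat.Coprime.coprime_dvd_left (Nat.dvd_of_mul_dvd_mul_left Nat.card_pos h1)
    (Nat.Coprime.pow_left _ ((Nat.Prime.coprime_iff_not_dvd Fact.out).2 hp))

theorem pgroup_of_oUp_eq_bot [Fact p.Prime] {X : Subgroup G} (h : oUp p X = ⊥) : IsPGroup p X := by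
  obtain ⟨S, hS⟩ := exists_isSyl p X
  have := hS.sup_oUp
  rw [h, bot_sup_eq] at this
  exact this ▸ hS.pgroup

/-- two subgroups of the same order, one normal in `M`, the other in `N`. -/
theorem eq_bot_of_same {M N R T : Subgroup G} (hM : CF M) (hN : CF N) (hne : M ≠ N) (hR : IsPGroup p R)
    (hT : IsPGroup p T) [Fact p.Prime] (hRM : R ≤ M) (hR' : M ≤ normalizer (R : Set G)) (hTN : T ≤ N)
    (hT' : N ≤ normalizer (T : Set G)) (hc : Nat.card R = Nat.card T) (hTM : T ≤ M) (hi : R ⊓ N ≤ T) :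
    T = ⊥ := by
  by_contra h0
  have hn : T ≤ normalizer (R : Set G) := hTM.trans hR'
  have hP : IsPGroup p (T ⊔ R : Subgroup G) := isPGroup_sup hn hT hR
  have e := (subn_of_nilpotent hP.isNilpotent T le_sup_left).eq_of_selfnorm (by
    refine (inf_le_inf_left _ (hN T h0 hTN hT')).trans ?_
    rw [sup_inf_of_le_left hn hTN]
    exact sup_le le_rfl hi)
  have e2 : R = T := eq_of_le_of_card_ge (e ▸ le_sup_right) hc.ge
  subst e2
  exact hne (le_antisymm (hR'.trans (hN R h0 hTN hT')) (hT'.trans (hM R h0 hRM hR')))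

theorem tw_bsub {M N : Subgroup G} (hN : CF N) (h : cor N (cor M (M ⊓ N) ⊓ cor N (M ⊓ N)) ≠ ⊥) :
    BSub (gfit M ⊓ cor M (M ⊓ N)) M := by
  set K := cor M (M ⊓ N)
  set X := cor N (K ⊓ cor N (M ⊓ N))
  have hXK : X ≤ K := (cor_le' _ _).trans inf_le_left
  have hs : Subn K X := .of_normal hXK ((cor_le' _ _).trans (inf_le_right.trans (le_normalizer_cor _ _)))
  refine ⟨(inf_comm K _) ▸ (subn_cor M (M ⊓ N)).inf_of_le (gfit_le M), le_inf inf_le_left ?_⟩
  have hn : M ≤ normalizer ((M ⊓ centralizer ((gfit M ⊓ K : Subgroup G) : Set G) : Subgroup G) : Set G) :=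
    le_normalizer_inf le_normalizer (le_normalizer_centralizer
      (le_normalizer_inf (le_normalizer_gfit M) (le_normalizer_cor _ _)))
  refine (inf_le_inf_right _ (gfit_le M)).trans (le_cor inf_le_left (inf_le_inf_left _ ?_) hn)
  rw [← (subn_cor M (M ⊓ N)).gfit_eq]
  refine (centralizer_anti hs.gfit_le_gfit).trans ((centralizer_le_normalizer _).trans
    (hN _ (by rwa [Ne, gfit_eq_bot_iff]) ((gfit_le X).trans (cor_le _ _))
    ((le_normalizer_cor _ _).trans (normalizer_le_gfit X))))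

theorem tw_charP {M N : Subgroup G} (hM : CF M) (hN : CF N) (hne : M ≠ N)
    (h1 : cor M (cor M (M ⊓ N) ⊓ cor N (M ⊓ N)) ≠ ⊥) (h2 : cor N (cor M (M ⊓ N) ⊓ cor N (M ⊓ N)) ≠ ⊥) :
    ∃ p : ℕ, p.Prime ∧ CharP p M ∧ CharP p N := by
  have hT := tw_bsub (M := N) (N := M) hM (by rwa [inf_comm N M, inf_comm (cor N _)])
  exact (bender_max (hM.prim N) (hN.prim M) (tw_bsub hN h2) hT
    (inf_le_right.trans ((cor_le' _ _).trans inf_le_right))
    (inf_le_right.trans ((cor_le' _ _).trans inf_le_right))).resolve_left hne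

theorem tw_pgroup [Fact p.Prime] {M N X : Subgroup G} (hM : CF M) (hN : CF N) (hne : M ≠ N) (hp : CharP p N)
    (hc : Nat.card (oP p M) = Nat.card (oP p N)) (hXM : X ≤ M) (hX : M ≤ normalizer (X : Set G))
    (hXK : X ≤ cor N (M ⊓ N)) : IsPGroup p X := by
  refine pgroup_of_oUp_eq_bot (by_contra fun h0 => ?_)
  set K := cor N (M ⊓ N)
  have hs : Subn N X := (subn_cor N (M ⊓ N)).trans
    (.of_normal hXK ((cor_le' _ _).trans (inf_le_left.trans hX)))
  have hXN : X ≤ N := hs.le
  have hY := hM _ h0 ((oUp_le p X).trans hXM) (hX.trans (normalizer_le_oUp p X))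
  have hq : X ≤ normalizer (oP p N : Set G) := hXN.trans (le_normalizer_oP p N)
  have e := oUp_sup_pgroup (hs.mono le_sup_left (sup_le hXN (oP_le p N))) (oP_pgroup p N) hq
  have key : ∀ R : Subgroup G, R ≤ N → ⁅R, X⁆ ≤ oP p N → R ≤ M := fun R h1 h2 => by
    refine le_trans ?_ hY
    rw [← e]
    refine le_trans (le_normalizer_of_commutator_le ?_) (normalizer_le_oUp p _)
    refine H4.commutator_sup_le' ?_ ?_ (le_sup_left.trans le_normalizer) (le_sup_right.trans le_normalizer)
    · exact h2.trans le_sup_right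
    · exact (commutator_le_right_of_le_normalizer (h1.trans (le_normalizer_oP p N))).trans le_sup_right
  have hQ : oP p N ≤ M := key _ (oP_le p N) (commutator_le_left_of_le_normalizer hq)
  have hB : oP p (M ⊓ N) ≤ K := by
    refine le_cor' ((oP_le p _).trans inf_le_right) fun m hm => ?_
    have h1 : cj m (oP p (M ⊓ N)) ≤ N := by
      simpa [cj_eq_of_mem hm] using cj_mono m ((oP_le p (M ⊓ N)).trans inf_le_right)
    refine le_inf (key _ h1 ((commutator_mono le_rfl hXK).trans ?_)) h1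
    have h2 : ⁅oP p (M ⊓ N), K⁆ ≤ oP p N := by
      refine le_trans (le_inf (commutator_le_left_of_le_normalizer ((cor_le' _ _).trans (le_normalizer_oP p _)))
        (commutator_le_right_of_le_normalizer (((oP_le p _).trans inf_le_right).trans (le_normalizer_cor _ _)))) ?_
      exact (oP_inf_le (cor_le' _ _)).trans (subn_cor _ _).oP_le_oP
    have h3 := cj_mono m h2
    rwa [cj_commutator, mem_normalizer_iff_cj.1 (le_normalizer_cor N (M ⊓ N) hm),
      mem_normalizer_iff_cj.1 (le_normalizer_oP p N hm)] at h3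
  have h4 : oP p N = ⊥ := eq_bot_of_same hM hN hne (oP_pgroup p M) (oP_pgroup p N) (oP_le p M)
    (le_normalizer_oP p M) (oP_le p N) (le_normalizer_oP p N) hc hQ (by
      have h5 : oP p M ⊓ N ≤ oP p (M ⊓ N) := le_trans (le_inf inf_le_left (inf_le_inf_right _ (oP_le p M)))
        (oP_inf_le inf_le_left)
      exact h5.trans ((le_inf le_rfl hB).trans ((oP_inf_le (cor_le' _ _)).trans (subn_cor _ _).oP_le_oP)))
  have h6 := charP_iff_gfit.1 hp
  rw [h4, gfit_eq_bot_iff] at h6
  exact h0 (le_bot_iff.1 (h6 ▸ (oUp_le p X).trans hXN))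

theorem relIndex_dvd_of_norm {C A L : Subgroup G} (hA : A ≤ L) (hn : L ≤ normalizer (C : Set G)) :
    C.relIndex A ∣ C.relIndex L := by
  have : (C.subgroupOf L).Normal := (normal_subgroupOf_iff_le_normalizer_inf.2 (le_normalizer_inf hn le_normalizer))
  rw [← relIndex_subgroupOf hA]
  exact relIndex_dvd_index_of_normal _ _

theorem relIndex_iInf_dvd {ι : Type*} (s : Finset ι) {f : ι → Subgroup G} {K : Subgroup G} {e : ℕ}
    (hn : ∀ i, K ≤ normalizer (f i : Set G)) (he : ∀ i, (f i).relIndex K ∣ e) :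
    (⨅ i ∈ s, f i).relIndex K ∣ e ^ s.card := by
  classical
  induction s using Finset.induction_on with
  | empty => simp
  | insert a s ha ih =>
    rw [Finset.iInf_insert, Finset.card_insert_of_notMem ha, ← relIndex_inf_mul_relIndex, pow_succ']
    exact mul_dvd_mul ((relIndex_dvd_of_norm inf_le_right (hn a)).trans (he a)) ih

theorem relIndex_cor_dvd (M B : Subgroup G) : (cor M B).relIndex M ∣ (B.relIndex M).factorial := by
  classical
  have e : (cor M B).subgroupOf M = (B.subgroupOf M).normalCore := by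
    rw [cor, subgroupOf, comap_map_eq_self_of_injective M.subtype_injective]
  rw [relIndex, e, normalCore_eq_ker, index_ker, relIndex, index_eq_card, ← Nat.card_perm]
  exact card_subgroup_dvd_card _

theorem tw_bound {M N : Subgroup G} (hc : Nat.card M = Nat.card N) :
    (cor M (cor M (M ⊓ N) ⊓ cor N (M ⊓ N))).relIndex M ∣
      (N.relIndex M).factorial * (N.relIndex M - 1).factorial ^ N.relIndex M := by
  classical
  set d := N.relIndex M with hd
  set K := cor M (M ⊓ N)
  set L := cor N (M ⊓ N)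
  have e1 : (M ⊓ N).relIndex M = d := inf_relIndex_left M N
  have e2 : (M ⊓ N).relIndex N = d := by
    have h1 := card_mul_relIndex (inf_le_left : M ⊓ N ≤ M)
    have h2 := card_mul_relIndex (inf_le_right : M ⊓ N ≤ N)
    rw [← hc, ← h1, e1] at h2
    exact Nat.eq_of_mul_eq_mul_left Nat.card_pos h2
  have d0 : d ≠ 0 := FiniteIndex.index_ne_zero
  have h3 : L.relIndex (M ⊓ N) ∣ (d - 1).factorial := by
    have h4 := relIndex_cor_dvd N (M ⊓ N)
    rw [← relIndex_mul_relIndex L (M ⊓ N) N (cor_le' _ _) inf_le_right, e2, ← Nat.mul_factorial_pred d0,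
      mul_comm d] at h4
    exact Nat.dvd_of_mul_dvd_mul_right (Nat.pos_of_ne_zero d0) h4
  have hKL : K ≤ normalizer (L : Set G) := (cor_le' _ _).trans (inf_le_right.trans (le_normalizer_cor _ _))
  have h5 : L.relIndex K ∣ (d - 1).factorial :=
    (relIndex_dvd_of_norm (cor_le' _ _) (inf_le_right.trans (le_normalizer_cor _ _))).trans h3
  have : Fintype (M ⧸ N.subgroupOf M) := Fintype.ofFinite _
  let f : M ⧸ N.subgroupOf M → Subgroup G := fun c => cj ((c.out : M) : G) L
  have hK : ∀ m : M, cj (m : G) K = K := fun m => mem_normalizer_iff_cj.1 (le_normalizer_cor _ _ m.2)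
  have h6 := relIndex_iInf_dvd Finset.univ (f := f) (K := K) (e := (d - 1).factorial)
    (fun c => by
      have := cj_mono ((c.out : M) : G) hKL
      rwa [hK, cj_normalizer] at this)
    (fun c => by
      have := relIndex_map_map_of_injective (f := (MulAut.conj ((c.out : M) : G)).toMonoidHom) L K
        (MulAut.conj _).injective
      change (cj _ L).relIndex (cj _ K) = _ at this
      rw [hK] at this
      exact this ▸ h5)
  have e3 : (Finset.univ : Finset (M ⧸ N.subgroupOf M)).card = d := by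
    rw [Finset.card_univ, hd, relIndex, index_eq_card, Nat.card_eq_fintype_card]
  have h7 : (⨅ i ∈ Finset.univ, f i) ⊓ K ≤ cor M (K ⊓ L) := by
    refine le_cor' (inf_le_right.trans (cor_le _ _)) fun m hm => le_inf ?_ ?_
    · exact (cj_mono m inf_le_right).trans (hK ⟨m, hm⟩).le
    · obtain ⟨b, hb⟩ := QuotientGroup.mk_out_eq_mul (N.subgroupOf M) (⟨m, hm⟩⁻¹ : M)
      refine (cj_mono m (inf_le_left.trans (biInf_le f (Finset.mem_univ (QuotientGroup.mk (⟨m, hm⟩⁻¹ : M)))))).trans ?_
      simp only [f, hb]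
      rw [← cj_mul]
      simp only [coe_mul, InvMemClass.coe_inv, mul_inv_cancel_left]
      exact (mem_normalizer_iff_cj.1 (le_normalizer_cor N (M ⊓ N) b.2)).le
  rw [← relIndex_mul_relIndex _ K M ((cor_le' _ _).trans inf_le_left) (cor_le _ _), mul_comm]
  refine mul_dvd_mul (e1 ▸ relIndex_cor_dvd M (M ⊓ N)) ?_
  rw [e3, ← inf_relIndex_right] at h6
  exact (relIndex_dvd_of_le_left _ h7).trans h6

theorem tw_card {M N : Subgroup G} (hc : Nat.card M = Nat.card N)
    (h : cor M (cor M (M ⊓ N) ⊓ cor N (M ⊓ N)) = ⊥ ∨ cor N (cor M (M ⊓ N) ⊓ cor N (M ⊓ N)) = ⊥) :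
    Nat.card M ∣ (N.relIndex M).factorial * (N.relIndex M - 1).factorial ^ N.relIndex M := by
  rcases h with h | h
  · simpa [h] using tw_bound hc
  · have h1 := tw_bound hc.symm
    have e : M.relIndex N = N.relIndex M := by
      have h1 := card_inf_mul_relIndex M N
      have h2 := card_inf_mul_relIndex N M
      rw [inf_comm N M, hc, ← h1] at h2
      exact (Nat.eq_of_mul_eq_mul_left Nat.card_pos h2).symm
    rw [inf_comm N M, inf_comm (cor N _), h, e, relIndex_bot_left] at h1
    exact hc ▸ h1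

theorem oP_eq_bot_of_conj [Fact p.Prime] {M : Subgroup G} {g : G} (hM : CF M) (hne : M ≠ cj g M)
    (h : oP p (M ⊓ cj g M) ≤ cor M (M ⊓ cj g M)) : oP p (M ⊓ cj g M) = ⊥ := by
  set K := cor M (M ⊓ cj g M)
  have hs : Subn (M ⊓ cj g M) K := (subn_cor _ _).mono (cor_le' _ _) inf_le_left
  have e : oP p (M ⊓ cj g M) = oP p K := le_antisymm (by rw [hs.oP_eq]; exact le_inf le_rfl h) hs.oP_le_oP
  have hn : M ≤ normalizer (oP p K : Set G) := (le_normalizer_cor _ _).trans (normalizer_le_oP p K)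
  have hle : oP p K ≤ M := (oP_le p K).trans (cor_le _ _)
  have hn' : cj g M ≤ normalizer (cj g (oP p K) : Set G) := by rw [← cj_normalizer]; exact cj_mono g hn
  have hp' : IsPGroup p (cj g (oP p K)) := (oP_pgroup p K).map _
  rw [e]
  refine eq_bot_of_same (hM.cj g) hM hne.symm hp' (oP_pgroup p K) (cj_mono g hle) hn' hle hn (card_cj _ _)
    ((oP_le p K).trans ((cor_le' _ _).trans inf_le_right)) ?_
  refine le_trans ?_ e.le
  exact le_oP (le_inf inf_le_right (inf_le_left.trans (cj_mono g hle)))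
    (le_normalizer_inf (inf_le_right.trans hn') (inf_le_left.trans le_normalizer)) hp'.to_inf_left

/-- the group-theoretic translation of a primitive action with a suborbit of length `≥ 2`. -/
theorem prim_data {Ω : Type*} [MulAction G Ω] [FaithfulSMul G Ω] [Finite Ω]
    (hprim : MulAction.IsPreprimitive G Ω) (a b : Ω) {d : ℕ}
    (hd : Nat.card (MulAction.orbit (MulAction.stabilizer G a) b) = d) (h2 : 2 ≤ d) :
    CF (MulAction.stabilizer G a) ∧ (∃ g, MulAction.stabilizer G b = cj g (MulAction.stabilizer G a)) ∧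
      MulAction.stabilizer G a ≠ MulAction.stabilizer G b ∧
      (MulAction.stabilizer G b).relIndex (MulAction.stabilizer G a) = d := by
  have e : (MulAction.stabilizer G b).relIndex (MulAction.stabilizer G a) = d := by
    rw [← hd, Nat.card_coe_set_eq, ← MulAction.index_stabilizer]; rfl
  have hne : MulAction.stabilizer G a ≠ MulAction.stabilizer G b := fun h => by
    rw [← h, relIndex_self] at e; omega
  have : Nontrivial Ω := ⟨a, b, fun h => hne (h ▸ rfl)⟩
  obtain ⟨g, hg⟩ := MulAction.exists_smul_eq G a b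
  refine ⟨cf_of_coatom ((MulAction.isCoatom_stabilizer_iff_preprimitive G a).2 hprim) ?_,
    ⟨g, by rw [← hg, MulAction.stabilizer_smul_eq_stabilizer_map_conj]⟩, hne, e⟩
  refine eq_bot_iff.2 fun x hx => ?_
  refine eq_of_smul_eq_smul (α := Ω) fun c => ?_
  obtain ⟨k, rfl⟩ := MulAction.exists_smul_eq G a c
  have := hx k⁻¹
  rw [inv_inv, MulAction.mem_stabilizer_iff, mul_smul, mul_smul, inv_smul_eq_iff] at this
  rw [this, one_smul]

theorem tw_main {M : Subgroup G} {g : G} (hM : CF M) (hne : M ≠ cj g M)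
    (h1 : cor M (cor M (M ⊓ cj g M) ⊓ cor (cj g M) (M ⊓ cj g M)) ≠ ⊥)
    (h2 : cor (cj g M) (cor M (M ⊓ cj g M) ⊓ cor (cj g M) (M ⊓ cj g M)) ≠ ⊥) :
    ∃ p : ℕ, p.Prime ∧ CharP p M ∧ CharP p (cj g M) ∧
      IsPGroup p (cor M (cor M (M ⊓ cj g M) ⊓ cor (cj g M) (M ⊓ cj g M))) ∧
      IsPGroup p (cor (cj g M) (cor M (M ⊓ cj g M) ⊓ cor (cj g M) (M ⊓ cj g M))) := by
  obtain ⟨p, hp, c1, c2⟩ := tw_charP hM (hM.cj g) hne h1 h2
  have := Fact.mk hp
  have hc : Nat.card (oP p M) = Nat.card (oP p (cj g M)) := by rw [← cj_oP, card_cj]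
  refine ⟨p, hp, c1, c2, tw_pgroup hM (hM.cj g) hne c2 hc (cor_le _ _) (le_normalizer_cor _ _)
    ((cor_le' _ _).trans inf_le_right), tw_pgroup (hM.cj g) hM hne.symm c1 hc.symm (cor_le _ _)
    (le_normalizer_cor _ _) ?_⟩
  rw [inf_comm (cj g M) M]
  exact (cor_le' _ _).trans inf_le_left

end H17
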